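import Cfsg.Agent.H290.ElReg
import Cfsg.Agent.H203.OrthHeis
import Cfsg.Agent.H95.LSx.F42
import Cfsg.Agent.H203.LSTor_m3
import Cfsg.Agent.H806.LsFiTwo_m3
import Cfsg.Agent.H193.Hall.U43
import Cfsg.Agent.H62.GTwoEmb
import Cfsg.Agent.H957.CfRankOne
import Cfsg.Agent.H927.SgXExc
import Cfsg.Agent.LieClassical.FieldTransfer
import Cfsg.Agent.S0825
import Cfsg.Agent.S0826
import Cfsg.Agent.S2140
import Cfsg.Agent.S2146
import Cfsg.Agent.S2148
import Cfsg.Agent.S2150
import Cfsg.Agent.TH.Sim.Dat_m3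
import Cfsg.Agent.H889.Enum.Aut_m3
import Cfsg.Agent.Prune
set_option linter.all false

section
prune_inst 0x7f00000000000000000000000000000000000000000000000000000000000000000000000000000000000000000000000000000000000000000000000000000000000000000000000000000000000000003fffffffffffffffffffffffffffbeffbdffffffff

-- part: TH/Sim/LieDeg
section
set_option linter.all false
open scoped Cfsg.Agent.FastGrp

/-!
# S3541, box SimLie: degrees of projective representations in cross characteristic, indices of subgroups (helper6)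
-/

set_option autoImplicit false

namespace Cfsg.Agent.TH.Sim.LieN

open Cfsg Cfsg.Agent.OrdDiv Cfsg.Agent.H902 Cfsg.Agent.H902.Names Cfsg.Agent.H912.Bd Cfsg.Agent.H203.LS
open Cfsg.Agent.H95.LSx Cfsg.Agent.H290.ElReg

/-- the bound for kernels of order prime to the characteristic (classical groups) -/
def lc : Art.Sh → ℕ → ℕ
  | .L n, q => if n = 2 then (q - 1) / Nat.gcd 2 (q - 1) else q ^ (n - 1) - 1
  | .C m, q => if q % 2 = 0 then q ^ m - 1 else (q ^ m - 1) / 2
  | .U n, q => (q - 1) * q ^ (n - 2)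
  | .D m, q => (q - 1) * q ^ (2 * m - 4)
  | .DD m, q => (q - 1) * q ^ (2 * m - 4)
  | _, _ => 0

/-- the bound for all kernels -/
def lp : Art.Sh → ℕ → ℕ
  | .L n, q => if n = 3 ∧ q = 4 then 0 else lc (.L n) q
  | .C m, q => lc (.C m) q
  | .U n, q => if n = 4 ∧ q = 3 then 6 else lc (.U n) q
  | .D m, q => if m = 4 ∧ q = 2 then 7 else lc (.D m) q
  | .DD m, q => lc (.DD m) q
  | .G2, q => if q = 4 then 12 else if q = 3 then 14 else (q - 1) * q
  | .F4, q => (q - 1) * q ^ 4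
  | .E6, q => (q - 1) * q ^ 10
  | .E7, q => (q - 1) * q ^ 16
  | .E8, q => (q - 1) * q ^ 28
  | .TE6, q => (q - 1) * q ^ 6
  | .TD4, q => (q - 1) * q ^ 4
  | .Sz, q => q - 1
  | .Ree, q => q - 1
  | .TF4, q => (q - 1) * q ^ 2

/-- the bound for the index of a proper subgroup -/
def li : Art.Sh → ℕ → ℕ
  | .L n, q => if n = 3 ∧ q = 4 then 21 else lp (.L n) q
  | .U n, q => if n = 3 ∧ q = 3 then 28 else if n = 4 ∧ q = 3 then 112 else lp (.U n) q
  | .D m, q => if m = 4 ∧ q = 2 then 120 else lp (.D m) q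
  | .Sz, q => 2 * (q - 1)
  | X, q => lp X q

/-- the names which are not used -/
def Ex (X : Art.Sh) (q : ℕ) : Prop :=
  X = .L 2 ∧ (q = 4 ∨ q = 5 ∨ q = 9) ∨ q = 2 ∧ (X = .L 3 ∨ X = .L 4 ∨ X = .U 4)

instance (X : Art.Sh) (q : ℕ) : Decidable (Ex X q) := by unfold Ex; infer_instance

theorem ls_alt {K : Type} [Field K] [Fintype K] [DecidableEq K] [CharP K 2] (hK : Fintype.card K = 8) :
    LS.{0, 0, 0} 2 7 (alternatingGroup K) := by
  have hc : Nat.card K = 8 := by rw [Nat.card_eq_fintype_card, hK]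
  have := alternatingGroup.isSimpleGroup (α := K) (by omega)
  obtain ⟨u, hu⟩ := IsCyclic.exists_generator (α := Kˣ)
  have h7 : orderOf u = 7 := by rw [orderOf_eq_card_of_forall_mem_zpowers hu, Nat.card_units, hc]
  have h1 : (u : K) + 1 ≠ 0 := fun h => by
    have h2 : u = 1 := Units.ext (by rw [eq_neg_of_add_eq_zero_left h, CharTwo.neg_eq]; rfl)
    rw [h2, orderOf_one] at h7
    omega
  have hcj : ∀ x : K, MulAction.toPerm u * Equiv.addLeft x * (MulAction.toPerm u)⁻¹ = Equiv.addLeft (u * x : K) := by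
    intro x
    rw [mul_inv_eq_iff_eq_mul]
    ext y
    simp [Units.smul_def]
  have hadd : ∀ x y : K, Equiv.addLeft (x + y) = Equiv.addLeft x * Equiv.addLeft y := fun x y => by
    ext z; simp
  have hα : ∀ x : K, Equiv.addLeft x ∈ alternatingGroup K := fun x => by
    obtain ⟨y, rfl⟩ : ∃ y, x = u * y + y := ⟨x / (u + 1), by field_simp⟩
    rw [Equiv.Perm.mem_alternatingGroup, hadd, ← hcj, map_mul, map_mul, map_mul, map_inv, mul_inv_cancel_comm,
      Int.units_mul_self]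
  have hcu : MulAction.toPerm u ∈ alternatingGroup K := by
    have h2 : (MulAction.toPermHom Kˣ K u) ^ 7 = 1 := by rw [← map_pow, ← h7, pow_orderOf_eq_one, map_one]
    have h3 := congrArg Equiv.Perm.sign h2
    rw [map_pow, map_one] at h3
    rw [Equiv.Perm.mem_alternatingGroup]
    rcases Int.units_eq_one_or (Equiv.Perm.sign (MulAction.toPermHom Kˣ K u)) with h | h
    · exact h
    · rw [h] at h3; exact absurd h3 (by decide)
  have h := LS.frob_gen.{0, 0, 0} (r := 2) (K := K) (by omega) (T := alternatingGroup K) (α := fun x => ⟨_, hα x⟩)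
    (fun x y => Subtype.ext (hadd x y)) (x₀ := 1) (fun h => by
      have h2 := DFunLike.congr_fun (congrArg Subtype.val h) 0
      simp at h2) hu (c := ⟨_, hcu⟩) fun x => Subtype.ext (hcj x)
  rwa [hc] at h

theorem ls_a8 : LS.{0, 0, 0} 2 7 (alternatingGroup (Fin 8)) := by
  classical
  have : Fintype (GaloisField 2 3) := Fintype.ofFinite _
  have hK : Fintype.card (GaloisField 2 3) = 8 := by
    rw [← Nat.card_eq_fintype_card, GaloisField.card 2 3 (by norm_num)]; rfl
  exact (ls_alt hK).congr (Fintype.equivFinOfCardEq hK).altCongrHom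

theorem ls_of_a8 {T Y : Type} [Group T] [IsSimpleGroup T] [Group Y] (g : alternatingGroup (Fin 8) →* Y)
    (hg : Function.Injective g) (f : Y →* T) (hf : f.ker ≤ Subgroup.center Y) : LS.{0, 0, 0} 2 7 T := by
  have hc : commutator (alternatingGroup (Fin 8)) = ⊤ := commutator_alternatingGroup_eq_top (by simp)
  refine LS.of_hom hc (f.comp g) (fun h => ?_) (MonoidHom.id _) Function.surjective_id
    (fun x hx => by rw [show x = 1 from hx]; exact one_mem _) ls_a8
  have h1 : ∀ a b : alternatingGroup (Fin 8), a * b = b * a := fun a b => hg (by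
    rw [map_mul, map_mul]
    exact Subgroup.mem_center_iff.1 (hf (DFunLike.congr_fun h b)) _)
  have h2 := congrArg Subtype.val (h1 ⟨Equiv.swap 0 1 * Equiv.swap 1 2, by simp⟩ ⟨Equiv.swap 1 2 * Equiv.swap 2 3, by simp⟩)
  exact absurd h2 (by decide)

theorem ls_s62 {K S : Type} [Field K] [Fintype K] [Group S] [IsSimpleGroup S] (hK : Fintype.card K = 2)
    (e : S ≃* PSp 3 K) : LS.{0, 0, 0} 2 7 S := by
  obtain ⟨f, hf⟩ := S0826.result 4 (by norm_num)
  let e' := LieClassical.FieldTransfer.pspCongr 3 (ZMod.ringEquivOfPrime K Nat.prime_two hK)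
  refine ls_of_a8 (Y := Matrix.symplecticGroup (Fin 3) (ZMod 2)) (f.comp (alternatingGroup (Fin 8)).subtype)
    (hf.comp (Subgroup.subtype_injective _)) ((e'.trans e.symm).toMonoidHom.comp (QuotientGroup.mk' _)) fun x hx => ?_
  have h1 : (e'.trans e.symm) (QuotientGroup.mk' _ x) = 1 := hx
  rwa [MulEquiv.map_eq_one_iff, QuotientGroup.mk'_apply, QuotientGroup.eq_one_iff] at h1

theorem ls_o82 {K S : Type} [Field K] [Fintype K] [Group S] [IsSimpleGroup S] (hK : Fintype.card K = 2)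
    (e : S ≃* POmega K (quadFormPlus 4 K)) : LS.{0, 0, 0} 2 7 S := by
  obtain ⟨θ⟩ := S0825.result hK
  obtain ⟨f, hf⟩ := exists_plus (K := K) (m := 3) (n := 4) (by norm_num)
  let g := θ.symm.toMonoidHom.comp (alternatingGroup (Fin 8)).subtype
  have hc : commutator (alternatingGroup (Fin 8)) = ⊤ := commutator_alternatingGroup_eq_top (by simp)
  have hmem : ∀ x, g x ∈ commutator (isometryGroup K (quadFormPlus 3 K)) := fun x => by
    have h1 : (⊤ : Subgroup (alternatingGroup (Fin 8))).map g ≤ commutator _ := by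
      rw [← hc, commutator_def, Subgroup.map_commutator, commutator_def]
      exact Subgroup.commutator_mono le_top le_top
    exact h1 (Subgroup.mem_map_of_mem g (Subgroup.mem_top x))
  refine ls_of_a8 (Y := Omega K (quadFormPlus 3 K)) (g.codRestrict _ hmem)
    (fun a b h => (θ.symm.injective.comp (Subgroup.subtype_injective _)) (congrArg Subtype.val h))
    (e.symm.toMonoidHom.comp f) fun x hx => hf ?_
  have h1 : e.symm (f x) = 1 := hx
  rwa [MulEquiv.map_eq_one_iff] at h1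

theorem ls_g24 {K S : Type} [Field K] [Fintype K] [Group S] [IsSimpleGroup S] (hK : Fintype.card K = 4)
    (e : S ≃* Lie.chevG2.group K) : LS.{0, 0, 0} 2 12 S := by
  have : Fintype (GaloisField 2 4) := Fintype.ofFinite _
  have hL : Fintype.card (GaloisField 2 4) = 4 ^ 2 := by
    rw [← Nat.card_eq_fintype_card, GaloisField.card 2 4 (by norm_num)]; rfl
  obtain ⟨f, hf⟩ := H62.GTwoEmb.psu_g2 hK hL
  have := S0283.result hL 3 le_rfl (by norm_num)
  have h1 : LS.{0, 0, 0} 2 12 (PSU 3 (GaloisField 2 4) 4) :=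
    LS.of_bd (NoR.of_cyclic (S2089.result 3 4 hL le_rfl (by norm_num) (by simp)) (by decide)) fun k _ hk =>
      H175.BdSU.bd_psu Nat.prime_two hL le_rfl hk (MulEquiv.refl _)
  have h2 : Nat.card (PSU 3 (GaloisField 2 4) 4) = 62400 := by
    have h3 := (psu_real (p := 2) (f := 2) Nat.prime_two (by norm_num) hL le_rfl (by norm_num)).eq
    have h4 : Art.dd (.U 3) (2 ^ 2) = 1 := by decide
    have h5 : (2 ^ 2) ^ Art.NN (.U 3) * Art.num (.U 3) (2 ^ 2) = 62400 := by decide
    rwa [h4, h5, one_mul] at h3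
  have : Finite (PSU 3 (GaloisField 2 4) 4) := Nat.finite_of_card_ne_zero (by omega)
  refine LS.of_sub (perfect_of_simple fun hc => ?_) (e.symm.toMonoidHom.comp f) (e.symm.injective.comp hf) h1
  have h3 := @IsSimpleGroup.prime_card (PSU 3 (GaloisField 2 4) 4)
    { (inferInstance : Group _) with mul_comm := hc.is_comm.comm } ‹_›
  rw [h2] at h3
  norm_num at h3

section

variable {S : Type} [Group S] {g : Grp} {X : Art.Sh} {r f : ℕ}

theorem half_le {q m : ℕ} (hq : 3 ≤ q) (hm : 3 ≤ m) : (q ^ m - 1) / 2 ≤ (q - 1) * q ^ (2 * m - 3) := by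
  have h1 : q ^ m ≤ q ^ (2 * m - 3) := Nat.pow_le_pow_right (by omega) (by omega)
  have h2 : 1 * q ^ (2 * m - 3) ≤ (q - 1) * q ^ (2 * m - 3) := Nat.mul_le_mul_right _ (by omega)
  omega

theorem bd_lc (hg : IsLie g X r f) (h : OrdDiv.Real g S) (hr : Art.Real X r f (Nat.card S)) {k : Type} [Field k]
    (hk : (r : k) ≠ 0) : Bd k r (lc X (r ^ f)) S := by
  obtain ⟨hl, ha, hok, -⟩ := hr
  cases hg with
  | psl m p f =>
    obtain ⟨K, _, _, hK, ⟨e⟩⟩ := h
    have := charP_of_pow hl hK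
    rw [lc]
    split_ifs with h2
    · subst h2
      refine H203.BdSL2.bd_of_sl2 hl hK hk (e.symm.toMonoidHom.comp (QuotientGroup.mk' _)) fun x hx => ?_
      have h1 : e.symm (QuotientGroup.mk' _ x) = 1 := hx
      rwa [MulEquiv.map_eq_one_iff, QuotientGroup.mk'_apply, QuotientGroup.eq_one_iff] at h1
    · rw [← hK]
      exact (bd_psl hl hk (by have := hok.1; omega) inferInstance).congr e
  | psp m p f =>
    obtain ⟨K, _, _, hK, ⟨e⟩⟩ := h
    have := charP_of_pow hl hK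
    rw [lc]
    split_ifs with h2
    · obtain rfl : r = 2 := ((Nat.prime_dvd_prime_iff_eq Nat.prime_two hl).1
        (Nat.prime_two.dvd_of_dvd_pow (Nat.dvd_of_mod_eq_zero h2))).symm
      exact H175.BdSp.bd_psp_even hK (by have := hok.1; omega) (by exact_mod_cast hk) e
    · exact H175.BdSp.bd_psp hl hK (by have := hok.1; omega) hk e
  | oodd m p f hm ho =>
    obtain ⟨K, _, _, hK, ⟨e⟩⟩ := h
    have hc := charP_of_pow hl hK
    have h1 := Nat.odd_iff.1 ho
    have h2 : (2 : K) ≠ 0 := fun h2 => by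
      obtain rfl := (Nat.prime_dvd_prime_iff_eq hl Nat.prime_two).1 ((CharP.cast_eq_zero_iff K r 2).1 (by exact_mod_cast h2))
      rw [Nat.odd_pow_iff (by omega)] at ho
      exact absurd ho (by decide)
    have h3 : 1 < r ^ f := Nat.one_lt_pow (by omega) hl.one_lt
    rw [lc, if_neg (by omega)]
    intro n hn
    have h4 := (H203.OrthHeis.bd_pomega_odd_heis hl hk hK h2 hm).congr e n hn
    rw [hK] at h4
    exact (half_le (by omega) hm).trans h4
  | psu m p f =>
    obtain ⟨K, _, _, hK, ⟨e⟩⟩ := h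
    have := charP_of_pow hl (a := f * 2) (by rw [hK, pow_mul])
    exact H175.BdSU.bd_psu hl hK hok.1 hk e
  | oplus m p f =>
    obtain ⟨K, _, _, hK, ⟨e⟩⟩ := h
    have h4 := (H203.OrthHeis.bd_pomega_plus_heis hl hk hK hok).congr e
    rwa [hK] at h4
  | ominus m p f =>
    obtain ⟨K, _, _, b, c, hK, hab, ⟨e⟩⟩ := h
    have h4 := (H203.OrthHeis.bd_pomega_minus_heis hl hk hK hok hab).congr e
    rwa [hK] at h4
  | _ => exact fun _ _ => Nat.zero_le _

theorem eq_of_pow {r f s k : ℕ} (hr : r.Prime) (hf : 1 ≤ f) (hs : s.Prime) (h : r ^ f = s ^ k) : r = s :=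
  eq_of_dvd_prime_pow hr hs (h ▸ dvd_pow_self r (by omega))

variable [IsSimpleGroup S]

theorem ls_lp (hg : IsLie g X r f) (h : OrdDiv.Real g S) (hr : Art.Real X r f (Nat.card S)) (hx : ¬ Ex X (r ^ f)) :
    LS.{0, 0, 0} r (lp X (r ^ f)) S := by
  have key : NoR.{0} r S → LS.{0, 0, 0} r (lc X (r ^ f)) S := fun hN => LS.of_bd hN fun k _ hk => bd_lc hg h hr hk
  obtain ⟨hl, ha, hok, -⟩ := hr
  have hd : r ∣ r ^ f := dvd_pow_self r (by omega)
  have h0 : 0 < r ^ f := pow_pos hl.pos f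
  have hq : IsPrimePow (r ^ f) := hl.isPrimePow.pow (by omega)
  cases hg with
  | psl m p f =>
    obtain ⟨K, _, _, hK, ⟨e⟩⟩ := h
    rw [lp]
    split_ifs with h2
    · exact fun _ _ _ _ _ _ _ _ _ _ _ _ _ => Nat.zero_le _
    · refine key ((NoR.of_cyclic (S2086.result hK m hok.1 hok.2 ?_) (coprime_gcd_sub hl h0 hd)).congr e)
      simp only [Ex, Art.Sh.L.injEq, reduceCtorEq] at hx
      simp only [Set.mem_insert_iff, Set.mem_singleton_iff, Prod.mk.injEq]
      omega
  | psp m p f =>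
    obtain ⟨K, _, _, hK, ⟨e⟩⟩ := h
    by_cases h2 : m = 3 ∧ r ^ f = 2
    · obtain ⟨rfl, h2⟩ := h2
      obtain rfl := eq_of_pow hl ha Nat.prime_two (k := 1) h2
      rw [h2] at hK ⊢
      exact ls_s62 hK e
    · exact key ((NoR.of_cyclic (S2092.result hK m hok.1 hok.2 h2) (coprime_gcd_sub hl h0 hd)).congr e)
  | oodd m p f hm ho =>
    obtain ⟨K, _, _, hK, ⟨e⟩⟩ := h
    by_cases h2 : m = 3 ∧ r ^ f = 3
    · obtain ⟨rfl, h2⟩ := h2
      obtain rfl := eq_of_pow hl ha Nat.prime_three (k := 1) h2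
      rw [h2] at hK ⊢
      exact ((ls_o73 hK).congr e.symm).mono (by decide)
    · exact key ((NoR.of_cyclic (S2094.result hK ho m hm h2) (Nat.coprime_two_left.2 (Odd.of_dvd_nat ho hd))).congr e)
  | psu m p f =>
    obtain ⟨K, _, _, hK, ⟨e⟩⟩ := h
    rw [lp]
    split_ifs with h2
    · obtain ⟨rfl, h2⟩ := h2
      obtain rfl := eq_of_pow hl ha Nat.prime_three (k := 1) h2
      rw [h2] at hK e
      exact (H193.Hall.ls_u43 hK).congr e.symm
    by_cases h3 : m = 6 ∧ r ^ f = 2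
    · obtain ⟨rfl, h3⟩ := h3
      obtain rfl := eq_of_pow hl ha Nat.prime_two (k := 1) h3
      rw [h3] at hK e ⊢
      exact (Uni.ls_u62 hK).congr e.symm
    · refine key ((NoR.of_cyclic (S2089.result m _ hK hok.1 (fun h => by have := hok.2 h.1; omega) ?_)
        (coprime_gcd_add hl hd)).congr e)
      simp only [Ex, Art.Sh.U.injEq, reduceCtorEq] at hx
      simp only [Set.mem_insert_iff, Set.mem_singleton_iff, Prod.mk.injEq]
      omega
  | oplus m p f =>
    obtain ⟨K, _, _, hK, ⟨e⟩⟩ := h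
    have hm : 4 ≤ m := hok
    have h1 : (Nat.gcd 2 ((r ^ f) ^ m - 1)).Coprime r := coprime_gcd_sub hl (pow_pos h0 _) (dvd_pow hd (by omega))
    rw [lp]
    split_ifs with h2
    · obtain ⟨rfl, h2⟩ := h2
      obtain rfl := eq_of_pow hl ha Nat.prime_two (k := 1) h2
      exact ls_o82 (hK.trans h2) e
    rcases Nat.even_or_odd m with hev | hod
    · refine key ((NoR.of_mult (S2097.result hK m hm hev h2) ?_).congr e)
      rw [Nat.card_congr Multiplicative.toAdd, Nat.card_prod, Nat.card_zmod]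
      exact Nat.Coprime.mul_left h1 h1
    · exact key ((NoR.of_cyclic (S2096.result hK m (by have := Nat.odd_iff.1 hod; omega) hod)
        (coprime_gcd_sub hl (pow_pos h0 _) (dvd_pow hd (by omega)))).congr e)
  | ominus m p f =>
    obtain ⟨K, _, _, b, c, hK, hab, ⟨e⟩⟩ := h
    have hm : 4 ≤ m := hok
    exact key ((NoR.of_cyclic (S2099.result hK m hm b c hab) (coprime_gcd_add hl (dvd_pow hd (by omega)))).congr e)
  | g2 p f =>
    obtain ⟨K, _, _, hK, ⟨e⟩⟩ := h
    have hc := charP_of_pow hl hK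
    have h3 : 3 ≤ r ^ f := hok
    rw [lp]
    split_ifs with h4 h5
    · obtain rfl := eq_of_pow hl ha Nat.prime_two (k := 2) h4
      exact ls_g24 (hK.trans h4) e
    · obtain rfl := eq_of_pow hl ha Nat.prime_three (k := 1) h5
      exact (G23.ls (hK.trans h5)).congr e.symm
    · have h6 := (H203.LS.G2.ls.{0, 0, 0} (r := r) K (by rw [Nat.card_eq_fintype_card]; omega)
        (by rw [Nat.card_eq_fintype_card]; omega)).congr e.symm
      rwa [Nat.card_eq_fintype_card, hK] at h6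
  | f4 p f =>
    obtain ⟨K, _, _, hK, ⟨e⟩⟩ := h
    have hc := charP_of_pow hl hK
    by_cases h4 : r ^ f = 2
    · obtain rfl := eq_of_pow hl ha Nat.prime_two (k := 1) h4
      rw [h4] at hK ⊢
      exact (ls_f4_two hK).congr e.symm
    have h1 : 1 < r ^ f := Nat.one_lt_pow (by omega) hl.one_lt
    have h5 : LS.{0, 0, 0} r ((Nat.card K - 1) * Nat.card K ^ 4) (Lie.chevF4.group K) := by
      by_cases h2 : (2 : K) = 0
      · exact F4even.ls_even K h2 (by rw [Nat.card_eq_fintype_card]; omega)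
      · exact F4odd.ls_odd K h2
    rw [Nat.card_eq_fintype_card, hK] at h5
    exact h5.congr e.symm
  | e6 p f =>
    obtain ⟨K, _, _, hK, ⟨e⟩⟩ := h
    have hc := charP_of_pow hl hK
    have h5 := (H203.LS.E6.ls.{0, 0, 0} (r := r) K).congr e.symm
    rwa [Nat.card_eq_fintype_card, hK] at h5
  | e7 p f =>
    obtain ⟨K, _, _, hK, ⟨e⟩⟩ := h
    have hc := charP_of_pow hl hK
    have h5 := (H203.LS.E7.ls.{0, 0, 0} (r := r) K).congr e.symm
    rwa [Nat.card_eq_fintype_card, hK] at h5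
  | e8 p f =>
    obtain ⟨K, _, _, hK, ⟨e⟩⟩ := h
    have hc := charP_of_pow hl hK
    have h5 := (H203.LS.E8.ls.{0, 0, 0} (r := r) K).congr e.symm
    rwa [Nat.card_eq_fintype_card, hK] at h5
  | te6 p f =>
    obtain ⟨K, _, _, hK, ⟨e⟩⟩ := h
    have hc := charP_of_pow hl (a := f * 2) (by rw [hK, pow_mul])
    exact (H203.LS.TwE6.ls hq hK).congr e.symm
  | td4 p f =>
    obtain ⟨K, _, _, hK, ⟨e⟩⟩ := h
    have hc := charP_of_pow hl (a := f * 3) (by rw [hK, pow_mul])
    exact (H203.LS.TwD4.ls hq hK).congr e.symm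
  | sz p f =>
    obtain ⟨K, _, _, m, hm, hK, hq, ⟨e⟩⟩ := h
    obtain ⟨rfl, -, -⟩ := hok
    have h5 := (LS.sz.{0, 0, 0} hm (hK.trans hq)).congr e.symm
    rwa [Nat.card_eq_fintype_card, hK] at h5
  | ree p f =>
    obtain ⟨K, _, _, m, hm, hK, hq, ⟨e⟩⟩ := h
    obtain ⟨rfl, -, -⟩ := hok
    have h5 := (LS.ree.{0, 0, 0} hm (hK.trans hq)).congr e.symm
    rwa [Nat.card_eq_fintype_card, hK] at h5
  | tf4 p f =>
    obtain ⟨K, _, _, m, hm, hK, hq, ⟨e⟩⟩ := h
    obtain ⟨rfl, -, -⟩ := hok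
    have h5 := (H203.LS.TwF4.ls.{0, 0, 0} hm (hK.trans hq)).congr e.symm
    rwa [Nat.card_eq_fintype_card, hK] at h5

variable [Finite S]

theorem le_index_of_ls (hna : ¬ IsMulCommutative S) {d : ℕ} (hr : r ≠ 0) (h : LS.{0, 0, 0} r d S) (M : Subgroup S)
    (hM : M ≠ ⊤) : d ≤ M.index := by
  classical
  have := Fintype.ofFinite (S ⧸ M)
  have h1 : M.normalCore = ⊥ :=
    M.normalCore_normal.eq_bot_or_eq_top.resolve_right fun h1 => hM (eq_top_iff.2 (h1 ▸ M.normalCore_le))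
  have h2 : Function.Injective (MulAction.toPermHom S (S ⧸ M)) := by
    rw [← MonoidHom.ker_eq_bot_iff, ← Subgroup.normalCore_eq_ker, h1]
  have h3 : Fth (Fintype.card (S ⧸ M)) ℚ S := by
    refine Fth.of (ρ := (Matrix.permMatrixHom (R := ℚ)).toHomUnits.comp (MulAction.toPermHom S (S ⧸ M))) ?_
    refine (injective_iff_map_eq_one _).2 fun a ha => h2 ?_
    have h4 : (MulAction.toPermHom S (S ⧸ M) a)⁻¹.permMatrix ℚ = 1 := congrArg Units.val ha
    rw [map_one, ← inv_eq_one]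
    ext i
    by_contra h5
    have h6 := congrFun (congrFun h4 i) i
    rw [Matrix.one_apply_eq, Equiv.Perm.permMatrix, PEquiv.toMatrix_apply, if_neg (by simpa using h5)] at h6
    exact zero_ne_one h6
  rw [Subgroup.index, Nat.card_eq_fintype_card]
  exact ls_le (fun hc => hna ⟨⟨hc⟩⟩) h h3 (by exact_mod_cast hr)

theorem li_le (hna : ¬ IsMulCommutative S) (hg : IsLie g X r f) (h : OrdDiv.Real g S)
    (hr : Art.Real X r f (Nat.card S)) (hx : ¬ Ex X (r ^ f)) (M : Subgroup S) (hM : M ≠ ⊤) :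
    li X (r ^ f) ≤ M.index := by
  have key := le_index_of_ls hna hr.hp.ne_zero (ls_lp hg h hr hx) M hM
  have tr : ∀ {Y : Type} [Group Y] (e : S ≃* Y) {c : ℕ}, (∀ M : Subgroup Y, M ≠ ⊤ → c ≤ M.index) → c ≤ M.index :=
    fun e c hc => by
      rw [← Subgroup.index_map_of_bijective (f := e.toMonoidHom) e.bijective M]
      refine hc _ fun h1 => hM ?_
      rw [← Subgroup.index_eq_one, Subgroup.index_map_of_bijective (f := e.toMonoidHom) e.bijective M] at h1
      exact Subgroup.index_eq_one.1 h1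
  cases hg with
  | psl m p f =>
    obtain ⟨K, _, _, hK, ⟨e⟩⟩ := h
    rw [li]
    split_ifs with h2
    · obtain ⟨rfl, h2⟩ := h2
      exact tr e (S2140.result (hK.trans h2) 3 le_rfl (by omega)).1
    · exact key
  | psu m p f =>
    obtain ⟨K, _, _, hK, ⟨e⟩⟩ := h
    rw [li]
    split_ifs with h2 h3
    · obtain ⟨rfl, h2⟩ := h2
      rw [h2] at hK e
      exact tr e (S2148.result 3 hK le_rfl (by omega)).1
    · obtain ⟨rfl, h4⟩ := h3
      rw [h4] at hK e
      exact tr e (S2150.result 3 hK (by omega)).1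
    · exact key
  | oplus m p f =>
    obtain ⟨K, _, _, hK, ⟨e⟩⟩ := h
    rw [li]
    split_ifs with h2
    · obtain ⟨rfl, h2⟩ := h2
      exact tr e (S2146.result (hK.trans h2) 4 le_rfl).1
    · exact key
  | sz p f =>
    obtain ⟨K, _, _, m, hm, hK, hq, ⟨e⟩⟩ := h
    have := Finite.of_equiv _ e.toEquiv
    rw [li, ← hK]
    exact tr e (H957.CfRankOne.sz_index hm (hK.trans hq) e.symm.isSimpleGroup)
  | _ => exact key

end

end Cfsg.Agent.TH.Sim.LieN

private theorem dce_141212083f46 : _root_.True := by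
  try have : _root_.True := by simp only [_root_.Cfsg.Agent.TH.Sim.LieN.lp.eq_5]
  try have : _root_.True := by simp only [_root_.Cfsg.Agent.TH.Sim.LieN.li.eq_1]
  try have : _root_.True := by simp only [_root_.Cfsg.Agent.TH.Sim.LieN.li.eq_5]
  try have : _root_.True := by simp only [_root_.Cfsg.Agent.TH.Sim.LieN.lp.eq_1]
  try have : _root_.True := by simp only [_root_.Cfsg.Agent.TH.Sim.LieN.li.eq_2]
  try have : _root_.True := by simp only [_root_.Cfsg.Agent.TH.Sim.LieN.lp.eq_13]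
  try have : _root_.True := by simp only [_root_.Cfsg.Agent.TH.Sim.LieN.lp.eq_11]
  try have : _root_.True := by simp only [_root_.Cfsg.Agent.TH.Sim.LieN.li._sparseCasesOn_1.else_eq]
  try have : _root_.True := by simp only [_root_.Cfsg.Agent.TH.Sim.LieN.li.eq_3]
  try have : _root_.True := by simp only [_root_.Cfsg.Agent.TH.Sim.LieN.lc.eq_3]
  try have : _root_.True := by simp only [_root_.Cfsg.Agent.TH.Sim.LieN.lc.eq_5]
  try have : _root_.True := by simp only [_root_.Cfsg.Agent.TH.Sim.LieN.lp.eq_15]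
  try have : _root_.True := by simp only [_root_.Cfsg.Agent.TH.Sim.LieN.lp.eq_2]
  try have : _root_.True := by simp only [_root_.Cfsg.Agent.TH.Sim.LieN.lc._sparseCasesOn_1.else_eq]
  try have : _root_.True := by simp only [_root_.Cfsg.Agent.TH.Sim.LieN.lp.eq_6]
  try have : _root_.True := by simp only [_root_.Cfsg.Agent.TH.Sim.LieN.lp.eq_4]
  try have : _root_.True := by simp only [_root_.Cfsg.Agent.TH.Sim.LieN.lp.eq_8]
  try have : _root_.True := by simp only [_root_.Cfsg.Agent.TH.Sim.LieN.Ex.eq_1]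
  try have : _root_.True := by simp only [_root_.Cfsg.Agent.TH.Sim.LieN.lp.eq_12]
  try have : _root_.True := by simp only [_root_.Cfsg.Agent.TH.Sim.LieN.lp.eq_9]
  try have : _root_.True := by simp only [_root_.Cfsg.Agent.TH.Sim.LieN.lp.eq_7]
  try have : _root_.True := by simp only [_root_.Cfsg.Agent.TH.Sim.LieN.lc.eq_1]
  try have : _root_.True := by simp only [_root_.Cfsg.Agent.TH.Sim.LieN.lc.eq_2]
  try have : _root_.True := by simp only [_root_.Cfsg.Agent.TH.Sim.LieN.lp.eq_3]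
  try have : _root_.True := by simp only [_root_.Cfsg.Agent.TH.Sim.LieN.li.eq_4]
  try have : _root_.True := by simp only [_root_.Cfsg.Agent.TH.Sim.LieN.lc.eq_6]
  try have : _root_.True := by simp only [_root_.Cfsg.Agent.TH.Sim.LieN.lp.eq_10]
  try have : _root_.True := by simp only [_root_.Cfsg.Agent.TH.Sim.LieN.lc.eq_4]
  try have : _root_.True := by simp only [_root_.Cfsg.Agent.TH.Sim.LieN.lp.eq_14]
  exact _root_.True.intro
end

-- part: TH/Sim/LieChk
section
set_option linter.all false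
open scoped Cfsg.Agent.FastGrp

-- part: TH/Sim/LieNum
section
/-!
# S3541, box SimLie: the finite list and the checker (helper6)
-/

set_option autoImplicit false

namespace Cfsg.Agent.TH.Sim.LieN

open Cfsg.Agent.H902 Cfsg.Agent.H889.Enum Cfsg.Agent.TH.Sv Finset

/-- the rank parameter -/
def rk : Art.Sh → ℕ
  | .L n => n
  | .C n => n
  | .U n => n
  | .D n => n
  | .DD n => n
  | _ => 0

/-- `q ^ kk X / 2` is about a lower bound for the degree -/
def kk : Art.Sh → ℕ
  | .F4 => 4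
  | .E6 => 10
  | .E7 => 16
  | .E8 => 28
  | .TE6 => 6
  | .TD4 => 4
  | .TF4 => 2
  | X => max 1 (rk X - 2)

/-- `q ^ dm X` is an upper bound for the order -/
def dm : Art.Sh → ℕ
  | .G2 => 14
  | .F4 => 52
  | .E6 => 78
  | .E7 => 133
  | .E8 => 248
  | .TE6 => 80
  | .TD4 => 30
  | .Sz => 6
  | .Ree => 8
  | .TF4 => 28
  | X => 3 * rk X ^ 2

theorem kk_pos (X : Art.Sh) : 1 ≤ kk X := by
  cases X <;> simp only [kk, _root_.le_sup_left, _root_.Nat.one_le_ofNat]

theorem lp_ge {X : Art.Sh} {r f : ℕ} (hq : 2 ≤ r ^ f) (h : Art.Ok X r f) :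
    ((r ^ f) ^ kk X - 1) / 2 ≤ max 3 (lp X (r ^ f)) := by
  have h1 : ∀ a b : ℕ, a ≤ b → (r ^ f) ^ a ≤ (r ^ f) ^ b := fun a b => Nat.pow_le_pow_right (by omega)
  have h2 : ∀ a b : ℕ, a ≤ b → ((r ^ f) ^ a - 1) / 2 ≤ max 3 ((r ^ f - 1) * (r ^ f) ^ b) := fun a b hab => by
    have := h1 a b hab
    have := Nat.le_mul_of_pos_left ((r ^ f) ^ b) (show 0 < r ^ f - 1 by omega)
    omega
  cases X with
  | L n =>
    have h3 := h1 (max 1 (n - 2)) (n - 1) (by have := h.1; omega)
    have h4 : (r ^ f - 1) / 2 ≤ (r ^ f - 1) / Nat.gcd 2 (r ^ f - 1) :=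
      Nat.div_le_div_left (Nat.gcd_le_left _ two_pos) (Nat.gcd_pos_of_pos_left _ two_pos)
    simp only [kk, rk, lp, lc]
    split_ifs with a b
    · rw [a.1, a.2]; decide
    · subst b; simp only [Nat.sub_self, Nat.zero_le, sup_of_le_left, pow_one]; omega
    · omega
  | C n =>
    have h3 := h1 (max 1 (n - 2)) n (by have := h.1; omega)
    simp only [kk, rk, lp, lc]
    split_ifs <;> omega
  | U n =>
    simp only [kk, rk, lp, lc]
    split_ifs with a
    · rw [a.1, a.2]; decide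
    · exact h2 _ _ (by have := h.1; omega)
  | D n =>
    simp only [kk, rk, lp, lc]
    split_ifs with a
    · rw [a.1, a.2]; decide
    · exact h2 _ _ (by have : 4 ≤ n := h; omega)
  | DD n => exact h2 _ _ (by have : 4 ≤ n := h; simp only [kk, rk]; omega)
  | G2 =>
    simp only [kk, rk, lp]
    split_ifs with a b
    · rw [a]; decide
    · rw [b]; decide
    · simpa only [_root_.zero_tsub, _root_.zero_le, _root_.sup_of_le_left, _root_.pow_one, _root_.le_sup_iff] using h2 1 1 le_rfl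
  | Sz => simp only [kk, rk, lp, Nat.zero_le, Nat.sub_eq_zero_of_le, sup_of_le_left, pow_one]; omega
  | Ree => simp only [kk, rk, lp, Nat.zero_le, Nat.sub_eq_zero_of_le, sup_of_le_left, pow_one]; omega
  | _ => exact h2 _ _ le_rfl

theorem num_le {X : Art.Sh} {q : ℕ} (hq : 2 ≤ q) (h0 : X ≠ .DD 0) : q ^ Art.NN X * Art.num X q ≤ q ^ dm X := by
  have h1 : ∀ a b : ℕ, a ≤ b → q ^ a ≤ q ^ b := fun a b => Nat.pow_le_pow_right (by omega)
  have h2 : ∀ a : ℕ, q ^ a - 1 ≤ q ^ a := fun a => Nat.sub_le _ _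
  have h3 : ∀ a : ℕ, q ^ a + 1 ≤ q ^ (a + 1) := fun a => by
    have := Nat.one_le_pow a q (by omega)
    have := Nat.mul_le_mul_left (q ^ a) hq
    rw [pow_succ]; omega
  have h4 : ∀ k m : ℕ, k ≤ m → ∏ i ∈ range k, (q ^ (2 * (i + 1)) - 1) ≤ q ^ (2 * m * k) := fun k m h => by
    have h5 := prod_le_pow_card (range k) (fun i => q ^ (2 * (i + 1)) - 1) (q ^ (2 * m)) fun i hi =>
      (h2 _).trans (h1 _ _ (by have := mem_range.1 hi; omega))
    rwa [card_range, ← pow_mul] at h5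
  have h5 : q - 1 ≤ q := Nat.sub_le _ _
  have h6 : ∀ n : ℕ, n * (n - 1) / 2 + (n + 1) * (n - 1) ≤ 3 * n ^ 2 := fun n => by
    have := Nat.mul_le_mul_left n (Nat.sub_le n 1)
    have := Nat.mul_le_mul_left (n + 1) (Nat.sub_le n 1)
    have := Nat.le_self_pow two_ne_zero n
    rw [sq] at *
    rw [add_mul n 1 n] at *
    omega
  cases X with
  | L n =>
    have h7 := prod_le_pow_card (range (n - 1)) (fun i => q ^ (i + 2) - 1) (q ^ (n + 1)) fun i hi =>
      (h2 _).trans (h1 _ _ (by have := mem_range.1 hi; omega))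
    rw [card_range, ← pow_mul] at h7
    exact (Nat.mul_le_mul_left _ h7).trans (by rw [← pow_add]; exact h1 _ _ (h6 n))
  | U n =>
    have h7 := prod_le_pow_card (range (n - 1)) (fun i => if Even i then q ^ (i + 2) - 1 else q ^ (i + 2) + 1)
      (q ^ (n + 1)) fun i hi => by
        have := mem_range.1 hi
        split_ifs
        · exact (h2 _).trans (h1 _ _ (by omega))
        · exact (h3 _).trans (h1 _ _ (by omega))
    rw [card_range, ← pow_mul] at h7
    exact (Nat.mul_le_mul_left _ h7).trans (by rw [← pow_add]; exact h1 _ _ (h6 n))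
  | C m => exact (Nat.mul_le_mul_left _ (h4 m m le_rfl)).trans (by
      rw [← pow_add]; exact h1 _ _ (by show m ^ 2 + 2 * m * m ≤ 3 * m ^ 2; linarith only []))
  | D m =>
    refine (Nat.mul_le_mul_left _ (Nat.mul_le_mul (h2 m) (h4 (m - 1) m (by omega)))).trans ?_
    rw [← pow_add, ← pow_add]
    refine h1 _ _ ?_
    show m * (m - 1) + (m + 2 * m * (m - 1)) ≤ 3 * m ^ 2
    rcases m with _ | m
    · simp
    · rw [Nat.add_sub_cancel]; linarith only []
  | DD m =>
    rcases m with _ | m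
    · exact absurd rfl h0
    refine (Nat.mul_le_mul_left _ (Nat.mul_le_mul (h3 _) (h4 (m + 1 - 1) (m + 1) (by omega)))).trans ?_
    rw [← pow_add, ← pow_add]
    refine h1 _ _ ?_
    show (m + 1) * m + (m + 1 + 1 + 2 * (m + 1) * m) ≤ 3 * (m + 1) ^ 2
    linarith only []
  | G2 => exact (Nat.mul_le_mul_left _ (Nat.mul_le_mul (h2 _) (h2 _))).trans (le_of_eq (show q ^ 6 * (q ^ 2 * q ^ 6) = q ^ 14 by ring))
  | F4 =>
    delta Art.NN Art.num dm; dsimp only
    calc _ ≤ q ^ 24 * (q ^ 2 * q ^ 6 * q ^ 8 * q ^ 12) := by gcongr <;> exact h2 _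
      _ = _ := by ring
  | E6 =>
    delta Art.NN Art.num dm; dsimp only
    calc _ ≤ q ^ 36 * (q ^ 2 * q ^ 5 * q ^ 6 * q ^ 8 * q ^ 9 * q ^ 12) := by gcongr <;> exact h2 _
      _ = _ := by ring
  | E7 =>
    delta Art.NN Art.num dm; dsimp only
    calc _ ≤ q ^ 63 * (q ^ 2 * q ^ 6 * q ^ 8 * q ^ 10 * q ^ 12 * q ^ 14 * q ^ 18) := by gcongr <;> exact h2 _
      _ = _ := by ring
  | E8 =>
    delta Art.NN Art.num dm; dsimp only
    calc _ ≤ q ^ 120 * (q ^ 2 * q ^ 8 * q ^ 12 * q ^ 14 * q ^ 18 * q ^ 20 * q ^ 24 * q ^ 30) := by gcongr <;> exact h2 _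
      _ = _ := by ring
  | TE6 =>
    delta Art.NN Art.num dm; dsimp only
    calc _ ≤ q ^ 36 * (q ^ 2 * q ^ 6 * q ^ 6 * q ^ 8 * q ^ 10 * q ^ 12) := by
          gcongr <;> first | exact h2 _ | exact h3 _
      _ = _ := by ring
  | TD4 =>
    delta Art.NN Art.num dm; dsimp only
    have h7 : q ^ 8 + q ^ 4 + 1 ≤ q ^ 10 := by
      have : q ^ 4 + 1 ≤ q ^ 5 := h3 4
      have := h1 5 8 (by omega)
      have := h1 9 10 (by omega)
      have : q ^ 8 * 2 ≤ q ^ 9 := Nat.mul_le_mul_left (q ^ 8) hq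
      omega
    calc _ ≤ q ^ 12 * (q ^ 2 * q ^ 6 * q ^ 10) := by gcongr <;> exact h2 _
      _ = _ := by ring
  | Sz =>
    delta Art.NN Art.num dm; dsimp only
    calc _ ≤ q ^ 2 * (q * q ^ 3) := by gcongr; exact h3 _
      _ = _ := by ring
  | Ree =>
    delta Art.NN Art.num dm; dsimp only
    calc _ ≤ q ^ 3 * (q * q ^ 4) := by gcongr; exact h3 _
      _ = _ := by ring
  | TF4 =>
    delta Art.NN Art.num dm; dsimp only
    calc _ ≤ q ^ 12 * (q * q ^ 4 * q ^ 4 * q ^ 7) := by gcongr <;> first | exact h2 _ | exact h3 _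
      _ = _ := by ring

theorem ou_le {X : Art.Sh} {r f : ℕ} (h : Art.Ok X r f) : ou X r f ≤ 32 * 2 ^ rk X * f := by
  have h1 : ∀ a b : ℕ, 0 < a → Nat.gcd a b ≤ a := fun a b h => Nat.gcd_le_left b h
  have h2 : rk X < 2 ^ rk X := Nat.lt_two_pow_self
  have h3 := h1 2 (r ^ f - 1) two_pos
  have h4 := h1 2 r two_pos
  have h5 := h1 3 (r ^ f - 1) three_pos
  have h6 := h1 3 (r ^ f + 1) three_pos
  cases X with
  | L n =>
    have := h1 n (r ^ f - 1) (by have := h.1; omega)
    refine Nat.mul_le_mul_right f ?_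
    simp only [rk] at *
    split_ifs <;> omega
  | U n =>
    have := h1 n (r ^ f + 1) (by have := h.1; omega)
    refine Nat.mul_le_mul_right f ?_
    simp only [rk] at *
    omega
  | _ =>
    refine Nat.mul_le_mul_right f ?_
    first | (clear * - h4 h2 h5 h3 h6; omega) | (split_ifs <;> (clear * - h3 h2; omega))

theorem dm_pos {X : Art.Sh} : dm X + rk X + 6 ≤ kk X * (3 * kk X + 33) := by
  have key : ∀ n : ℕ, 3 * n ^ 2 + n + 6 ≤ max 1 (n - 2) * (3 * max 1 (n - 2) + 33) := fun n => by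
    have h1 : n ≤ max 1 (n - 2) + 2 := by omega
    have h2 : 1 ≤ max 1 (n - 2) := by omega
    generalize max 1 (n - 2) = k at *
    linarith only [h1, h2, Nat.pow_le_pow_left h1 2]
  cases X <;> first | exact key _ | decide

theorem dd_pos (X : Art.Sh) {r f : ℕ} (h : Art.Ok X r f) : 0 < Art.dd X (r ^ f) := by
  cases X with
  | L n => exact Nat.gcd_pos_of_pos_left _ (by have := h.1; omega)
  | U n => exact Nat.gcd_pos_of_pos_left _ (by have := h.1; omega)
  | _ => first | exact Nat.gcd_pos_of_pos_left _ (by omega) | exact one_pos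

theorem Fq28.aut_le' {X : Art.Sh} {r f M : ℕ} (h : Art.Real X r f M) :
    ou X r f * M ≤ (r ^ f) ^ (dm X + rk X + 6) := by
  have h1 : 2 ^ f ≤ r ^ f := Nat.pow_le_pow_left h.hp.two_le f
  have h2 : f < 2 ^ f := Nat.lt_two_pow_self
  have hq : 2 ≤ r ^ f := by have := h.hf; omega
  have h3 : M ≤ (r ^ f) ^ dm X := (Nat.le_mul_of_pos_left M (dd_pos X h.ok)).trans (h.eq ▸ num_le hq fun e => by
    have h4 := h.ok
    rw [e] at h4
    exact absurd (show 4 ≤ 0 from h4) (by decide))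
  calc ou X r f * M ≤ 2 ^ 5 * 2 ^ rk X * f * M := Nat.mul_le_mul_right _ (ou_le h.ok)
    _ ≤ (r ^ f) ^ 5 * (r ^ f) ^ rk X * r ^ f * (r ^ f) ^ dm X := by gcongr; omega
    _ = (r ^ f) ^ (dm X + rk X + 6) := by ring

theorem aut_le {X : Art.Sh} {r f M : ℕ} (h : Art.Real X r f M) :
    ou X r f * M ≤ ((r ^ f) ^ kk X) ^ (3 * kk X + 33) := by
  rw [← pow_mul]
  exact (Fq28.aut_le' h).trans (Nat.pow_le_pow_right (Nat.pow_pos h.hp.pos) dm_pos)

theorem pow_ineq {y : ℕ} (hy : 11 ≤ y) : 2 * (3 * (y + 2) ^ 2 + 31 * (y + 2) + 3) + 3 ≤ 2 ^ y := by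
  induction y, hy using Nat.le_induction with
  | base => norm_num
  | succ y hy ih => rw [pow_succ 2]; linarith only [ih, _root_.sq_nonneg (↑y + 2 : ℤ)]

/-- **the list is finite** -/
theorem lt_4096 {X : Art.Sh} {r f M Z : ℕ} (h : Art.Real X r f M) (hZ : max 3 (lp X (r ^ f)) ≤ Z + 2)
    (hl : 2 ^ Z ≤ (24 * (ou X r f * M) * Z) ^ 2) : (r ^ f) ^ kk X < 4096 := by
  by_contra h0
  have h1 : 2 ^ f ≤ r ^ f := Nat.pow_le_pow_left h.hp.two_le f
  have h2 : f < 2 ^ f := Nat.lt_two_pow_self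
  have hq : 2 ≤ r ^ f := by have := h.hf; omega
  have h3 := lp_ge hq h.ok
  have h4 := aut_le h
  have h5 : 2 ^ kk X ≤ (r ^ f) ^ kk X := Nat.pow_le_pow_left hq _
  generalize (r ^ f) ^ kk X = x at *
  generalize ou X r f * M = A at *
  obtain ⟨y, hy⟩ : ∃ y, Nat.log 2 x = y + 1 := ⟨Nat.log 2 x - 1, by
    have := (Nat.le_log_iff_pow_le (b := 2) (x := 1) (y := x) (by omega) (by omega)).2 (by omega); omega⟩
  have h6 : 2 ^ (y + 1) ≤ x := hy ▸ Nat.pow_log_le_self 2 (by omega)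
  have h7 : x < 2 ^ (y + 2) := by
    have := Nat.lt_pow_succ_log_self (b := 2) (by omega) x
    rwa [hy] at this
  have h8 : 11 ≤ y := by
    have := (Nat.pow_lt_pow_iff_right (a := 2) (n := 12) (m := y + 2) (by omega)).1 (by omega)
    omega
  have h9 : kk X ≤ y + 1 := by
    have := (Nat.pow_lt_pow_iff_right (a := 2) (by omega)).1 (h5.trans_lt h7)
    omega
  have h10 := pow_ineq h8
  have h11 : A ≤ 2 ^ ((y + 2) * (3 * (y + 1) + 33)) := by
    rw [pow_mul]
    exact h4.trans ((Nat.pow_le_pow_left h7.le _).trans (Nat.pow_le_pow_right (by positivity) (by omega)))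
  rw [pow_succ] at h6
  refine absurd (sq_lt_pow (C := 24 * A) (X := 2 ^ y - 3) (by (clear * - h10; omega)) ?_ (show 2 ^ y - 3 ≤ Z by omega)) (not_lt.2 hl)
  calc (24 * A * (2 ^ y - 3)) ^ 2 ≤ (24 * 2 ^ ((y + 2) * (3 * (y + 1) + 33)) * 2 ^ y) ^ 2 := by gcongr; omega
    _ < (2 ^ 5 * 2 ^ ((y + 2) * (3 * (y + 1) + 33)) * 2 ^ y) ^ 2 := by gcongr; omega
    _ ≤ _ := by
      rw [← pow_add, ← pow_add, ← pow_mul]
      exact Nat.pow_le_pow_right two_pos (by linarith only [h10, Nat.sub_add_cancel (show 3 ≤ 2 ^ y by omega)])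

end Cfsg.Agent.TH.Sim.LieN
end

-- part: TH/Sim/LieChk
section
/-!
# S3541, box SimLie: the checker (helper6)
-/

set_option autoImplicit false

namespace Cfsg.Agent.TH.Sim.LieN

open Cfsg.Agent.H902 Cfsg.Agent.H889.Enum Cfsg.Agent.TH.Sv Finset

/-- `Art.num` with lists -/
def numL : Art.Sh → ℕ → ℕ
  | .L n, q => ((List.range (n - 1)).map fun i => q ^ (i + 2) - 1).prod
  | .C m, q => ((List.range m).map fun i => q ^ (2 * (i + 1)) - 1).prod
  | .U n, q => ((List.range (n - 1)).map fun i => if i % 2 = 0 then q ^ (i + 2) - 1 else q ^ (i + 2) + 1).prod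
  | .D m, q => (q ^ m - 1) * ((List.range (m - 1)).map fun i => q ^ (2 * (i + 1)) - 1).prod
  | .DD m, q => (q ^ m + 1) * ((List.range (m - 1)).map fun i => q ^ (2 * (i + 1)) - 1).prod
  | X, q => Art.num X q

theorem numL_eq (X : Art.Sh) (q : ℕ) : numL X q = Art.num X q := by
  cases X with
  | U n =>
    show ((List.range (n - 1)).map fun i => if i % 2 = 0 then q ^ (i + 2) - 1 else q ^ (i + 2) + 1).prod =
      ∏ i ∈ range (n - 1), (if Even i then q ^ (i + 2) - 1 else q ^ (i + 2) + 1)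
    rw [Finset.prod_congr rfl (g := fun i => if i % 2 = 0 then q ^ (i + 2) - 1 else q ^ (i + 2) + 1)
      (fun i _ => by simp only [Nat.even_iff])]
    rfl
  | _ => rfl

/-- the order -/
def ordS (X : Art.Sh) (q : ℕ) : ℕ := q ^ Art.NN X * numL X q / Art.dd X q

theorem ordS_eq {X : Art.Sh} {r f M : ℕ} (h : Art.Real X r f M) : ordS X (r ^ f) = M := by
  rw [ordS, numL_eq, ← h.eq, Nat.mul_div_cancel_left _ (dd_pos X h.ok)]

/-- the admissible parameters -/
def okb : Art.Sh → ℕ → ℕ → Bool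
  | .L n, _, q => Nat.ble 3 n || (Nat.beq n 2 && (Nat.ble 7 q && !Nat.beq q 9))
  | .C m, _, q => Nat.ble 3 m || (Nat.beq m 2 && Nat.ble 3 q)
  | .U n, _, q => Nat.ble 4 n || (Nat.beq n 3 && Nat.ble 3 q)
  | .D m, _, _ => Nat.ble 4 m
  | .DD m, _, _ => Nat.ble 4 m
  | .G2, _, q => Nat.ble 3 q
  | .Sz, r, q => Nat.beq r 2 && Nat.beq (q % 6) 2 && Nat.ble 8 q
  | .Ree, r, q => Nat.beq r 3 && Nat.beq (q % 8) 3 && Nat.ble 27 q
  | .TF4, r, q => Nat.beq r 2 && Nat.ble 8 q
  | _, _, _ => true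

/-- the names over the field of two elements which are not used -/
def ex2 (X : Art.Sh) (q : ℕ) : Bool := Nat.beq q 2 && decide (X = .L 3 ∨ X = .L 4 ∨ X = .U 4)

theorem okb_of {X : Art.Sh} {r f M : ℕ} (h : Art.Real X r f M) (hx : ¬ Ex X (r ^ f)) :
    okb X r (r ^ f) = true ∧ ex2 X (r ^ f) = false := by
  have h1 := h.ok
  refine ⟨?_, ?_⟩
  · cases X with
    | L n =>
      have h6 : r ^ f ≠ 6 := fun e => absurd (e ▸ h.hp.isPrimePow.pow (by have := h.hf; omega) : IsPrimePow 6) (by decide)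
      simp only [Ex, Art.Sh.L.injEq, reduceCtorEq] at hx
      have h2 := h1.1
      have h3 := h1.2
      simp only [okb, Bool.or_eq_true, Bool.and_eq_true, Nat.ble_eq, Nat.beq_eq, Bool.not_eq_true', ← Bool.not_eq_true]
      omega
    | Sz =>
      obtain ⟨rfl, ⟨k, rfl⟩, h2⟩ := h1
      have h3 : 2 ^ 3 ≤ 2 ^ (2 * k + 1) := Nat.pow_le_pow_right two_pos h2
      have h4 : (2 ^ 2) ^ k % 3 = 1 := by rw [Nat.pow_mod]; simp
      simp only [okb, Bool.and_eq_true, Nat.ble_eq, Nat.beq_eq, true_and]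
      rw [pow_succ _ (2 * k), pow_mul] at h3 ⊢
      omega
    | Ree =>
      obtain ⟨rfl, ⟨k, rfl⟩, h2⟩ := h1
      have h3 : 3 ^ 3 ≤ 3 ^ (2 * k + 1) := Nat.pow_le_pow_right three_pos h2
      have h4 : (3 ^ 2) ^ k % 8 = 1 := by rw [Nat.pow_mod]; simp
      simp only [okb, Bool.and_eq_true, Nat.ble_eq, Nat.beq_eq, true_and]
      rw [pow_succ _ (2 * k), pow_mul] at h3 ⊢
      omega
    | TF4 =>
      obtain ⟨rfl, -, h2⟩ := h1
      have h3 : 8 ≤ 2 ^ f := Nat.pow_le_pow_right (n := 2) (i := 3) two_pos h2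
      simpa only [okb, Bool.and_eq_true, Nat.ble_eq, Nat.beq_eq, true_and] using h3
    | _ =>
      delta Art.Ok at h1
      simp only [okb, Bool.or_eq_true, Bool.and_eq_true, Nat.ble_eq, Nat.beq_eq] at h1 ⊢
      try omega
  · rw [← Bool.not_eq_true, ex2, Bool.and_eq_true, Nat.beq_eq, decide_eq_true_eq]
    exact fun h2 => hx (Or.inr h2)

/-- the sieve for a socle `N` of order `M` of `H ⊓ T`, `A = |Aut N|`, `l` a lower bound for the indices in `N` -/
def par (M A l N p o c : ℕ) (flt : ℕ → ℕ → ℕ → Bool) : Par where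
  N := N
  p := p
  outT := o
  c := c
  NB := A
  low := M
  uA := fun a _ s => bif Nat.beq (a / M % s) 0 then 0 else nu 400 M s
  uH := fun a o s => bif Nat.beq (a * o / M % s) 0 then 0 else nu 400 M s
  fa := fun _ n1 => Nat.ble l (Nat.gcd n1 M)
  flt := fun a o d => Nat.ble l (Nat.gcd d M) && flt a o d

/-- the sieve for the classical group `(t, n, p ^ f)` -/
def sv (M A l t n p f : ℕ) (flt : ℕ → ℕ → ℕ → Bool) : Bool :=
  frc (Nat.pow p f) fun q => Fq28.quick (Fq28.ordF t n q) A M l || frc (Fq28.ordF t n q) fun N =>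
    frc (lminCl t n q) fun c => sieveG (par M A l N p (outCl t n p f) c flt)

/-- the pairs which are treated separately -/
def Sk (X : Art.Sh) (q t n p f : ℕ) : Prop :=
  q = 7 ∧ X = .L 2 ∧ (p = 2 ∨ t = 1 ∧ n = 3 ∧ f = 1 ∧ (p = 3 ∨ p = 5)) ∨
  q = 3 ∧ (X = .C 2 ∧ p = 2 ∨ X = .U 4 ∧ t = 0 ∧ n = 6 ∧ p = 7 ∧ f = 1) ∨
  q = 4 ∧ X = .L 3 ∧ n = 4 ∧ p ≠ 3 ∨ q = 11 ∧ X = .L 2 ∧ t = 1 ∧ n = 5 ∧ p = 2 ∧ f = 1

instance (X : Art.Sh) (q t n p f : ℕ) : Decidable (Sk X q t n p f) :=
  inferInstanceAs (Decidable (q = 7 ∧ X = .L 2 ∧ (p = 2 ∨ t = 1 ∧ n = 3 ∧ f = 1 ∧ (p = 3 ∨ p = 5)) ∨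
    q = 3 ∧ (X = .C 2 ∧ p = 2 ∨ X = .U 4 ∧ t = 0 ∧ n = 6 ∧ p = 7 ∧ f = 1) ∨
    q = 4 ∧ X = .L 3 ∧ n = 4 ∧ p ≠ 3 ∨ q = 11 ∧ X = .L 2 ∧ t = 1 ∧ n = 5 ∧ p = 2 ∧ f = 1))

/-- the first test of `sv` -/
def Fq28.svq (M A l t n p f : ℕ) : Bool := frc (Nat.pow p f) fun q => Fq28.quick (Fq28.ordF t n q) A M l

theorem Fq28.sv_of_svq {M A l t n p f : ℕ} (h : Fq28.svq M A l t n p f = true) (flt : ℕ → ℕ → ℕ → Bool) :
    sv M A l t n p f flt = true := by
  rw [Fq28.svq, frc_eq] at h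
  rw [sv, frc_eq, h, Bool.true_or]

/-- `(24 A Z) ^ 2 < 2 ^ Z` -/
def Fq28.bigZ (A Z : ℕ) : Bool := Nat.ble 3 Z && !Nat.ble (Nat.pow 2 Z) (Nat.pow (Nat.mul (Nat.mul 24 A) Z) 2)

/-- all classical groups `T` for the socle of shape `X` over the field of `q = r ^ g` elements -/
def chkN (X : Art.Sh) (e r g : ℕ) : Bool :=
  frc (Nat.pow r g) fun q => !okb X r q || frc (lp X q) fun L0 => frc (mn (Nat.sub L0 2) 4096) fun Z =>
    Fq28.bigZ (Nat.pow q e) Z || (ex2 X q ||
    frc (ordS X q) fun M => frc (ou X r g * M) fun A => Fq28.bigZ A Z || frc (max 3 L0) fun L =>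
        frc (lc X q) fun b => frc (li X q) fun l => frc (bif !Nat.ble b L && !Nat.beq (L % r) 0 then L + 1 else L) fun L' =>
        frc (if q = 4 ∧ X = .L 3 then 4 else 0) fun n4 =>
        allL [0, 1, 2, 3, 4, 5] fun t => Fq28.allClS t A 2000 L' (fun n => !Nat.ble b n && !Nat.beq (Nat.mod n r) 0)
          (fun n => bif Nat.beq n n4 then 3 else 0) fun n p f => Nat.beq p r || (Fq28.svq M A l t n p f ||
            (decide (Sk X q t n p f) || sv M A l t n p f fun _ _ _ => true)))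

/-- all fields -/
def chkX (X : Art.Sh) : Bool :=
  frc (kk X) fun k => frc (dm X + rk X + 6) fun e =>
    allR (fun g => Fq28.allPr (fun r => Nat.ble 4096 (Nat.pow r (Nat.mul g k))) fun r => chkN X e r g) 12 1

theorem valid_le {t n q : ℕ} (h : validCl t n q = true) : t ≤ 5 := by
  unfold validCl at h
  split_ifs at h <;> simp at h <;> omega

theorem chkX_sound {X : Art.Sh} (hX : chkX X = true) {r g M : ℕ} (h : Art.Real X r g M) (hx : ¬ Ex X (r ^ g))
    (h0 : (r ^ g) ^ kk X < 4096) {t n p f : ℕ} (hp : p.Prime) (hf : 0 < f) (hv : validCl t n (p ^ f) = true)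
    (hl : lminCl t n (p ^ f) ≤ (ou X r g * M * outCl t n p f) ^ 2) (hpr : p ≠ r) (hn : lp X (r ^ g) ≤ n)
    (hb : ¬ r ∣ n → lc X (r ^ g) ≤ n) (hk : ¬ Sk X (r ^ g) t n p f) :
    sv M (ou X r g * M) (li X (r ^ g)) t n p f (fun _ _ _ => true) = true := by
  have h3 := valid_three hv
  rw [← pow_mul] at h0
  have h1 : g < 12 := by
    have h1 : 2 ^ (g * kk X) < 2 ^ 12 := (Nat.pow_le_pow_left h.hp.two_le _).trans_lt h0
    have h2 := (Nat.pow_lt_pow_iff_right (by omega)).1 h1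
    exact (Nat.le_mul_of_pos_right g (kk_pos X)).trans_lt h2
  rw [chkX, frc_eq, frc_eq] at hX
  have h2 := Fq28.allPr_sound (allR_sound hX h.hf (by omega)) h.hp fun j hj => by
    rw [← Bool.not_eq_true, Nat.ble_eq, not_le]
    exact (Nat.pow_le_pow_left hj _).trans_lt h0
  obtain ⟨h4, h5⟩ := okb_of h hx
  have hZ : ∀ A, ou X r g * M ≤ A → Fq28.bigZ A (min (Nat.sub (lp X (r ^ g)) 2) 4096) = false := fun A hA => by
    rw [← Bool.not_eq_true, Fq28.bigZ, Bool.and_eq_true, Nat.ble_eq, Bool.not_eq_true', ← Bool.not_eq_true, Nat.ble_eq, not_le]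
    rintro ⟨h6, h7⟩
    refine absurd (sq_lt_pow (C := 24 * A) h6 h7 (x := f * (n - 2)) ?_) (not_lt.2 ((two_pow_le_lmin hp.two_le hf hv).trans
      (hl.trans (Nat.pow_le_pow_left ((Nat.mul_le_mul hA ((outCl_le hp hf h3).trans (ob_le h3))).trans
        (le_of_eq (by ring))) 2))))
    exact ((min_le_left _ _).trans (Nat.sub_le_sub_right hn 2)).trans (Nat.le_mul_of_pos_left _ hf)
  simp only [chkN, frc_eq, Nat.pow_eq, h4, h5, Bool.not_true, Bool.false_or, ordS_eq h, allL_iff, mn_eq, hZ _ (Fq28.aut_le' h),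
    hZ _ le_rfl] at h2
  · have h6 := Fq28.allClS_sound (h2 t (by have := valid_le hv; simp; omega)) hp hf hv (by
      rw [Bool.cond_eq_ite]
      split_ifs with h6
      · simp only [Bool.and_eq_true, Nat.beq_eq, Nat.ble_eq, Bool.not_eq_true', ← Bool.not_eq_true] at h6
        refine lt_of_le_of_ne (by omega) fun e => h6.1 ((hb fun e' => h6.2 ?_).trans e.ge)
        rw [e]
        exact Nat.mod_eq_zero_of_dvd e'
      · omega) (by
      rw [← Bool.not_eq_true, Bool.and_eq_true, Bool.not_eq_true', Bool.not_eq_true', ← Bool.not_eq_true,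
        ← Bool.not_eq_true, Nat.ble_eq, Nat.beq_eq]
      exact fun h6 => h6.1 (hb fun e => h6.2 (Nat.mod_eq_zero_of_dvd e))) (by
      simp only [Bool.cond_eq_ite, Nat.beq_eq]
      split_ifs with h6 h7 h7
      · exact Or.inr (by_contra fun e => hk (Or.inr (Or.inr (Or.inl ⟨h6.1, h6.2, h7, Ne.symm e⟩))))
      · exact Or.inl rfl
      · omega
      · exact Or.inl rfl) hl
    simp only [Bool.or_eq_true, Nat.beq_eq, decide_eq_true_eq] at h6
    rcases h6 with h6 | h6 | h6 | h6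
    · exact absurd h6 hpr
    · exact Fq28.sv_of_svq h6 _
    · exact absurd h6 hk
    · exact h6

/-- a large rank -/
theorem rk_le {X : Art.Sh} {q : ℕ} (hq : 2 ≤ q) (h : q ^ kk X < 4096) : rk X ≤ 13 := by
  have h1 : 2 ^ kk X < 2 ^ 12 := (Nat.pow_le_pow_left hq _).trans_lt h
  have h2 := (Nat.pow_lt_pow_iff_right (by omega)).1 h1
  cases X <;> simp only [kk, rk] at h2 ⊢ <;> omega

end Cfsg.Agent.TH.Sim.LieN
end

private theorem dce_5265d015c6ea : _root_.True := by
  try have : _root_.True := by simp only [_root_.Cfsg.Agent.TH.Sim.LieN.ordS.eq_1]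
  try have : _root_.True := by simp only [_root_.Cfsg.Agent.TH.Sim.LieN.ex2.eq_1]
  try have : _root_.True := by simp only [_root_.Cfsg.Agent.TH.Sim.LieN.okb.eq_10]
  try have : _root_.True := by simp only [_root_.Cfsg.Agent.TH.Sim.LieN.rk.eq_1]
  try have : _root_.True := by simp only [_root_.Cfsg.Agent.TH.Sim.LieN.chkN.eq_1]
  try have : _root_.True := by simp only [_root_.Cfsg.Agent.TH.Sim.LieN.rk._sparseCasesOn_1.else_eq]
  try have : _root_.True := by simp only [_root_.Cfsg.Agent.TH.Sim.LieN.kk.eq_7]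
  try have : _root_.True := by simp only [_root_.Cfsg.Agent.TH.Sim.LieN.okb.eq_9]
  try have : _root_.True := by simp only [_root_.Cfsg.Agent.TH.Sim.LieN.rk.eq_4]
  try have : _root_.True := by simp only [_root_.Cfsg.Agent.TH.Sim.LieN.okb.eq_7]
  try have : _root_.True := by simp only [_root_.Cfsg.Agent.TH.Sim.LieN.okb.eq_3]
  try have : _root_.True := by simp only [_root_.Cfsg.Agent.TH.Sim.LieN.kk.eq_3]
  try have : _root_.True := by simp only [_root_.Cfsg.Agent.TH.Sim.LieN.rk.eq_2]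
  try have : _root_.True := by simp only [_root_.Cfsg.Agent.TH.Sim.LieN.chkX.eq_1]
  try have : _root_.True := by simp only [_root_.Cfsg.Agent.TH.Sim.LieN.rk.eq_3]
  try have : _root_.True := by simp only [_root_.Cfsg.Agent.TH.Sim.LieN.kk.eq_2]
  try have : _root_.True := by simp only [_root_.Cfsg.Agent.TH.Sim.LieN.okb.eq_2]
  try have : _root_.True := by simp only [_root_.Cfsg.Agent.TH.Sim.LieN.okb._sparseCasesOn_1.else_eq]
  try have : _root_.True := by simp only [_root_.Cfsg.Agent.TH.Sim.LieN.kk._sparseCasesOn_1.else_eq]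
  try have : _root_.True := by simp only [_root_.Cfsg.Agent.TH.Sim.LieN.okb.eq_5]
  try have : _root_.True := by simp only [_root_.Cfsg.Agent.TH.Sim.LieN.kk.eq_5]
  try have : _root_.True := by simp only [_root_.Cfsg.Agent.TH.Sim.LieN.rk.eq_6]
  try have : _root_.True := by simp only [_root_.Cfsg.Agent.TH.Sim.LieN.kk.eq_1]
  try have : _root_.True := by simp only [_root_.Cfsg.Agent.TH.Sim.LieN.okb.eq_1]
  try have : _root_.True := by simp only [_root_.Cfsg.Agent.TH.Sim.LieN.kk.eq_6]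
  try have : _root_.True := by simp only [_root_.Cfsg.Agent.TH.Sim.LieN.okb.eq_6]
  try have : _root_.True := by simp only [_root_.Cfsg.Agent.TH.Sim.LieN.rk.eq_5]
  try have : _root_.True := by simp only [_root_.Cfsg.Agent.TH.Sim.LieN.kk.eq_4]
  try have : _root_.True := by simp only [_root_.Cfsg.Agent.TH.Sim.LieN.okb.eq_8]
  try have : _root_.True := by simp only [_root_.Cfsg.Agent.TH.Sim.LieN.kk.eq_8]
  try have : _root_.True := by simp only [_root_.Cfsg.Agent.TH.Sim.LieN.okb.eq_4]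
  exact _root_.True.intro
end
end
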