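import Cfsg.Agent.TH.Sv.ClDat_m3
import Cfsg.Agent.S0243
import Cfsg.Agent.S0245
import Cfsg.Agent.S0246
import Cfsg.Agent.S0255
import Cfsg.Agent.S0256
import Cfsg.Agent.S0280
import Cfsg.Agent.S0292
import Cfsg.Agent.S0293
import Cfsg.Agent.S0294
import Cfsg.Agent.S0813
import Cfsg.Agent.S0814
import Cfsg.Agent.S0815
import Cfsg.Agent.S0816
import Cfsg.Agent.S0817
import Cfsg.Agent.S0818
import Cfsg.Agent.S0822
import Cfsg.Agent.S2140
import Cfsg.Agent.S2141
import Cfsg.Agent.S2142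
import Cfsg.Agent.S2143
import Cfsg.Agent.S2144
import Cfsg.Agent.S2145
import Cfsg.Agent.S2146
import Cfsg.Agent.S2147
import Cfsg.Agent.S2148
import Cfsg.Agent.S2149
import Cfsg.Agent.S2150
import Cfsg.Agent.S2151
import Cfsg.Agent.S2152
import Cfsg.Agent.H500.AS.Index
import Cfsg.Agent.LieClassical.OmegaCenter
import Cfsg.Agent.LieClassical.OrthForms
import Cfsg.Agent.LieClassical.SUBasic
import Cfsg.Agent.LieClassical.SympCenter
import Cfsg.Agent.Lib.MinNormal
import Cfsg.Agent.H12.KSch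
import Cfsg.Agent.H433.EP.LSn
import Cfsg.Agent.H175.BdSp_m3
import Cfsg.Agent.FastGrp
import Cfsg.Agent.Prune
set_option linter.all false

section
prune_inst 0x7ffdbcf9bfb97ddeffff7e7faff9ddfff9be9fffefdff9fbffec7bffafdf230a89e5f38d6fe0d0ff0e96c29c10a87843f9ffeeffea6bdc7ffffd5ff45ffbee1ff7ffbd0871d78c3e0fbc6ffff3f07f8e7f3fffffffffffffffffffffffffffbeffffffffffff

-- part: TH/Sim/Dat
section
prune_inst 0x20104400202210000018000022000020000000000000000000000100000140000002000002000100008000000000002001000000420000000a000000000400000002000000000000000000000000000000000000000000000000000000000000000000000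
set_option linter.all false
open scoped Cfsg.Agent.FastGrp

/-!
# S3541: the numerical data of a classical socle (helper64)
-/

set_option autoImplicit false
set_option linter.unusedSectionVars false

namespace Cfsg.Agent.TH.Sv

open Finset Cfsg.Agent.LieClassical

namespace Dat

theorem prd_eq (f : ℕ → ℕ) (a k : ℕ) : prd f a k = ∏ i ∈ range k, f (a + i) := by
  induction k with
  | zero => rfl
  | succ k ih => rw [prd, ih, prod_range_succ]

theorem prd_two (q k : ℕ) : prd (fun i => q ^ (2 * i) - 1) 1 k = ∏ i ∈ range k, (q ^ (2 * (i + 1)) - 1) := by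
  rw [prd_eq]; simp only [add_comm 1]

theorem prod_gl {q : ℕ} (n : ℕ) : ∏ i : Fin (n + 1), (q ^ (n + 1) - q ^ (i : ℕ)) =
    (q - 1) * (q ^ ((n + 1) * n / 2) * prd (fun i => q ^ i - 1) 2 n) := by
  rw [Fin.prod_univ_eq_prod_range (fun i => q ^ (n + 1) - q ^ i),
    prod_congr rfl (g := fun i => q ^ i * (q ^ (n + 1 - 1 - i + 1) - 1)) fun i hi => by
      rw [Nat.mul_sub_one, ← pow_add, show i + (n + 1 - 1 - i + 1) = n + 1 by have := mem_range.1 hi; omega],
    prod_mul_distrib, prod_pow_eq_pow_sum, sum_range_id, prod_range_reflect (fun i => q ^ (i + 1) - 1), prod_range_succ',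
    prd_eq]
  simp only [Nat.add_sub_cancel, zero_add, pow_one, add_comm 2]
  ring

theorem prod_gu {q : ℕ} (n : ℕ) : ∏ i ∈ range (n + 1), (if Even i then q ^ (i + 1) + 1 else q ^ (i + 1) - 1) =
    (q + 1) * prd (um q) 2 n := by
  rw [prod_range_succ', prd_eq, if_pos Even.zero, zero_add, pow_one, mul_comm]
  congr 1
  refine prod_congr rfl fun i _ => ?_
  simp only [um, Nat.even_iff, add_comm 2, add_assoc]
  split_ifs <;> first | rfl | omega

theorem pow_mod_four {q : ℕ} (hq : q % 2 = 1) (m : ℕ) : q ^ m % 4 = if Even (m * (q - 1) / 2) then 1 else 3 := by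
  obtain ⟨a, rfl⟩ : ∃ a, q = 2 * a + 1 := ⟨q / 2, by omega⟩
  rw [Nat.add_sub_cancel, mul_left_comm, Nat.mul_div_cancel_left _ two_pos]
  simp only [Nat.even_iff]
  induction m with
  | zero => simp
  | succ m ih =>
    rw [pow_succ, Nat.mul_mod, ih, add_mul, one_mul]
    have h1 : (2 * a + 1) % 4 = if a % 2 = 0 then 1 else 3 := by (first | (lia; done) | (split_ifs <;> omega))
    rw [h1]
    (first | (lia; done) | (split_ifs <;> omega))

theorem gcd_four (x : ℕ) : Nat.gcd 4 x = if x % 4 = 0 then 4 else if x % 4 = 2 then 2 else 1 := by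
  rw [Nat.gcd_rec]
  have : x % 4 < 4 := Nat.mod_lt _ (by decide)
  generalize x % 4 = r at *
  interval_cases r <;> rfl

theorem out_four {p f : ℕ} (hp : p.Prime) (hf : 0 < f) {m : ℕ} (hm : 0 < m) :
    ((if p = 2 then 2 else (if Even (m * (p ^ f - 1) / 2) then 8 else 4)) = 2 * Nat.gcd 4 ((p ^ f) ^ m - 1)) ∧
    (if p = 2 then 2 else (if Even (m * (p ^ f - 1) / 2) then 4 else 8)) = 2 * Nat.gcd 4 ((p ^ f) ^ m + 1) := by
  have h0 : 0 < (p ^ f) ^ m := pow_pos (pow_pos hp.pos _) _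
  rw [gcd_four, gcd_four]
  rcases hp.eq_two_or_odd' with rfl | h
  · have h1 : 2 ∣ (2 ^ f) ^ m := dvd_pow (dvd_pow_self 2 hf.ne') hm.ne'
    simp only [if_true]
    constructor <;> (first | (lia; done) | (split_ifs <;> omega))
  · have h1 := pow_mod_four (Nat.odd_iff.1 (h.pow (n := f))) m
    have h2 : p ≠ 2 := by rintro rfl; exact absurd h (by decide)
    simp only [if_neg h2]
    constructor <;> (first | (lia; done) | (split_ifs at h1 ⊢ <;> omega))

section

variable {G : Type} [Group G] [Finite G] {T : Subgroup G} {X : Type} [Group X]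

theorem index_dvd (hT : AS T) (e : T ≃* X) {o : ℕ} (h : Nat.card (MulAut X) = o * Nat.card X) : T.index ∣ o := by
  have := hT.normal
  have h1 : Nat.card G ∣ Nat.card (MulAut T) :=
    Subgroup.card_dvd_of_injective (MulAut.conjNormal : G →* MulAut T) (by
      rw [injective_iff_map_eq_one]
      intro g hg
      have h2 : g ∈ Subgroup.centralizer (T : Set G) := fun t ht => by
        have h3 := congrArg (fun σ : MulAut T => ((σ ⟨t, ht⟩ : T) : G)) hg
        simp only [MulAut.conjNormal_apply, MulAut.one_apply] at h3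
        exact (mul_inv_eq_iff_eq_mul.1 h3).symm
      rwa [hT.cent] at h2)
  rw [Nat.card_congr (MulAut.congr e).toEquiv, h, ← Nat.card_congr e.toEquiv, ← T.index_mul_card] at h1
  exact Nat.dvd_of_mul_dvd_mul_right Nat.card_pos h1

theorem le_index {Y : Type} [Group Y] (e : Y ≃* X) {c : ℕ} (h : ∀ M : Subgroup X, M ≠ ⊤ → c ≤ M.index) (M : Subgroup Y)
    (hM : M ≠ ⊤) : c ≤ M.index := by
  rw [← Subgroup.index_map_of_bijective (f := e.toMonoidHom) e.bijective M]
  refine h _ fun h1 => hM ?_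
  rw [← Subgroup.index_eq_one, Subgroup.index_map_of_bijective (f := e.toMonoidHom) e.bijective M] at h1
  exact Subgroup.index_eq_one.1 h1

end

theorem projRep {p n : ℕ} {F ι Γ T : Type} [Field F] [Fintype F] [CharP F p] [Fintype ι] [DecidableEq ι] [Group Γ]
    [Group T] (hn : Fintype.card ι = n) (h0 : 0 < n) (φ : Γ →* Matrix ι ι F) (hφ : Function.Injective φ)
    (hc : ∀ g ∈ Subgroup.center Γ, ∃ c : F, φ g = c • 1) (e : T ≃* Γ ⧸ Subgroup.center Γ) :
    ProjRep p (Fintype.card F) n T := by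
  let r := Matrix.reindexAlgEquiv F F (Fintype.equivFinOfCardEq hn)
  let ψ : Γ →* GL (Fin n) F := (r.toRingEquiv.toMonoidHom.comp φ).toHomUnits
  have h1 : ∀ g, (ψ g : Matrix (Fin n) (Fin n) F) = r (φ g) := fun _ => rfl
  have h2 : Function.Injective ψ := fun a b h => hφ (r.injective (by rw [← h1, ← h1, h]))
  refine ⟨F, inferInstance, inferInstance, inferInstance, ψ.range,
    (e.symm.toMonoidHom.comp (QuotientGroup.mk' _)).comp (MonoidHom.ofInjective h2).symm.toMonoidHom, rfl,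
    (e.symm.surjective.comp (QuotientGroup.mk'_surjective _)).comp (MonoidHom.ofInjective h2).symm.surjective, ?_⟩
  intro x
  obtain ⟨g, rfl⟩ := (MonoidHom.ofInjective h2).surjective x
  simp only [MonoidHom.comp_apply, MulEquiv.coe_toMonoidHom, MulEquiv.symm_apply_apply, map_eq_one_iff _ e.symm.injective,
    QuotientGroup.mk'_apply, QuotientGroup.eq_one_iff, MonoidHom.ofInjective_apply, Cfsg.Geo.mem_scalars_iff, h1]
  constructor
  · intro hg
    obtain ⟨c, h3⟩ := hc g hg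
    have h4 : r (φ g) = c • 1 := by rw [h3, map_smul, map_one]
    refine ⟨Units.mk0 c ?_, h4⟩
    rintro rfl
    have : Nonempty (Fin n) := ⟨⟨0, h0⟩⟩
    exact (ψ g).ne_zero (by rw [h1, h4, zero_smul])
  · rintro ⟨c, h3⟩
    refine Subgroup.mem_center_iff.2 fun a => hφ (r.injective ?_)
    rw [map_mul, map_mul, map_mul, map_mul, h3, Matrix.mul_smul, Matrix.smul_mul, mul_one, one_mul]

theorem projRep_O {p n : ℕ} {F ι T : Type} [Field F] [Fintype F] [CharP F p] [Fintype ι] [DecidableEq ι] [Group T]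
    (hn : Fintype.card ι = n) (h0 : 3 ≤ n) (Q : QuadraticForm F (ι → F)) {Q' : (ι → F) → F} (hQ' : ⇑Q = Q')
    (hQ : OrthCore.Nondeg Q) (hs : ∃ u : ι → F, u ≠ 0 ∧ Q' u = 0) (e : T ≃* POmega F Q') :
    ProjRep p (Fintype.card F) n T := by
  subst hQ'
  refine projRep hn (by omega) (((Units.coeHom _).comp (isometryGroup F Q).subtype).comp (Omega F Q).subtype)
    (fun _ _ => OmegaCenter.omega_ext) (fun g hg => ?_) e
  rcases (OmegaCenter.mem_center_omega_iff Q ⟨fun x hx => hQ x hx, fun x hx => hQ x fun y => by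
    rw [QuadraticMap.polar_comm]; exact hx y⟩ (by omega) hs g).1 hg with h | h
  · exact ⟨1, h.trans (one_smul _ _).symm⟩
  · exact ⟨-1, h.trans (by simp)⟩

theorem tr (P : ℕ → Prop) {a b : ℕ} (h : a = b) (x : P b) : P a := h ▸ x

theorem out2 (n p f : ℕ) : outCl 2 n p f = (if n = 4 ∧ p = 2 then 2 else 1) * Nat.gcd 2 (p ^ f - 1) * f := rfl
theorem out4 (n p f : ℕ) : outCl 4 n p f = (if n = 8 then 6 else 2) * Nat.gcd 4 ((p ^ f) ^ (n / 2) - 1) * f := rfl
theorem out5 (n p f : ℕ) : outCl 5 n p f = 2 * Nat.gcd 4 ((p ^ f) ^ (n / 2) + 1) * f := rfl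

theorem exists_pow (F : Type) [Field F] [Fintype F] (p : ℕ) [CharP F p] : ∃ f, 0 < f ∧ Fintype.card F = p ^ f := by
  obtain ⟨n, -, h⟩ := FiniteField.card F p
  exact ⟨n, n.2, h⟩

variable {G : Type} [Group G] [Finite G] {T H : Subgroup G} {m p : ℕ} (c : LieCtx T H m p)
include c

theorem dat_L (h : IsPSLChar p T) : ∃ t n f, ClDat p T t n f := by
  obtain ⟨F, _, _, _, n, h1, h2, ⟨e⟩⟩ := h
  have := Fact.mk c.prime
  obtain ⟨f, hf, hF⟩ := exists_pow F p
  have hq : 2 ≤ p ^ f := hF ▸ Fintype.one_lt_card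
  have h3 : 3 ≤ n := by
    by_contra h
    obtain rfl : n = 2 := by omega
    exact c.notL2 ⟨F, inferInstance, inferInstance, h2 rfl, ⟨e⟩⟩
  have h4 : ¬ (n ≤ 4 ∧ p ^ f = 2) := by
    rintro ⟨h4, h5⟩
    rw [h5] at hF
    obtain rfl | rfl : n = 3 ∨ n = 4 := by omega
    · have := Fact.mk (by decide : Nat.Prime 7)
      obtain ⟨e'⟩ := S0255.result (F := ZMod 7) (ZMod.card 7) hF
      exact c.notL2 ⟨ZMod 7, inferInstance, inferInstance, by rw [ZMod.card]; decide, ⟨e.trans e'.symm⟩⟩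
    · obtain ⟨e'⟩ := S0256.result hF
      exact c.notAlt ⟨8, by decide, ⟨e.trans e'⟩⟩
  have h5 := S0243.result hF n h1
  have h6 := S0813.result p f hf hF n h1 (by omega)
  have h7 := Matrix.card_GL_field (𝔽 := F) n
  have h8 := (Subgroup.center (GL (Fin n) F)).card_eq_card_quotient_mul_card_subgroup
  have h9 : Nat.card (Subgroup.center (GL (Fin n) F)) = p ^ f - 1 := by
    have : Nonempty (Fin n) := ⟨⟨0, by omega⟩⟩
    classical
    rw [Matrix.GeneralLinearGroup.center_eq_range_scalar, ← hF, ← Fintype.card_units, ← Nat.card_eq_fintype_card]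
    exact (Nat.card_congr (MonoidHom.ofInjective fun a b h => Units.ext
      (Matrix.scalar_inj.1 (congrArg Units.val h))).toEquiv).symm
  have h10 : Nat.card (Matrix.ProjGenLinGroup (Fin n) F) =
      Nat.gcd n (p ^ f - 1) * Nat.card (Matrix.ProjectiveSpecialLinearGroup (Fin n) F) := by
    rw [hF, ← h5] at h7
    rw [h9] at h8
    refine Nat.eq_of_mul_eq_mul_right (show 0 < p ^ f - 1 by omega) (Eq.trans (h8.symm.trans h7) (by ring))
  refine ⟨0, n, f, hf, by simp [validCl, h3]; omega, ⟨F, inferInstance, inferInstance, inferInstance, Or.inl ⟨rfl, hF, ⟨e⟩⟩⟩,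
    ?_, index_dvd c.as e (by rw [h6, h10, if_neg (by omega), outCl, if_pos rfl]; ring),
    le_index e (S2140.result hF n h3 (by omega)).1, ?_⟩
  · obtain ⟨n, rfl⟩ : ∃ k, n = k + 1 := ⟨n - 1, by omega⟩
    rw [prod_gl, mul_left_comm] at h5
    rw [Nat.card_congr e.toEquiv, ordCl, if_pos rfl, Nat.add_sub_cancel,
      ← Nat.eq_of_mul_eq_mul_left (by omega) h5, Nat.mul_div_cancel_left _ (Nat.gcd_pos_of_pos_left _ (by omega))]
  · rw [if_neg (by decide), ← hF]
    refine projRep (Fintype.card_fin n) (by omega) (slToMat n F) (fun a b h => Subtype.ext h) (fun g hg => ?_) e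
    obtain ⟨r, -, hr⟩ := Matrix.SpecialLinearGroup.mem_center_iff.1 hg
    exact ⟨r, by rw [Matrix.smul_one_eq_diagonal]; exact hr.symm⟩

theorem dat_U (h : IsPSUChar p T) : ∃ t n f, ClDat p T t n f := by
  obtain ⟨F, _, _, _, n, q, hF, h1, h2, ⟨e⟩⟩ := h
  have := Fact.mk c.prime
  obtain ⟨k, -, hk⟩ := exists_pow F p
  obtain ⟨f, -, rfl⟩ := (Nat.dvd_prime_pow c.prime).1 (show q ∣ p ^ k by rw [← hk, hF]; exact dvd_pow_self q two_ne_zero)
  have hf : 0 < f := Nat.pos_of_ne_zero fun e => by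
    have := Fintype.one_lt_card (α := F)
    rw [hF, e] at this
    simp at this
  have hq : 2 ≤ p ^ f := Nat.one_lt_pow hf.ne' c.prime.one_lt
  have h5 := S0280.result hF n (by omega)
  refine ⟨1, n, f, hf, by simp [validCl, h1]; omega,
    ⟨F, inferInstance, inferInstance, inferInstance, Or.inr (Or.inl ⟨rfl, hF, ⟨e⟩⟩)⟩, ?_,
    index_dvd c.as e (by rw [S0815.result p f hf rfl hF n h1 h2, outCl, if_neg (by decide), if_pos rfl]; ring),
    le_index e ?_, ?_⟩
  · obtain ⟨n, rfl⟩ : ∃ k, n = k + 1 := ⟨n - 1, by omega⟩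
    rw [prod_gu, mul_left_comm, mul_left_comm _ (p ^ f + 1)] at h5
    rw [Nat.card_congr e.toEquiv, ordCl, if_neg (by decide), if_pos rfl,
      show prd (um (p ^ f)) 2 (n + 1 - 1) = prd (um (p ^ f)) 2 n from rfl,
      ← Nat.eq_of_mul_eq_mul_left (by omega) h5, Nat.mul_div_cancel_left _ (Nat.gcd_pos_of_pos_left _ (by omega))]
  · generalize p ^ f = q at *
    rw [lminCl, if_neg (by decide), if_pos rfl]
    split_ifs with h3 h4 h6 h7
    · subst h3 h4; exact (S2149.result hF).1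
    · subst h3; exact (S2148.result q hF (by omega) h4).1
    · subst h6; exact (S2150.result q hF hq).1
    · intro M hM
      obtain ⟨rfl, h8⟩ := h7
      obtain ⟨j, rfl⟩ : ∃ j, n = j + 2 := ⟨n - 2, by omega⟩
      have h9 := H77.Final.lower hF (by omega) M hM
      rw [H77.Step1.In, (Nat.even_iff.2 h8).neg_one_pow, Nat.add_sub_cancel] at h9
      refine Nat.div_le_of_le_mul ?_
      have h10 : 1 ≤ 2 ^ (j + 2) := Nat.one_le_two_pow
      have h11 : (1 : ℤ) ≤ 2 ^ j := one_le_pow₀ (by decide)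
      zify [h10]
      rw [show j + 2 - 1 = j + 1 from rfl, pow_succ, pow_add]
      push_cast at h9
      rcases h9 with h9 | ⟨-, -, h9⟩ <;> linarith only [h11, h9]
    · rcases Nat.even_or_odd n with h8 | h8
      · have h9 := Nat.even_iff.1 h8
        rw [um, um, if_pos h9, if_neg (by omega)]
        exact (S2152.result q hF (by omega) n (by omega) h8).1
      · have h9 := Nat.odd_iff.1 h8
        rw [um, um, if_neg (by omega), if_pos (by omega)]
        exact (S2151.result q hF hq n (by omega) h8).1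
  · rw [if_pos rfl, ← hF]
    refine projRep (Fintype.card_fin n) (by omega) ((slToMat n F).comp (SU n F (p ^ f)).subtype)
      (fun a b h => Subtype.ext (Subtype.ext h)) (fun g hg => ?_) e
    obtain ⟨r, h3, h4, rfl⟩ := (SUBasic.mem_center_SU_iff hF h1 g).1 hg
    exact ⟨r, by rw [Matrix.smul_one_eq_diagonal]; rfl⟩

theorem dat_Sp (h : IsPSpChar p T) : ∃ t n f, ClDat p T t n f := by
  obtain ⟨F, _, _, _, k, h1, h2, ⟨e⟩⟩ := h
  have := Fact.mk c.prime
  obtain ⟨f, hf, hF⟩ := exists_pow F p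
  have hq : 2 ≤ p ^ f := hF ▸ Fintype.one_lt_card
  have hk : 2 * k / 2 = k := by omega
  rw [hF] at h2
  refine ⟨2, 2 * k, f, hf, by simp [validCl]; omega, ⟨F, inferInstance, inferInstance, inferInstance,
    Or.inr (Or.inr (Or.inl ⟨rfl, hF, tr (fun j => Nonempty (T ≃* PSp j F)) hk ⟨e⟩⟩))⟩, ?_,
    index_dvd c.as e (by
      rw [S0814.result p f hf hF k h1 h2, out2]
      simp only [show 2 * k = 4 ↔ k = 2 by omega]), le_index e ?_, ?_⟩
  · have h3 := (Subgroup.center (Matrix.symplecticGroup (Fin k) F)).card_eq_card_quotient_mul_card_subgroup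
    rw [S0245.result hF, S0246.result hF k (by omega)] at h3
    rw [Nat.card_congr e.toEquiv, ordCl, if_neg (by decide), if_neg (by decide), if_pos (by decide), hk, prd_two, ← sq, h3,
      Nat.mul_div_cancel _ (Nat.gcd_pos_of_pos_left _ two_pos)]
  · generalize p ^ f = q at *
    rw [lminCl, if_neg (by decide), if_neg (by decide), if_pos rfl, hk]
    split_ifs with h3 h4
    · obtain rfl : k = 2 := by omega
      have := Fintype.ofFinite (GaloisField 2 2)
      have h5 : Fintype.card (GaloisField 2 2) = 4 := by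
        rw [← Nat.card_eq_fintype_card, GaloisField.card 2 2 two_ne_zero]; rfl
      obtain ⟨e'⟩ := S0822.result h5 (hF.trans h3.2)
      exact le_index e'.symm (S2150.result 2 h5 le_rfl).1
    · exact (S2142.result (hF.trans h4) k (by omega)).1
    · exact (S2141.result hF k h1 (by omega) (by omega)).1
  · rw [if_neg (by decide), ← hF]
    exact projRep (by simp only [two_mul, _root_.Fintype.card_sum, _root_.Fintype.card_fin, _root_.Nat.add_left_cancel_iff]) (by omega) (Matrix.symplecticGroup (Fin k) F).subtype Subtype.val_injective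
      (fun g hg => (SympCenter.mem_center_iff k g).1 hg) e

theorem dat_O (h : IsPOmegaOddChar p T) : ∃ t n f, ClDat p T t n f := by
  obtain ⟨F, _, _, _, k, h1, h2, ⟨e⟩⟩ := h
  have := Fact.mk c.prime
  obtain ⟨f, hf, hF⟩ := exists_pow F p
  have hq : 2 ≤ p ^ f := hF ▸ Fintype.one_lt_card
  have hk : (2 * k + 1) / 2 = k := by omega
  rw [hF] at h2
  have h3 := Nat.odd_iff.1 h2
  have hp : Odd p := (Nat.odd_pow_iff hf.ne').1 h2
  refine ⟨3, 2 * k + 1, f, hf, by simp [validCl, h3]; omega, ⟨F, inferInstance, inferInstance, inferInstance,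
    Or.inr (Or.inr (Or.inr (Or.inl ⟨rfl, hF, tr (fun j => Nonempty (T ≃* POmega F (quadFormOdd j F))) hk ⟨e⟩⟩)))⟩, ?_,
    index_dvd c.as e (S0816.result p f hf hF hp k h1), le_index e ?_, ?_⟩
  · rw [Nat.card_congr e.toEquiv, ordCl, if_neg (by decide), if_neg (by decide), if_pos (by decide), hk, prd_two, ← sq,
      ← S0292.result hF h2 k h1, Nat.gcd_eq_left (by omega), Nat.mul_div_cancel_left _ two_pos]
  · generalize p ^ f = q at *
    rw [lminCl, if_neg (by decide), if_neg (by decide), if_neg (by decide), if_pos rfl, hk]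
    split_ifs with h4
    · exact (S2144.result (hF.trans h4) k h1).1
    · exact (S2143.result hF h2 (by omega) k h1).1
  · rw [if_neg (by decide), ← hF]
    refine projRep_O (by simp only [_root_.Fintype.card_sum, _root_.Fintype.card_unique, _root_.Fintype.card_fin]; omega) (by omega) _ (OrthForms.coe_oddForm k F) (OrthForms.nondeg_oddForm k F fun h4 => ?_)
      ⟨Pi.single (.inr (.inl ⟨0, by omega⟩)) 1, by simp, by simp only [quadFormOdd, _root_.ne_eq, _root_.reduceCtorEq, _root_.not_false_eq_true, _root_.Pi.single_eq_of_ne, _root_.OfNat.ofNat_ne_zero, _root_.zero_pow, _root_.Sum.inr.injEq, _root_.MulZeroClass.mul_zero, _root_.Finset.sum_const_zero, _root_.add_zero]⟩ e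
    have h5 := (CharP.cast_eq_zero_iff F p 2).1 (by exact_mod_cast h4)
    rw [(Nat.prime_dvd_prime_iff_eq c.prime Nat.prime_two).1 h5] at hp
    exact absurd hp (by decide)

theorem dat_Op (h : IsPOmegaPlusChar p T) : ∃ t n f, ClDat p T t n f := by
  obtain ⟨F, _, _, _, k, h1, ⟨e⟩⟩ := h
  have := Fact.mk c.prime
  obtain ⟨f, hf, hF⟩ := exists_pow F p
  have hq : 2 ≤ p ^ f := hF ▸ Fintype.one_lt_card
  have hk : 2 * k / 2 = k := by omega
  refine ⟨4, 2 * k, f, hf, by simp [validCl]; omega, ⟨F, inferInstance, inferInstance, inferInstance,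
    Or.inr (Or.inr (Or.inr (Or.inr (Or.inl ⟨rfl, hF, tr (fun j => Nonempty (T ≃* POmega F (quadFormPlus j F))) hk ⟨e⟩⟩))))⟩, ?_,
    index_dvd c.as e (by
      rw [S0817.result p f hf hF k h1, (out_four c.prime hf (m := k) (by omega)).1, out4, hk]
      simp only [show 2 * k = 8 ↔ k = 4 by omega]
      split_ifs <;> ring), le_index e ?_, ?_⟩
  · rw [Nat.card_congr e.toEquiv, ordCl, if_neg (by decide), if_neg (by decide), if_neg (by decide), if_pos rfl, hk,
      prd_two, ← S0293.result hF k h1, Nat.mul_div_cancel_left _ (Nat.gcd_pos_of_pos_left _ (by decide))]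
  · generalize p ^ f = q at *
    rw [lminCl, if_neg (by decide), if_neg (by decide), if_neg (by decide), if_neg (by decide), if_pos rfl, hk]
    split_ifs with h3 h4
    · exact (S2146.result (hF.trans h3) k h1).1
    · obtain ⟨k, rfl⟩ : ∃ j, k = j + 1 := ⟨k - 1, by omega⟩
      exact H500.AS.plus_three_index_ge (hF.trans h4) (by omega)
    · exact (S2145.result hF (by omega) k h1).1
  · rw [if_neg (by decide), ← hF]
    exact projRep_O (by simp only [_root_.Fintype.card_sum, _root_.Fintype.card_fin]; omega) (by omega) _ (OrthForms.coe_plusForm k F) (OrthForms.nondeg_plusForm k F)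
      ⟨Pi.single (.inl ⟨0, by omega⟩) 1, by simp, by simp only [quadFormPlus, _root_.ne_eq, _root_.reduceCtorEq, _root_.not_false_eq_true, _root_.Pi.single_eq_of_ne, _root_.MulZeroClass.mul_zero, _root_.Finset.sum_const_zero]⟩ e

theorem dat_Om (h : IsPOmegaMinusChar p T) : ∃ t n f, ClDat p T t n f := by
  obtain ⟨F, _, _, _, k, a, b, h1, hab, ⟨e⟩⟩ := h
  have := Fact.mk c.prime
  obtain ⟨f, hf, hF⟩ := exists_pow F p
  have hk : 2 * k / 2 = k := by omega
  refine ⟨5, 2 * k, f, hf, by simp [validCl]; omega, ⟨F, inferInstance, inferInstance, inferInstance,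
    Or.inr (Or.inr (Or.inr (Or.inr (Or.inr ⟨rfl, hF, a, b, hab,
      tr (fun j => Nonempty (T ≃* POmega F (quadFormMinus (j - 1) F a b))) hk ⟨e⟩⟩))))⟩, ?_,
    index_dvd c.as e (by
      rw [S0818.result p f hf hF k h1 a b hab, (out_four c.prime hf (m := k) (by omega)).2, out5, hk]), le_index e ?_, ?_⟩
  · rw [Nat.card_congr e.toEquiv, ordCl, if_neg (by decide), if_neg (by decide), if_neg (by decide), if_neg (by decide), hk,
      prd_two, ← S0294.result hF k h1 a b hab, Nat.mul_div_cancel_left _ (Nat.gcd_pos_of_pos_left _ (by decide))]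
  · rw [lminCl, if_neg (by decide), if_neg (by decide), if_neg (by decide), if_neg (by decide), if_neg (by decide), hk]
    exact (S2147.result hF k h1 a b hab).1
  · rw [if_neg (by decide), ← hF]
    exact projRep_O (by simp only [_root_.Fintype.card_sum, _root_.Fintype.card_fin]; omega) (by omega) _ (OrthForms.coe_minusForm (k - 1) F a b)
      (OrthForms.nondeg_minusForm (k - 1) F a b hab)
      ⟨Pi.single (.inl (.inl ⟨0, by omega⟩)) 1, by simp only [_root_.ne_eq, _root_.Pi.single_eq_zero_iff, _root_.one_ne_zero, _root_.not_false_eq_true], by simp only [quadFormMinus, _root_.ne_eq, _root_.Sum.inl.injEq, _root_.reduceCtorEq, _root_.not_false_eq_true, _root_.Pi.single_eq_of_ne, _root_.MulZeroClass.mul_zero, _root_.Finset.sum_const_zero, _root_.Fin.isValue, _root_.OfNat.ofNat_ne_zero, _root_.zero_pow, _root_.add_zero]⟩ e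

end Dat

/-- **the data of a classical socle** -/
theorem boxClDat : BoxClDat := by
  rintro G _ _ T H m p c (h | h | h | h | h | h)
  exacts [Dat.dat_L c h, Dat.dat_Sp c h, Dat.dat_U c h, Dat.dat_O c h, Dat.dat_Op c h, Dat.dat_Om c h]

end Cfsg.Agent.TH.Sv

private theorem dce_899f9933db05 : _root_.True := by
  try have : _root_.True := by simp only [_root_.Cfsg.Agent.TH.Sv.prd.eq_def]
  try have : _root_.True := by simp only [_root_.Cfsg.Agent.TH.Sv.ordCl.eq_1]
  try have : _root_.True := by simp only [_root_.Cfsg.Agent.TH.Sv.prd.eq_1]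
  try have : _root_.True := by simp only [_root_.Cfsg.Agent.TH.Sv.outCl.eq_1]
  try have : _root_.True := by simp only [_root_.Cfsg.Agent.TH.Sv.lminCl.eq_1]
  try have : _root_.True := by simp only [_root_.Cfsg.POmega.congr_simp]
  try have : _root_.True := by simp only [_root_.Cfsg.Agent.TH.Sv.prd.eq_2]
  try have : _root_.True := by simp only [_root_.Cfsg.Agent.TH.Sv.um.eq_1]
  try have : _root_.True := by simp only [_root_.Cfsg.Agent.TH.Sv.validCl.eq_1]
  exact _root_.True.intro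
end

-- part: TH/Sv/TriE
section
set_option linter.all false
open scoped Cfsg.Agent.FastGrp

/-!
# S3541: `boxTri` and `Sv.boxE` (helper74)
-/

set_option autoImplicit false
set_option linter.unusedSectionVars false

namespace Cfsg.Agent.TH

open Own

namespace Sv

section

variable {G : Type*} [Group G] [Finite G] {T H : Subgroup G} {m : ℕ}

/-- the minimal `H`-invariant subgroups of `H ⊓ T` -/
def MinA (T H N : Subgroup G) : Prop :=
  N ≤ H ⊓ T ∧ N ≠ ⊥ ∧ (∀ h ∈ H, cj h N = N) ∧ ∀ M : Subgroup G, M ≤ N → (∀ h ∈ H, cj h M = M) → M = ⊥ ∨ M = N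

theorem exists_minA {Z : Subgroup G} (h1 : Z ≤ H ⊓ T) (h0 : Z ≠ ⊥) (h2 : ∀ h ∈ H, cj h Z = Z) :
    ∃ N, N ≤ Z ∧ MinA T H N := by
  obtain ⟨N, ⟨hNZ, hNn, hN0⟩, hmin⟩ := WellFounded.has_min (wellFounded_lt (α := Subgroup G))
    {N : Subgroup G | N ≤ Z ∧ (∀ h ∈ H, cj h N = N) ∧ N ≠ ⊥} ⟨Z, le_rfl, h2, h0⟩
  refine ⟨N, hNZ, hNZ.trans h1, hN0, hNn, fun K hKN hK => ?_⟩
  by_cases h3 : K = ⊥
  · exact Or.inl h3
  · exact Or.inr (eq_of_le_of_not_lt hKN (hmin K ⟨hKN.trans hNZ, hK, h3⟩))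

theorem MinA.exists_simple {N : Subgroup G} (h : MinA T H N) :
    ∃ S : Subgroup G, S ≤ N ∧ (∀ x ∈ N, cj x S = S) ∧ IsSimpleGroup S := by
  have hN : N ≤ H := h.1.trans inf_le_left
  have h1 : (N.subgroupOf H).Normal := ⟨fun x hx a => nm_conj (K := N) (h.2.2.1 a a.2) hx⟩
  obtain ⟨-, s, -, -, ⟨S, hS⟩, -, -, h2⟩ := Lib.MinNormal.exists_set_decomposition (N.subgroupOf H)
    (fun e => h.2.1 (by rw [← Subgroup.map_subgroupOf_eq_of_le hN, e, Subgroup.map_bot])) fun M hM hMN => by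
      rcases h.2.2.2 (M.map H.subtype) (Subgroup.map_le_iff_le_comap.2 hMN) (fun a ha => nm_of_conj (by
        rintro _ ⟨x, hx, rfl⟩
        exact ⟨_, hM.conj_mem x hx ⟨a, ha⟩, rfl⟩)) with h3 | h3
      · exact Or.inl ((Subgroup.map_eq_bot_iff_of_injective _ H.subtype_injective).1 h3)
      · exact Or.inr (by rw [← h3]; exact (Subgroup.comap_map_eq_self_of_injective H.subtype_injective M).symm)
  obtain ⟨h3, -, h4, -, h5⟩ := h2 S hS
  refine ⟨S.map H.subtype, Subgroup.map_le_iff_le_comap.2 h3, fun x hx => nm_of_conj ?_,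
    (S.equivMapOfInjective H.subtype H.subtype_injective).symm.isSimpleGroup⟩
  rintro _ ⟨y, hy, rfl⟩
  exact ⟨_, (Subgroup.mem_normalizer_iff.1 (h4 (show (⟨x, hN hx⟩ : H) ∈ N.subgroupOf H from hx)) y).1 hy, rfl⟩

omit [Finite G] in
theorem comm_of_inf {S R : Subgroup G} (h1 : ∀ x ∈ S, cj x R = R) (h2 : ∀ x ∈ R, cj x S = S) (h : S ⊓ R = ⊥) :
    ∀ x ∈ S, ∀ y ∈ R, x * y = y * x := fun _ hx _ hy =>
  Lib.MinNormal.commute_of_disjoint (fun a ha => nm_iff.2 (h1 a ha)) (fun a ha => nm_iff.2 (h2 a ha))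
    (disjoint_iff.2 h) hx hy

omit [Finite G] in
theorem inf_eq_bot_or_le {S R : Subgroup G} [IsSimpleGroup S] (h : ∀ x ∈ S, cj x R = R) : S ⊓ R = ⊥ ∨ S ≤ R := by
  have h1 : (R.subgroupOf S).Normal := ⟨fun x hx a => nm_conj (K := R) (h a a.2) hx⟩
  rcases h1.eq_bot_or_eq_top with h2 | h2
  · exact Or.inl (disjoint_iff.1 (Subgroup.subgroupOf_eq_bot.1 h2).symm)
  · exact Or.inr (Subgroup.subgroupOf_eq_top.1 h2)

/-- the simple factors -/
def Fac (T H : Subgroup G) : Set (Subgroup G) :=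
  {S | IsSimpleGroup S ∧ ∃ N, MinA T H N ∧ S ≤ N ∧ ∀ x ∈ N, cj x S = S}

theorem Fac.comm {S R : Subgroup G} (hS : S ∈ Fac T H) (hR : R ∈ Fac T H) (hne : S ≠ R) :
    ∀ x ∈ S, ∀ y ∈ R, x * y = y * x := by
  obtain ⟨s1, N, hN, s2, s3⟩ := hS
  obtain ⟨r1, M, hM, r2, r3⟩ := hR
  by_cases h : N = M
  · subst h
    refine comm_of_inf (fun x hx => r3 x (s2 hx)) (fun x hx => s3 x (r2 hx)) ?_
    rcases inf_eq_bot_or_le (S := S) (R := R) fun x hx => r3 x (s2 hx) with h1 | h1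
    · exact h1
    rcases inf_eq_bot_or_le (S := R) (R := S) fun x hx => s3 x (r2 hx) with h2 | h2
    · rwa [inf_comm]
    · exact absurd (le_antisymm h1 h2) hne
  · have h1 : N ⊓ M = ⊥ := by
      rcases hN.2.2.2 (N ⊓ M) inf_le_left fun a ha => nm_inf (hN.2.2.1 a ha) (hM.2.2.1 a ha) with h1 | h1
      · exact h1
      · exact absurd ((hM.2.2.2 N (h1 ▸ inf_le_right) hN.2.2.1).resolve_left hN.2.1) h
    exact fun x hx y hy => comm_of_inf (fun a ha => hM.2.2.1 a (hN.1 ha).1) (fun a ha => hN.2.2.1 a (hM.1 ha).1) h1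
      x (s2 hx) y (r2 hy)

theorem Fac.cj {S : Subgroup G} (hS : S ∈ Fac T H) {h : G} (hh : h ∈ H) : TH.cj h S ∈ Fac T H := by
  obtain ⟨s1, N, hN, s2, s3⟩ := hS
  exact ⟨(S.equivMapOfInjective _ (MulAut.conj h).injective).symm.isSimpleGroup, N, hN,
    (cj_mono h s2).trans (hN.2.2.1 h hh).le, fun x hx => nm_cj_iff.2 (s3 _ (nm_conj' (hN.2.2.1 h hh) hx))⟩

theorem Fac.le {S : Subgroup G} (hS : S ∈ Fac T H) : S ≤ H ⊓ T :=
  let ⟨_, _, hN, s2, _⟩ := hS
  s2.trans hN.1

end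

end Sv

open Sv

theorem boxTri : BoxTri := by
  intro G _ _ T H m hT hH
  have := hT.normal
  by_cases hab : ∃ A : Subgroup G, A ≤ T ∧ H ≤ Subgroup.normalizer (A : Set G) ∧ A ≠ ⊥ ∧ ∀ x ∈ A, ∀ y ∈ A, x * y = y * x
  · obtain ⟨A, h1, h2, h3, h4⟩ := hab
    obtain ⟨E, r, -, h⟩ := DS.Gen.exists_loc ⟨hT.normal, hT.simple, hT.nonab, hT.cent, hH.max, hT.not_le hH⟩ h1 h2 h3 h4
    exact Or.inl ⟨E, r, h⟩
  right
  have hne : ∀ S ∈ Fac T H, S ≠ ⊥ := fun S hS => by
    have := hS.1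
    exact (Subgroup.nontrivial_iff_ne_bot S).1 inferInstance
  -- the subgroup generated by the conjugates of an abelian factor is abelian
  have hna : ∀ S ∈ Fac T H, ¬ IsMulCommutative S := fun S hS hc => by
    let C : Set G := {x | ∃ h ∈ H, x ∈ cj h S}
    have h1 : ∀ x ∈ C, ∀ y ∈ C, x * y = y * x := by
      rintro x ⟨a, ha, hx⟩ y ⟨b, hb, hy⟩
      by_cases h : cj a S = cj b S
      · rw [← h] at hy
        obtain ⟨x, hx, rfl⟩ := hx
        obtain ⟨y, hy, rfl⟩ := hy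
        rw [← map_mul, ← map_mul]
        exact congrArg _ (congrArg Subtype.val (hc.1.comm ⟨x, hx⟩ ⟨y, hy⟩))
      · exact Fac.comm (Fac.cj hS ha) (Fac.cj hS hb) h x hx y hy
    refine hab ⟨Subgroup.closure C, (Subgroup.closure_le _).2 ?_, fun a ha => nm_iff.2 (nm_of_le ?_), fun h => hne S hS ?_,
      fun x hx y hy => ?_⟩
    · rintro x ⟨a, ha, hx⟩
      exact (Fac.le (Fac.cj hS ha) hx).2
    · rw [cj_closure]
      refine Subgroup.closure_mono ?_
      rintro _ ⟨x, ⟨b, hb, hx⟩, rfl⟩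
      exact ⟨a * b, mul_mem ha hb, by rw [cj_mul]; exact conj_mem_cj a hx⟩
    · rw [eq_bot_iff, ← h]
      exact fun x hx => Subgroup.subset_closure ⟨1, one_mem _, by rwa [cj_one]⟩
    · have h2 : Subgroup.closure C ≤ Subgroup.centralizer (Subgroup.closure C : Set G) := by
        rw [Subgroup.centralizer_closure, Subgroup.closure_le]
        exact fun x hx y hy => h1 y hy x hx
      exact h2 hy x hx
  have hex : ∀ Z : Subgroup G, Z ≤ H ⊓ T → Z ≠ ⊥ → (∀ h ∈ H, cj h Z = Z) → ∃ S ∈ Fac T H, S ≤ Z := fun Z h1 h2 h3 => by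
    obtain ⟨N, h4, hN⟩ := exists_minA h1 h2 h3
    obtain ⟨S, h5, h6, h7⟩ := hN.exists_simple
    exact ⟨S, ⟨h7, N, hN, h5, h6⟩, h5.trans h4⟩
  obtain ⟨S₀, hS₀, -⟩ := hex _ le_rfl (hT.inf_ne_bot hH) fun h hh => nm_iff.1 (hT.le_normalizer_inf hh)
  have hcent : ∀ t ∈ T, (∀ S ∈ Fac T H, ∀ x ∈ S, t * x = x * t) → t = 1 := by
    let C : Subgroup G := T ⊓ Subgroup.centralizer {x | ∃ S ∈ Fac T H, x ∈ S}
    have h1 : ∀ h ∈ H, cj h C = C := fun h hh => nm_of_conj fun c hc => ⟨hT.normal.conj_mem c hc.1 h, by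
      rintro x ⟨S, hS, hx⟩
      have h2 := hc.2 (h⁻¹ * x * h⁻¹⁻¹) ⟨_, Fac.cj hS (inv_mem hh), conj_mem_cj _ hx⟩
      calc x * (h * c * h⁻¹) = h * (h⁻¹ * x * h⁻¹⁻¹ * c) * h⁻¹ := by group
        _ = h * c * h⁻¹ * x := by rw [h2]; group⟩
    have h2 : C = ⊥ := by
      by_contra h0
      have h3 : C ≤ H := by
        by_contra h3
        have h4 : H ⊔ C = ⊤ := hH.max.2 _ (left_lt_sup.2 h3)
        have h5 : C.Normal := Subgroup.normalizer_eq_top_iff.1 (eq_top_iff.2 (h4.ge.trans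
          (sup_le (fun h hh => nm_iff.2 (h1 h hh)) Subgroup.le_normalizer)))
        have := hT.simple
        rcases inf_eq_bot_or_le (S := T) (R := C) fun x _ => cj_normal x C with h6 | h6
        · exact h0 ((inf_eq_right.2 inf_le_left).symm.trans h6)
        · obtain ⟨x, hx, hx1⟩ := (Subgroup.bot_or_exists_ne_one S₀).resolve_left (hne S₀ hS₀)
          exact not_le_centralizer hT hx1 fun t ht =>
            Subgroup.mem_centralizer_singleton_iff.2 ((h6 ht).2 x ⟨S₀, hS₀, hx⟩).symm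
      obtain ⟨S, hS, h4⟩ := hex C (le_inf h3 inf_le_left) h0 h1
      exact hna S hS ⟨⟨fun x y => Subtype.ext ((h4 y.2).2 x ⟨S, hS, x.2⟩)⟩⟩
    intro t ht h
    rw [← Subgroup.mem_bot, ← h2]
    exact ⟨ht, by rintro x ⟨S, hS, hx⟩; exact (h S hS x hx).symm⟩
  by_cases h2 : (Fac T H).Nontrivial
  · exact Or.inr ⟨Fac T H, fun S hS => Fac.le hS, fun S hS => hS.1, hna, fun S hS R hR => Fac.comm hS hR,
      fun h hh S hS => Fac.cj hS hh, h2, hcent⟩
  · have h3 : ∀ S ∈ Fac T H, S = S₀ := fun S hS => Set.not_nontrivial_iff.1 h2 hS hS₀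
    exact Or.inl ⟨S₀, Fac.le hS₀, fun h hh x hx => nm_conj (h3 _ (Fac.cj hS₀ hh)) hx, hS₀.1, hna S₀ hS₀,
      fun t ht h => hcent t ht fun S hS => h3 S hS ▸ h⟩

/-- a conjugate of the socle of `H ⊓ T` which lies in `H` is the socle -/
theorem Sim.mem_of_le (hK : AllK) {G : Type} [Group G] [Finite G] {T H N : Subgroup G} {m : ℕ} (hT : AS T) (hH : Half H m)
    (h : Sim T H N) {g : G} (hg : cj g N ≤ H) : g ∈ H := by
  have := h.simple
  have := hT.normal
  have hn : H ≤ Subgroup.normalizer (N : Set G) := le_normalizer_of_conj h.nrm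
  have h0 : N ≠ ⊥ := (Subgroup.nontrivial_iff_ne_bot N).1 inferInstance
  let f : N →* MulAut N := N.normalizerMonoidHom.comp
    (((MulAut.conj g).toMonoidHom.comp N.subtype).codRestrict _ fun x => hn (hg (conj_mem_cj g x.2)))
  have h1 : ⁅(⊤ : Subgroup N), (⊤ : Subgroup N)⁆ = (⊤ : Subgroup N) := by
    rcases (inferInstance : (⁅(⊤ : Subgroup N), (⊤ : Subgroup N)⁆ : Subgroup N).Normal).eq_bot_or_eq_top with h1 | h1
    · exact absurd ⟨⟨fun x y => (Subgroup.commutator_eq_bot_iff_le_centralizer.1 h1 (Subgroup.mem_top y) x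
        (Subgroup.mem_top x))⟩⟩ h.nonab
    · exact h1
  have h2 := Schreier.Assembly.known N h.nonab (hK N) _ (Schreier.Basic.map_perfect f h1)
  rw [← hH.normalizer_eq h0 (h.le.trans inf_le_left) hn]
  refine nm_iff.2 (nm_of_conj fun x hx => ?_)
  obtain ⟨n, hn⟩ := h2 ⟨⟨x, hx⟩, Subgroup.mem_top _, rfl⟩
  have h3 := h.cent ((n : G)⁻¹ * (g * x * g⁻¹))
    (mul_mem (inv_mem (h.le n.2).2) (hT.normal.conj_mem x (h.le hx).2 g)) fun y hy => by
      have h4 := congrArg Subtype.val (DFunLike.congr_fun hn ⟨y, hy⟩)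
      have h3 : (n : G) * y * (n : G)⁻¹ = g * x * g⁻¹ * y * (g * x * g⁻¹)⁻¹ := h4
      calc (n : G)⁻¹ * (g * x * g⁻¹) * y = (n : G)⁻¹ * (g * x * g⁻¹ * y * (g * x * g⁻¹)⁻¹) * (g * x * g⁻¹) := by group
        _ = y * ((n : G)⁻¹ * (g * x * g⁻¹)) := by rw [← h3]; group
  rw [inv_mul_eq_one] at h3
  exact h3 ▸ n.2

theorem Sv.boxE : BoxE := by
  intro hK G _ _ T H N m hT hH h g hg
  have hN : N ≤ H := h.le.trans inf_le_left
  refine ⟨?_, hH.relIndex_dvd_d hN (le_normalizer_of_conj h.nrm) g, ?_⟩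
  · have h1 : (cj g H).relIndex N ≠ 0 := Subgroup.index_ne_zero_of_finite
    have h2 : (cj g H).relIndex N ≠ 1 := fun e => hg (inv_mem_iff.1 (h.mem_of_le hK hT hH
      ((cj_le_iff _).2 (by rw [inv_inv]; exact Subgroup.relIndex_eq_one.1 e))))
    omega
  · have h1 := Subgroup.relIndex_inf_mul_relIndex (cj g H) N H
    rw [inf_eq_left.2 hN] at h1
    rw [h1, ← hH.relIndex_eq hg]
    exact Subgroup.relIndex_dvd_of_le_left _ inf_le_left

end Cfsg.Agent.TH
end

-- part: TH/Sim/Loop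
section
prune_inst 0x41044004822100000000500402000200600010000200001100000000c8f152180802900f0900a0603c022a540394020000000594010000000000200411c00800028500003100d04300000800000000000000000000000000000000000041000000000000
set_option linter.all false
open scoped Cfsg.Agent.FastGrp

/-!
# S3541, `H ⊓ T` almost simple in a classical group: the finite loop and common facts (helper74)

* `allCl t K X n0 chk`, `allCl_sound` : the loop over all `(n, p, f)` with `lminCl ≤ (K outCl)²`;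
* `Sim.card_dvd`, `Sim.card_dvd_aut`, `Sim.le_gcd`, `ClDat.lmin_le`, `ProjRep.pr`, `ProjRep.section`.
-/

set_option autoImplicit false
set_option linter.unusedSectionVars false

namespace Cfsg.Agent.TH

namespace Sim

open Sv

/-- the exponent of `q` in a lower bound for `lminCl` -/
def ex (t n : ℕ) : ℕ :=
  if t = 0 then n - 1 else if t = 1 then (if n = 3 then 3 else if n = 4 then 4 else 2 * n - 3)
  else if t = 2 then n - 1 else n - 2

/-- `outCl t n p f ≤ ob t n * f` -/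
def ob (t n : ℕ) : ℕ := if t ≤ 1 then 2 * n else if t ≤ 3 then 2 else if n = 8 then 24 else 8

theorem geo {q : ℕ} (hq : 2 ≤ q) (k : ℕ) : q ^ k * (q - 1) ≤ q ^ (k + 1) - 1 := by
  have h1 : 1 ≤ q ^ k := Nat.one_le_pow _ _ (by omega)
  rw [Nat.mul_sub, mul_one, ← pow_succ]
  omega

theorem valid_three {t n q : ℕ} (h : validCl t n q = true) : 3 ≤ n := by
  unfold validCl at h
  split_ifs at h <;> simp at h <;> omega

/-- the generic formulas -/
theorem Fq28.lmin_gen' {t n q : ℕ} (h : validCl t n q = true) (hq : 2 ≤ q)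
    (h2 : ¬ (q = 2 ∧ (t = 1 ∧ n % 2 = 0 ∧ n ≠ 4 ∨ t = 2 ∨ t = 4))) (h3 : ¬ (q = 3 ∧ (t = 2 ∧ n = 4 ∨ t = 3 ∨ t = 4)))
    (h5 : ¬ (t = 1 ∧ n = 3 ∧ q = 5)) : q ^ ex t n ≤ lminCl t n q := by
  have h0 : 0 < q - 1 := by omega
  unfold validCl at h
  unfold ex lminCl
  split_ifs at h ⊢ with a0 a1 a2 a3 <;> simp only [Bool.and_eq_true, decide_eq_true_eq] at h
  all_goals first | omega | skip
  · obtain ⟨k, rfl⟩ : ∃ k, n = k + 1 := ⟨n - 1, by omega⟩
    exact (Nat.le_div_iff_mul_le h0).2 (geo hq k)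
  · exact Nat.le.intro (k := q ^ 3 + q + 1) (by ring)
  · obtain ⟨k, rfl⟩ : ∃ k, n = k + 3 := ⟨n - 3, by omega⟩
    have h6 : 1 ≤ q ^ 2 := Nat.one_le_pow _ _ (by omega)
    have h7 : 1 ≤ q ^ (k + 2) := Nat.one_le_pow _ _ (by omega)
    have h8 : q ^ (k + 2) ≤ q ^ (k + 3) := Nat.pow_le_pow_right (by omega) (by omega)
    have h9 : q ^ (k + 3) ≤ q ^ (2 * k + 3) := Nat.pow_le_pow_right (by omega) (by omega)
    have h10 : q ^ (2 * k + 3) * q ^ 2 = q ^ (k + 3) * q ^ (k + 2) := by ring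
    rw [Nat.le_div_iff_mul_le (Nat.sub_pos_of_lt (Nat.one_lt_pow two_ne_zero hq)), show 2 * (k + 3) - 3 = 2 * k + 3 by omega,
      show k + 3 - 1 = k + 2 by omega]
    unfold um
    rw [Nat.mul_sub, mul_one, h10]
    split_ifs
    all_goals first | omega | skip
    · rw [Nat.mul_add, mul_one, Nat.sub_mul, one_mul]
      have := Nat.le_mul_of_pos_left (q ^ (k + 2)) (h7.trans h8)
      omega
    · rw [Nat.mul_sub, mul_one, Nat.add_mul, one_mul]
      omega
  · obtain ⟨k, rfl⟩ : ∃ k, n = k + 1 := ⟨n - 1, by omega⟩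
    exact (Nat.le_div_iff_mul_le h0).2 (geo hq k)
  · obtain ⟨k, rfl⟩ : ∃ k, n = k + 2 := ⟨n - 2, by omega⟩
    exact (Nat.le_div_iff_mul_le h0).2 (geo hq k)
  · obtain ⟨k, rfl⟩ : ∃ k, n = 2 * (k + 1) := ⟨n / 2 - 1, by omega⟩
    rw [Nat.le_div_iff_mul_le h0, show 2 * (k + 1) / 2 = k + 1 by omega, show 2 * (k + 1) - 2 = k + k by omega,
      Nat.add_sub_cancel, pow_add, mul_right_comm]
    exact Nat.mul_le_mul (geo hq k) (Nat.le_succ _)
  · obtain ⟨k, rfl⟩ : ∃ k, n = 2 * (k + 2) := ⟨n / 2 - 2, by omega⟩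
    rw [Nat.le_div_iff_mul_le h0, show 2 * (k + 2) / 2 = k + 2 by omega, show 2 * (k + 2) - 2 = k + 2 + k by omega,
      show k + 2 - 1 = k + 1 by omega, pow_add, mul_assoc]
    exact Nat.mul_le_mul (Nat.le_succ _) (geo hq k)

theorem lmin_gen {t n q : ℕ} (h : validCl t n q = true) (hq : 2 ≤ q) (h2 : q ≠ 2) (h3 : q ≠ 3)
    (h5 : ¬ (t = 1 ∧ n = 3 ∧ q = 5)) : q ^ ex t n ≤ lminCl t n q :=
  Fq28.lmin_gen' h hq (fun h => h2 h.1) (fun h => h3 h.1) h5

theorem Fq28.lmin_four {t n q : ℕ} (h : validCl t n q = true) (hq : 2 ≤ q) : q ^ ex t n ≤ 4 * lminCl t n q := by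
  by_cases h2 : q = 2 ∧ (t = 1 ∧ n % 2 = 0 ∧ n ≠ 4 ∨ t = 2 ∨ t = 4)
  · obtain ⟨rfl, ⟨rfl, h1, h2⟩ | rfl | rfl⟩ := h2
    · have h3 := valid_three h
      obtain ⟨k, rfl⟩ : ∃ k, n = k + 5 := ⟨n - 5, by omega⟩
      have h4 : lminCl 1 (k + 5) 2 = 2 ^ (k + 4) * (2 ^ (k + 5) - 1) / 3 := by
        unfold lminCl
        rw [if_neg (by decide), if_pos rfl, if_neg (by omega), if_neg h2, if_pos ⟨rfl, h1⟩]
        rfl
      have h5 : ex 1 (k + 5) = k + 4 + (k + 3) := by
        unfold ex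
        rw [if_neg (by decide), if_pos rfl, if_neg (by omega), if_neg h2]
        omega
      rw [h4, h5, pow_add 2 (k + 4)]
      refine le_trans ?_ (Nat.le_mul_of_pos_left _ (by decide))
      rw [Nat.le_div_iff_mul_le (by decide), mul_assoc]
      refine Nat.mul_le_mul_left _ ?_
      have := Nat.two_pow_pos k
      rw [pow_add, pow_add]
      omega
    · have h3 : 4 ≤ n ∧ n % 2 = 0 := by
        unfold validCl at h
        rw [if_neg (by decide), if_neg (by decide), if_pos rfl] at h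
        simp only [Bool.and_eq_true, decide_eq_true_eq] at h
        exact h.1
      obtain ⟨k, rfl⟩ : ∃ k, n = 2 * (k + 1) := ⟨n / 2 - 1, by omega⟩
      have h4 : lminCl 2 (2 * (k + 1)) 2 = 2 ^ k * (2 ^ (k + 1) - 1) := by
        unfold lminCl
        rw [if_neg (by decide), if_neg (by decide), if_pos rfl, if_neg (by omega), if_pos rfl,
          show 2 * (k + 1) / 2 = k + 1 by omega]
        rfl
      have h5 : ex 2 (2 * (k + 1)) = k + (k + 1) := by
        show 2 * (k + 1) - 1 = _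
        omega
      rw [h4, h5, pow_add 2 k (k + 1), mul_left_comm]
      refine Nat.mul_le_mul_left _ ?_
      have := Nat.two_pow_pos k
      rw [pow_succ]
      omega
    · have h3 : 8 ≤ n ∧ n % 2 = 0 := by
        unfold validCl at h
        rw [if_neg (by decide), if_neg (by decide), if_neg (by decide), if_neg (by decide)] at h
        simp only [Bool.and_eq_true, decide_eq_true_eq] at h
        exact ⟨h.1.2, h.2⟩
      obtain ⟨k, rfl⟩ : ∃ k, n = 2 * (k + 1) := ⟨n / 2 - 1, by omega⟩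
      have h4 : lminCl 4 (2 * (k + 1)) 2 = 2 ^ k * (2 ^ (k + 1) - 1) := by
        show 2 ^ (2 * (k + 1) / 2 - 1) * (2 ^ (2 * (k + 1) / 2) - 1) = _
        rw [show 2 * (k + 1) / 2 = k + 1 by omega]
        rfl
      have h5 : ex 4 (2 * (k + 1)) = k + k := by
        show 2 * (k + 1) - 2 = _
        omega
      rw [h4, h5, pow_add 2 k k, mul_left_comm]
      refine Nat.mul_le_mul_left _ ?_
      have := Nat.two_pow_pos k
      rw [pow_succ]
      omega
  by_cases h3 : q = 3 ∧ (t = 2 ∧ n = 4 ∨ t = 3 ∨ t = 4)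
  · obtain ⟨rfl, ⟨rfl, rfl⟩ | rfl | rfl⟩ := h3
    · decide
    · have h3 : 7 ≤ n ∧ n % 2 = 1 := by
        unfold validCl at h
        rw [if_neg (by decide), if_neg (by decide), if_neg (by decide), if_pos rfl] at h
        simp only [Bool.and_eq_true, decide_eq_true_eq] at h
        exact h.1
      obtain ⟨k, rfl⟩ : ∃ k, n = 2 * (k + 1) + 1 := ⟨n / 2 - 1, by omega⟩
      have h4 : lminCl 3 (2 * (k + 1) + 1) 3 = 3 ^ (k + 1) * (3 ^ (k + 1) - 1) / 2 := by
        show 3 ^ ((2 * (k + 1) + 1) / 2) * (3 ^ ((2 * (k + 1) + 1) / 2) - 1) / 2 = _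
        rw [show (2 * (k + 1) + 1) / 2 = k + 1 by omega]
      have h5 : ex 3 (2 * (k + 1) + 1) = k + 1 + k := by
        show 2 * (k + 1) + 1 - 2 = _
        omega
      rw [h4, h5, pow_add 3 (k + 1) k]
      refine le_trans ?_ (Nat.le_mul_of_pos_left _ (by decide))
      rw [Nat.le_div_iff_mul_le (by decide), mul_assoc]
      exact Nat.mul_le_mul_left _ (geo (q := 3) (by decide) k)
    · have h3 : 8 ≤ n ∧ n % 2 = 0 := by
        unfold validCl at h
        rw [if_neg (by decide), if_neg (by decide), if_neg (by decide), if_neg (by decide)] at h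
        simp only [Bool.and_eq_true, decide_eq_true_eq] at h
        exact ⟨h.1.2, h.2⟩
      obtain ⟨k, rfl⟩ : ∃ k, n = 2 * (k + 2) := ⟨n / 2 - 2, by omega⟩
      have h4 : lminCl 4 (2 * (k + 2)) 3 = 3 ^ (k + 1) * (3 ^ (k + 1) - 1) / 2 := by
        show 3 ^ (2 * (k + 2) / 2 - 1) * (3 ^ (2 * (k + 2) / 2 - 1) - 1) / 2 = _
        rw [show 2 * (k + 2) / 2 - 1 = k + 1 by omega]
      have h5 : ex 4 (2 * (k + 2)) = k + 1 + (k + 1) := by
        show 2 * (k + 2) - 2 = _
        omega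
      rw [h4, h5, pow_add 3 (k + 1) (k + 1)]
      have h6 : 3 ^ 1 ≤ 3 ^ (k + 1) := Nat.pow_le_pow_right (by decide) (by omega)
      obtain ⟨y, hy⟩ := Nat.exists_eq_add_of_le h6
      rw [hy, show (3 ^ 1 + y) * (3 ^ 1 + y) = y * y + 6 * y + 9 by ring, show 3 ^ 1 + y - 1 = y + 2 by omega,
        show (3 ^ 1 + y) * (y + 2) = y * y + 5 * y + 6 by ring]
      omega
  by_cases h5 : t = 1 ∧ n = 3 ∧ q = 5
  · obtain ⟨rfl, rfl, rfl⟩ := h5
    decide
  exact (Fq28.lmin_gen' h hq h2 h3 h5).trans (Nat.le_mul_of_pos_left _ (by decide))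

theorem le_ex {t n : ℕ} (h : 3 ≤ n) : n - 2 ≤ ex t n := by
  unfold ex
  split_ifs <;> omega

theorem lmin_small {t n q : ℕ} (h : validCl t n q = true) (hq : q = 2 ∨ q = 3) : 2 ^ (n - 2) ≤ lminCl t n q := by
  have key : ∀ k, 2 ^ (k + k) ≤ 2 ^ k * (2 ^ (k + 1) - 1) := fun k => by
    rw [pow_add]
    exact Nat.mul_le_mul_left _ (by have := geo le_rfl k; omega)
  have h23 : ∀ k, 2 ^ k ≤ 3 ^ k := fun k => Nat.pow_le_pow_left (by omega) k
  have h3 := valid_three h
  have hg : ∀ k, 2 ^ k ≤ (q ^ (k + 1) - 1) / (q - 1) := fun k =>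
    (Nat.pow_le_pow_left (by omega) k).trans ((Nat.le_div_iff_mul_le (by omega)).2 (geo (by omega) k))
  have hm : ∀ a b : ℕ, a ≤ b → 2 ^ a ≤ 2 ^ b := fun a b => Nat.pow_le_pow_right (by omega)
  unfold validCl at h
  unfold lminCl
  split_ifs at h ⊢ with a0 a1 a2 a3 <;> simp only [Bool.and_eq_true, decide_eq_true_eq] at h
  all_goals first | omega | skip
  · obtain ⟨k, rfl⟩ : ∃ k, n = k + 1 := ⟨n - 1, by omega⟩
    exact (hm _ _ (by omega)).trans (hg k)
  · rcases hq with rfl | rfl <;> simp [a2]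
  · rcases hq with rfl | rfl <;> simp [*]
  · obtain ⟨k, rfl⟩ : ∃ k, n = k + 2 := ⟨n - 2, by omega⟩
    rw [Nat.le_div_iff_mul_le (by omega), Nat.add_sub_cancel]
    refine Nat.mul_le_mul (hm _ _ (by omega)) ?_
    have := hm 2 (k + 2) (by omega)
    omega
  · obtain ⟨k, rfl⟩ : ∃ k, n = k + 3 := ⟨n - 3, by omega⟩
    have h6 : ∀ i, q ^ i - 1 ≤ um q i := fun i => by unfold um; split_ifs <;> omega
    have h7 : q ^ 2 ≤ q ^ (k + 3) := Nat.pow_le_pow_right (by omega) (by omega)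
    have h8 : 2 ^ (k + 2) ≤ q ^ (k + 2) := Nat.pow_le_pow_left (by omega) _
    have h9 := geo le_rfl (k + 1)
    rw [Nat.le_div_iff_mul_le (by rcases hq with rfl | rfl <;> simp), mul_comm]
    exact Nat.mul_le_mul ((Nat.sub_le_sub_right h7 1).trans (h6 _))
      (le_trans (by rw [show k + 3 - 2 = k + 1 by omega, show k + 3 - 1 = k + 2 by omega]
                    exact (Nat.le_mul_of_pos_right _ (by omega)).trans (h9.trans (Nat.sub_le_sub_right h8 1))) (h6 _))
  · have : n = 4 := by omega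
    subst this
    norm_num
  · obtain ⟨k, rfl⟩ : ∃ k, n = 2 * (k + 1) := ⟨n / 2 - 1, by omega⟩
    rw [show 2 * (k + 1) / 2 = k + 1 by omega, show 2 * (k + 1) - 2 = k + k by omega]
    exact key k
  · obtain ⟨k, rfl⟩ : ∃ k, n = k + 1 := ⟨n - 1, by omega⟩
    exact (hm _ _ (by omega)).trans (hg k)
  · obtain ⟨k, rfl⟩ : ∃ k, n = 2 * (k + 1) + 1 := ⟨n / 2 - 1, by omega⟩
    rw [show (2 * (k + 1) + 1) / 2 = k + 1 by omega, show 2 * (k + 1) + 1 - 2 = k + 1 + k by omega,
      Nat.le_div_iff_mul_le (by omega), pow_add, mul_assoc]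
    exact Nat.mul_le_mul (h23 _) ((Nat.mul_le_mul_right _ (h23 _)).trans (geo (q := 3) (by omega) k))
  · obtain ⟨k, rfl⟩ : ∃ k, n = 2 * (k + 1) := ⟨n / 2 - 1, by omega⟩
    rw [show 2 * (k + 1) / 2 = k + 1 by omega, show 2 * (k + 1) - 2 = k + k by omega]
    exact key k
  · obtain ⟨k, rfl⟩ : ∃ k, n = 2 * (k + 4) := ⟨n / 2 - 4, by omega⟩
    rw [show 2 * (k + 4) / 2 - 1 = k + 3 by omega, show 2 * (k + 4) - 2 = k + 3 + (k + 3) by omega,
      Nat.le_div_iff_mul_le (by omega), pow_add, mul_assoc]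
    refine Nat.mul_le_mul (h23 _) ?_
    have := h23 k
    have := hm 0 k (by omega)
    rw [pow_add, pow_add]
    omega
  · obtain ⟨k, rfl⟩ : ∃ k, n = 2 * (k + 2) := ⟨n / 2 - 2, by omega⟩
    rw [Nat.le_div_iff_mul_le (by omega), show 2 * (k + 2) / 2 = k + 2 by omega,
      show 2 * (k + 2) - 2 = k + 2 + k by omega, show k + 2 - 1 = k + 1 by omega, pow_add, mul_assoc]
    exact Nat.mul_le_mul ((Nat.pow_le_pow_left (by omega) _).trans (Nat.le_succ _))
      ((Nat.mul_le_mul_right _ (Nat.pow_le_pow_left (by omega) _)).trans (geo (by omega) k))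

theorem lmin_five {t n : ℕ} (h : validCl t n 5 = true) : 4 ^ (n - 2) ≤ lminCl t n 5 := by
  by_cases a : t = 1 ∧ n = 3 ∧ 5 = 5
  · obtain ⟨rfl, rfl, -⟩ := a
    decide
  exact ((Nat.pow_le_pow_left (by omega) _).trans (Nat.pow_le_pow_right (by omega) (le_ex (valid_three h)))).trans
    (lmin_gen h (by omega) (by omega) (by omega) a)

theorem two_pow_le_lmin {t n p f : ℕ} (hp : 2 ≤ p) (hf : 0 < f) (h : validCl t n (p ^ f) = true) :
    2 ^ (f * (n - 2)) ≤ lminCl t n (p ^ f) := by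
  have h1 : 2 ^ f ≤ p ^ f := Nat.pow_le_pow_left hp f
  have h2 : 2 ^ 1 ≤ 2 ^ f := Nat.pow_le_pow_right (by omega) hf
  have h3 : ∀ k, 2 ^ f < 2 ^ k → f < k := fun k => (Nat.pow_lt_pow_iff_right (by omega)).1
  rw [pow_mul]
  by_cases a : p ^ f = 2 ∨ p ^ f = 3
  · have h4 : f = 1 := by
      have := h3 2 (h1.trans_lt (by rcases a with a | a <;> rw [a] <;> norm_num))
      omega
    subst h4
    rw [pow_one]
    exact lmin_small h a
  by_cases b : p ^ f = 5
  · rw [b] at h h1 ⊢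
    refine (Nat.pow_le_pow_left ?_ _).trans (lmin_five h)
    exact Nat.pow_le_pow_right (n := 2) (j := 2) (by omega) (by have := h3 3 (h1.trans_lt (by norm_num)); omega)
  exact ((Nat.pow_le_pow_left h1 _).trans (Nat.pow_le_pow_right (by omega) (le_ex (valid_three h)))).trans
    (lmin_gen h (by omega) (by omega) (by omega) fun c => b c.2.2)

theorem outCl_le {t n p f : ℕ} (hp : p.Prime) (hf : 0 < f) (hn : 3 ≤ n) : outCl t n p f ≤ ob t n * f := by
  have h1 : ∀ a b : ℕ, 0 < a → Nat.gcd a b ≤ a := fun a b h => Nat.gcd_le_left b h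
  refine Nat.mul_le_mul_right f ?_
  unfold ob
  have h2 := h1 n (p ^ f - 1) (by omega)
  have h3 := h1 n (p ^ f + 1) (by omega)
  have h4 := h1 2 (p ^ f - 1) (by omega)
  have h5 := h1 4 ((p ^ f) ^ (n / 2) - 1) (by omega)
  have h6 := h1 4 ((p ^ f) ^ (n / 2) + 1) (by omega)
  split_ifs with a0 a1 a2 a3 a4 a5
  all_goals first | omega | skip
  obtain ⟨-, rfl⟩ := ‹n = 4 ∧ p = 2›
  obtain ⟨k, rfl⟩ : ∃ k, f = k + 1 := ⟨f - 1, by omega⟩
  have h7 : Nat.gcd 2 (2 ^ (k + 1) - 1) = 1 := by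
    have := Nat.one_le_pow k 2 (by omega)
    refine Nat.coprime_two_left.2 ?_
    rw [Nat.odd_iff, pow_succ]
    omega
  omega

theorem ob_le {t n f : ℕ} (hn : 3 ≤ n) : ob t n * f ≤ 24 * (f * (n - 2)) := by
  rw [mul_comm f, ← mul_assoc]
  refine Nat.mul_le_mul_right f ?_
  unfold ob
  split_ifs <;> omega

theorem sq_lt_pow {C X x : ℕ} (hX : 3 ≤ X) (h : (C * X) ^ 2 < 2 ^ X) (hx : X ≤ x) : (C * x) ^ 2 < 2 ^ x := by
  induction x, hx using Nat.le_induction with
  | base => exact h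
  | succ x hx ih =>
    have h1 : (x + 1) ^ 2 ≤ x ^ 2 * 2 := by
      have h5 := Nat.mul_le_mul_left x (hX.trans hx)
      rw [show (x + 1) ^ 2 = x * x + 2 * x + 1 by ring, sq]
      omega
    rw [mul_pow] at ih ⊢
    rw [pow_succ 2]
    exact ((Nat.mul_le_mul_left _ h1).trans (mul_assoc _ _ _).ge).trans_lt (Nat.mul_lt_mul_of_pos_right ih two_pos)

/-! ### the loop -/

/-- `f i` for all `i` with `lo ≤ i < lo + k` -/
def allR (f : ℕ → Bool) (k : ℕ) : ℕ → Bool :=
  Nat.rec (motive := fun _ => ℕ → Bool) (fun _ => true) (fun _ ih i => f i && frc (i + 1) ih) k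

theorem allR_sound {f : ℕ → Bool} {k lo : ℕ} (h : allR f k lo = true) {i : ℕ} (h1 : lo ≤ i) (h2 : i < lo + k) :
    f i = true := by
  induction k generalizing lo with
  | zero => omega
  | succ k ih =>
    have h3 : (f lo && frc (lo + 1) (allR f k)) = true := h
    rw [Bool.and_eq_true, frc_eq] at h3
    rcases h1.eq_or_lt with rfl | h4
    · exact h3.1
    · exact ih h3.2 h4 (by omega)

/-- `f i` for `i = lo, lo + 1, …` until `stop i` -/
def allU (stop f : ℕ → Bool) (fuel : ℕ) : ℕ → Bool :=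
  Nat.rec (motive := fun _ => ℕ → Bool) (fun _ => false) (fun _ ih i => stop i || (f i && frc (Nat.succ i) ih)) fuel

theorem allU_sound {stop f : ℕ → Bool} {fuel lo : ℕ} (h : allU stop f fuel lo = true) {i : ℕ} (h1 : lo ≤ i)
    (h2 : ∀ j, j ≤ i → stop j = false) : f i = true := by
  induction fuel generalizing lo with
  | zero => exact absurd h Bool.false_ne_true
  | succ k ih =>
    have h3 : (stop lo || (f lo && frc (lo + 1) (allU stop f k))) = true := h
    rw [h2 lo h1, Bool.false_or, Bool.and_eq_true, frc_eq] at h3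
    rcases h1.eq_or_lt with rfl | h4
    · exact h3.1
    · exact ih h3.2 h4

/-- the product of the primes below 100 -/
def pr100 : ℕ := 2305567963945518424753102147331756070

/-- a test for composite numbers (small factors, Fermat's test) -/
def comp (p : ℕ) : Bool :=
  (!Nat.beq (Nat.gcd p pr100) 1 && Nat.ble 101 p) ||
    !Nat.beq (Nat.mod (Nat.mul (Nat.pow (Nat.mod (Nat.pow 2 512) p) (Nat.div p 512)) (Nat.pow 2 (Nat.mod p 512))) p)
      (Nat.mod 2 p)

theorem comp_prime {p : ℕ} (hp : p.Prime) : comp p = false := by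
  have h1 : (2 ^ 512 % p) ^ (p / 512) * 2 ^ (p % 512) % p = 2 % p := by
    have := Fact.mk hp
    rw [← ZMod.natCast_eq_natCast_iff', Nat.cast_mul, Nat.cast_pow, ZMod.natCast_mod, Nat.cast_pow, Nat.cast_pow,
      ← pow_mul, ← pow_add, Nat.div_add_mod, ZMod.pow_card]
  rw [show comp p = ((!Nat.beq (Nat.gcd p pr100) 1 && Nat.ble 101 p) ||
    !Nat.beq ((2 ^ 512 % p) ^ (p / 512) * 2 ^ (p % 512) % p) (2 % p)) from rfl, h1, Nat.beq_refl, Bool.not_true, Bool.or_false, ← Bool.not_eq_true, Bool.and_eq_true, Nat.ble_eq,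
    Bool.not_eq_true', ← Bool.not_eq_true, Nat.beq_eq]
  rintro ⟨h2, h3⟩
  have h4 : p ∣ pr100 := ((Nat.dvd_prime hp).1 (Nat.gcd_dvd_left p pr100)).resolve_left h2 ▸ Nat.gcd_dvd_right p pr100
  have h5 := hp.dvd_factorial.1 (h4.trans (by decide +kernel : pr100 ∣ Nat.factorial 100))
  omega

/-- the primes below `4094` -/
def Fq28.prL : List ℕ :=
  [nat_lit 2, nat_lit 3, nat_lit 5, nat_lit 7, nat_lit 11, nat_lit 13, nat_lit 17, nat_lit 19, nat_lit 23, nat_lit 29,
   nat_lit 31, nat_lit 37, nat_lit 41, nat_lit 43, nat_lit 47, nat_lit 53, nat_lit 59, nat_lit 61, nat_lit 67, nat_lit 71,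
   nat_lit 73, nat_lit 79, nat_lit 83, nat_lit 89, nat_lit 97, nat_lit 101, nat_lit 103, nat_lit 107, nat_lit 109, nat_lit 113,
   nat_lit 127, nat_lit 131, nat_lit 137, nat_lit 139, nat_lit 149, nat_lit 151, nat_lit 157, nat_lit 163, nat_lit 167, nat_lit 173,
   nat_lit 179, nat_lit 181, nat_lit 191, nat_lit 193, nat_lit 197, nat_lit 199, nat_lit 211, nat_lit 223, nat_lit 227, nat_lit 229,
   nat_lit 233, nat_lit 239, nat_lit 241, nat_lit 251, nat_lit 257, nat_lit 263, nat_lit 269, nat_lit 271, nat_lit 277, nat_lit 281,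
   nat_lit 283, nat_lit 293, nat_lit 307, nat_lit 311, nat_lit 313, nat_lit 317, nat_lit 331, nat_lit 337, nat_lit 347, nat_lit 349,
   nat_lit 353, nat_lit 359, nat_lit 367, nat_lit 373, nat_lit 379, nat_lit 383, nat_lit 389, nat_lit 397, nat_lit 401, nat_lit 409,
   nat_lit 419, nat_lit 421, nat_lit 431, nat_lit 433, nat_lit 439, nat_lit 443, nat_lit 449, nat_lit 457, nat_lit 461, nat_lit 463,
   nat_lit 467, nat_lit 479, nat_lit 487, nat_lit 491, nat_lit 499, nat_lit 503, nat_lit 509, nat_lit 521, nat_lit 523, nat_lit 541,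
   nat_lit 547, nat_lit 557, nat_lit 563, nat_lit 569, nat_lit 571, nat_lit 577, nat_lit 587, nat_lit 593, nat_lit 599, nat_lit 601,
   nat_lit 607, nat_lit 613, nat_lit 617, nat_lit 619, nat_lit 631, nat_lit 641, nat_lit 643, nat_lit 647, nat_lit 653, nat_lit 659,
   nat_lit 661, nat_lit 673, nat_lit 677, nat_lit 683, nat_lit 691, nat_lit 701, nat_lit 709, nat_lit 719, nat_lit 727, nat_lit 733,
   nat_lit 739, nat_lit 743, nat_lit 751, nat_lit 757, nat_lit 761, nat_lit 769, nat_lit 773, nat_lit 787, nat_lit 797, nat_lit 809,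
   nat_lit 811, nat_lit 821, nat_lit 823, nat_lit 827, nat_lit 829, nat_lit 839, nat_lit 853, nat_lit 857, nat_lit 859, nat_lit 863,
   nat_lit 877, nat_lit 881, nat_lit 883, nat_lit 887, nat_lit 907, nat_lit 911, nat_lit 919, nat_lit 929, nat_lit 937, nat_lit 941,
   nat_lit 947, nat_lit 953, nat_lit 967, nat_lit 971, nat_lit 977, nat_lit 983, nat_lit 991, nat_lit 997, nat_lit 1009, nat_lit 1013,
   nat_lit 1019, nat_lit 1021, nat_lit 1031, nat_lit 1033, nat_lit 1039, nat_lit 1049, nat_lit 1051, nat_lit 1061, nat_lit 1063, nat_lit 1069,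
   nat_lit 1087, nat_lit 1091, nat_lit 1093, nat_lit 1097, nat_lit 1103, nat_lit 1109, nat_lit 1117, nat_lit 1123, nat_lit 1129, nat_lit 1151,
   nat_lit 1153, nat_lit 1163, nat_lit 1171, nat_lit 1181, nat_lit 1187, nat_lit 1193, nat_lit 1201, nat_lit 1213, nat_lit 1217, nat_lit 1223,
   nat_lit 1229, nat_lit 1231, nat_lit 1237, nat_lit 1249, nat_lit 1259, nat_lit 1277, nat_lit 1279, nat_lit 1283, nat_lit 1289, nat_lit 1291,
   nat_lit 1297, nat_lit 1301, nat_lit 1303, nat_lit 1307, nat_lit 1319, nat_lit 1321, nat_lit 1327, nat_lit 1361, nat_lit 1367, nat_lit 1373,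
   nat_lit 1381, nat_lit 1399, nat_lit 1409, nat_lit 1423, nat_lit 1427, nat_lit 1429, nat_lit 1433, nat_lit 1439, nat_lit 1447, nat_lit 1451,
   nat_lit 1453, nat_lit 1459, nat_lit 1471, nat_lit 1481, nat_lit 1483, nat_lit 1487, nat_lit 1489, nat_lit 1493, nat_lit 1499, nat_lit 1511,
   nat_lit 1523, nat_lit 1531, nat_lit 1543, nat_lit 1549, nat_lit 1553, nat_lit 1559, nat_lit 1567, nat_lit 1571, nat_lit 1579, nat_lit 1583,
   nat_lit 1597, nat_lit 1601, nat_lit 1607, nat_lit 1609, nat_lit 1613, nat_lit 1619, nat_lit 1621, nat_lit 1627, nat_lit 1637, nat_lit 1657,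
   nat_lit 1663, nat_lit 1667, nat_lit 1669, nat_lit 1693, nat_lit 1697, nat_lit 1699, nat_lit 1709, nat_lit 1721, nat_lit 1723, nat_lit 1733,
   nat_lit 1741, nat_lit 1747, nat_lit 1753, nat_lit 1759, nat_lit 1777, nat_lit 1783, nat_lit 1787, nat_lit 1789, nat_lit 1801, nat_lit 1811,
   nat_lit 1823, nat_lit 1831, nat_lit 1847, nat_lit 1861, nat_lit 1867, nat_lit 1871, nat_lit 1873, nat_lit 1877, nat_lit 1879, nat_lit 1889,
   nat_lit 1901, nat_lit 1907, nat_lit 1913, nat_lit 1931, nat_lit 1933, nat_lit 1949, nat_lit 1951, nat_lit 1973, nat_lit 1979, nat_lit 1987,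
   nat_lit 1993, nat_lit 1997, nat_lit 1999, nat_lit 2003, nat_lit 2011, nat_lit 2017, nat_lit 2027, nat_lit 2029, nat_lit 2039, nat_lit 2053,
   nat_lit 2063, nat_lit 2069, nat_lit 2081, nat_lit 2083, nat_lit 2087, nat_lit 2089, nat_lit 2099, nat_lit 2111, nat_lit 2113, nat_lit 2129,
   nat_lit 2131, nat_lit 2137, nat_lit 2141, nat_lit 2143, nat_lit 2153, nat_lit 2161, nat_lit 2179, nat_lit 2203, nat_lit 2207, nat_lit 2213,
   nat_lit 2221, nat_lit 2237, nat_lit 2239, nat_lit 2243, nat_lit 2251, nat_lit 2267, nat_lit 2269, nat_lit 2273, nat_lit 2281, nat_lit 2287,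
   nat_lit 2293, nat_lit 2297, nat_lit 2309, nat_lit 2311, nat_lit 2333, nat_lit 2339, nat_lit 2341, nat_lit 2347, nat_lit 2351, nat_lit 2357,
   nat_lit 2371, nat_lit 2377, nat_lit 2381, nat_lit 2383, nat_lit 2389, nat_lit 2393, nat_lit 2399, nat_lit 2411, nat_lit 2417, nat_lit 2423,
   nat_lit 2437, nat_lit 2441, nat_lit 2447, nat_lit 2459, nat_lit 2467, nat_lit 2473, nat_lit 2477, nat_lit 2503, nat_lit 2521, nat_lit 2531,
   nat_lit 2539, nat_lit 2543, nat_lit 2549, nat_lit 2551, nat_lit 2557, nat_lit 2579, nat_lit 2591, nat_lit 2593, nat_lit 2609, nat_lit 2617,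
   nat_lit 2621, nat_lit 2633, nat_lit 2647, nat_lit 2657, nat_lit 2659, nat_lit 2663, nat_lit 2671, nat_lit 2677, nat_lit 2683, nat_lit 2687,
   nat_lit 2689, nat_lit 2693, nat_lit 2699, nat_lit 2707, nat_lit 2711, nat_lit 2713, nat_lit 2719, nat_lit 2729, nat_lit 2731, nat_lit 2741,
   nat_lit 2749, nat_lit 2753, nat_lit 2767, nat_lit 2777, nat_lit 2789, nat_lit 2791, nat_lit 2797, nat_lit 2801, nat_lit 2803, nat_lit 2819,
   nat_lit 2833, nat_lit 2837, nat_lit 2843, nat_lit 2851, nat_lit 2857, nat_lit 2861, nat_lit 2879, nat_lit 2887, nat_lit 2897, nat_lit 2903,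
   nat_lit 2909, nat_lit 2917, nat_lit 2927, nat_lit 2939, nat_lit 2953, nat_lit 2957, nat_lit 2963, nat_lit 2969, nat_lit 2971, nat_lit 2999,
   nat_lit 3001, nat_lit 3011, nat_lit 3019, nat_lit 3023, nat_lit 3037, nat_lit 3041, nat_lit 3049, nat_lit 3061, nat_lit 3067, nat_lit 3079,
   nat_lit 3083, nat_lit 3089, nat_lit 3109, nat_lit 3119, nat_lit 3121, nat_lit 3137, nat_lit 3163, nat_lit 3167, nat_lit 3169, nat_lit 3181,
   nat_lit 3187, nat_lit 3191, nat_lit 3203, nat_lit 3209, nat_lit 3217, nat_lit 3221, nat_lit 3229, nat_lit 3251, nat_lit 3253, nat_lit 3257,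
   nat_lit 3259, nat_lit 3271, nat_lit 3299, nat_lit 3301, nat_lit 3307, nat_lit 3313, nat_lit 3319, nat_lit 3323, nat_lit 3329, nat_lit 3331,
   nat_lit 3343, nat_lit 3347, nat_lit 3359, nat_lit 3361, nat_lit 3371, nat_lit 3373, nat_lit 3389, nat_lit 3391, nat_lit 3407, nat_lit 3413,
   nat_lit 3433, nat_lit 3449, nat_lit 3457, nat_lit 3461, nat_lit 3463, nat_lit 3467, nat_lit 3469, nat_lit 3491, nat_lit 3499, nat_lit 3511,
   nat_lit 3517, nat_lit 3527, nat_lit 3529, nat_lit 3533, nat_lit 3539, nat_lit 3541, nat_lit 3547, nat_lit 3557, nat_lit 3559, nat_lit 3571,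
   nat_lit 3581, nat_lit 3583, nat_lit 3593, nat_lit 3607, nat_lit 3613, nat_lit 3617, nat_lit 3623, nat_lit 3631, nat_lit 3637, nat_lit 3643,
   nat_lit 3659, nat_lit 3671, nat_lit 3673, nat_lit 3677, nat_lit 3691, nat_lit 3697, nat_lit 3701, nat_lit 3709, nat_lit 3719, nat_lit 3727,
   nat_lit 3733, nat_lit 3739, nat_lit 3761, nat_lit 3767, nat_lit 3769, nat_lit 3779, nat_lit 3793, nat_lit 3797, nat_lit 3803, nat_lit 3821,
   nat_lit 3823, nat_lit 3833, nat_lit 3847, nat_lit 3851, nat_lit 3853, nat_lit 3863, nat_lit 3877, nat_lit 3881, nat_lit 3889, nat_lit 3907,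
   nat_lit 3911, nat_lit 3917, nat_lit 3919, nat_lit 3923, nat_lit 3929, nat_lit 3931, nat_lit 3943, nat_lit 3947, nat_lit 3967, nat_lit 3989,
   nat_lit 4001, nat_lit 4003, nat_lit 4007, nat_lit 4013, nat_lit 4019, nat_lit 4021, nat_lit 4027, nat_lit 4049, nat_lit 4051, nat_lit 4057,
   nat_lit 4073, nat_lit 4079, nat_lit 4091, nat_lit 4093]

/-- the list contains the primes from `lo` to `4094` -/
def Fq28.cov (l : List ℕ) : ℕ → Bool :=
  List.rec (motive := fun _ => ℕ → Bool) (fun lo => Nat.beq lo 4094)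
    (fun a _ ih lo => Nat.ble lo a && (allR comp (Nat.sub a lo) lo && ih (Nat.succ a))) l

theorem Fq28.cov_prL : Fq28.cov Fq28.prL 2 = true := by decide +kernel

/-- `f p` for the primes `p` until `stop p` -/
def Fq28.allPl (stop f : ℕ → Bool) (l : List ℕ) : Bool :=
  List.rec (motive := fun _ => Bool) (allU stop (fun p => comp p || f p) 100000000 4094)
    (fun a _ ih => stop a || (f a && ih)) l

theorem Fq28.allPl_sound {stop f : ℕ → Bool} {l : List ℕ} {lo : ℕ} (hc : Fq28.cov l lo = true) (h : Fq28.allPl stop f l = true) {i : ℕ}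
    (hi : i.Prime) (h1 : lo ≤ i) (h2 : ∀ j, j ≤ i → stop j = false) : f i = true := by
  induction l generalizing lo with
  | nil =>
    have h3 : Nat.beq lo 4094 = true := hc
    have h4 : allU stop (fun p => comp p || f p) 100000000 4094 = true := h
    have h5 := allU_sound h4 (Nat.eq_of_beq_eq_true h3 ▸ h1) h2
    rwa [comp_prime hi, Bool.false_or] at h5
  | cons a l ih =>
    have h3 : (Nat.ble lo a && (allR comp (a - lo) lo && Fq28.cov l (a + 1))) = true := hc
    have h4 : (stop a || (f a && Fq28.allPl stop f l)) = true := h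
    rw [Bool.and_eq_true, Bool.and_eq_true, Nat.ble_eq] at h3
    rcases lt_trichotomy i a with h5 | rfl | h5
    · have h6 := allR_sound h3.2.1 h1 (by omega)
      rw [comp_prime hi] at h6
      exact absurd h6 Bool.false_ne_true
    · rw [h2 i le_rfl, Bool.false_or, Bool.and_eq_true] at h4
      exact h4.1
    · rw [h2 a h5.le, Bool.false_or, Bool.and_eq_true] at h4
      exact ih h3.2.2 h4.2 h5

/-- `f p` for all primes `p` until `stop p` -/
def Fq28.allPr (stop f : ℕ → Bool) : Bool := Fq28.allPl stop f Fq28.prL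

theorem Fq28.allPr_sound {stop f : ℕ → Bool} (h : Fq28.allPr stop f = true) {i : ℕ} (hi : i.Prime)
    (h2 : ∀ j, j ≤ i → stop j = false) : f i = true :=
  Fq28.allPl_sound Fq28.cov_prL h hi hi.two_le h2

/-- `outCl` for the kernel -/
def Fq28.outF (t n p f q : ℕ) : ℕ :=
  Nat.mul (bif Nat.beq t 0 then Nat.mul 2 (Nat.gcd n (Nat.sub q 1))
    else bif Nat.beq t 1 then Nat.mul 2 (Nat.gcd n (Nat.add q 1))
    else bif Nat.beq t 2 then Nat.mul (bif Nat.beq n 4 && Nat.beq p 2 then 2 else 1) (Nat.gcd 2 (Nat.sub q 1))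
    else bif Nat.beq t 3 then 2
    else bif Nat.beq t 4 then Nat.mul (bif Nat.beq n 8 then 6 else 2) (Nat.gcd 4 (Nat.sub (Nat.pow q (Nat.div n 2)) 1))
    else Nat.mul 2 (Nat.gcd 4 (Nat.add (Nat.pow q (Nat.div n 2)) 1))) f

theorem Fq28.outF_eq (t n p f : ℕ) : Fq28.outF t n p f (Nat.pow p f) = outCl t n p f := by
  simp only [Fq28.outF, Bool.cond_eq_ite, Nat.beq_eq, Bool.and_eq_true]
  rfl

/-- one prime -/
def Fq28.one (t K K2 n e f : ℕ) (chk : ℕ → ℕ → ℕ → Bool) (p : ℕ) : Bool :=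
  frc (Nat.pow p f) fun q => (Nat.beq p 2 && !validCl t n q) ||
    ((!Nat.ble (Nat.pow p e) K2 && frc (Nat.pow (Nat.mul K (Fq28.outF t n p f q)) 2) fun O =>
      !Nat.ble (Nat.pow p e) (Nat.mul 4 O) ||
        (!Nat.ble (Nat.mul 2 (Nat.pow p e)) O && !Nat.ble (lminCl t n q) O)) || chk n p f)

/-- the loop over the primes; `o = K * ob t n`, `e = ex t n`, `K2 = K ^ 2 / 4`; only the prime `s` if `s ≠ 0` -/
def allP (t K K2 n o e m s f : ℕ) (chk : ℕ → ℕ → ℕ → Bool) : Bool :=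
  frc (Nat.mul f e) fun e' => bif Nat.beq s 0 then frc (Nat.pow (Nat.mul o f) 2) fun B =>
    Fq28.allPr (fun p => !Nat.ble (Nat.pow p e') B && (Nat.ble m (Nat.pow p f) || !Nat.ble (Nat.pow p e') (Nat.mul 4 B)))
      (Fq28.one t K K2 n e' f chk)
  else Fq28.one t K K2 n e' f chk s

/-- the least dimension, the parity, the coefficients of a bound for `ob`, a base for `2 ^ ex` -/
def Fq28.tp (t : ℕ) (k : ℕ → ℕ → ℕ → ℕ → ℕ → ℕ → Bool) : Bool :=
  bif Nat.beq t 0 then k 3 1 0 2 0 2 else bif Nat.beq t 1 then k 3 1 0 2 0 4 else bif Nat.beq t 2 then k 4 2 0 0 2 2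
  else bif Nat.beq t 3 then k 7 2 1 0 2 2 else k 8 2 0 0 24 2

theorem Fq28.tp_sound {t n q : ℕ} {k : ℕ → ℕ → ℕ → ℕ → ℕ → ℕ → Bool} (h : Fq28.tp t k = true) (hv : validCl t n q = true) :
    ∃ lo md rs u v b, k lo md rs u v b = true ∧ lo ≤ n ∧ n % md = rs ∧ ob t n ≤ u * n + v ∧ 2 ≤ b ∧
      b ^ (n - 2) ≤ 2 ^ ex t n := by
  have h1 : 2 ^ (n - 2) ≤ 2 ^ ex t n := Nat.pow_le_pow_right two_pos (le_ex (valid_three hv))
  have h3 := valid_three hv
  rcases t with _ | _ | _ | _ | t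
  · exact ⟨3, 1, 0, 2, 0, 2, h, h3, Nat.mod_one n, Nat.le_refl (2 * n), le_rfl, h1⟩
  · refine ⟨3, 1, 0, 2, 0, 4, h, h3, Nat.mod_one n, Nat.le_refl (2 * n), by decide, ?_⟩
    rw [show (4 : ℕ) = 2 ^ 2 from rfl, ← pow_mul]
    refine Nat.pow_le_pow_right two_pos ?_
    show _ ≤ if n = 3 then 3 else if n = 4 then 4 else 2 * n - 3
    split_ifs <;> omega
  · have h4 : (decide (4 ≤ n) && decide (n % 2 = 0) && !(decide (n = 4) && decide (q = 2))) = true := hv
    rw [Bool.and_eq_true, Bool.and_eq_true, decide_eq_true_eq, decide_eq_true_eq] at h4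
    exact ⟨4, 2, 0, 0, 2, 2, h, h4.1.1, h4.1.2, Nat.le_add_left 2 _, le_rfl, h1⟩
  · have h4 : (decide (7 ≤ n) && decide (n % 2 = 1) && decide (q % 2 = 1)) = true := hv
    rw [Bool.and_eq_true, Bool.and_eq_true, decide_eq_true_eq, decide_eq_true_eq] at h4
    exact ⟨7, 2, 1, 0, 2, 2, h, h4.1.1, h4.1.2, Nat.le_add_left 2 _, le_rfl, h1⟩
  · have h4 : (decide (t + 1 + 1 + 1 + 1 ≤ 5) && decide (8 ≤ n) && decide (n % 2 = 0)) = true := hv
    rw [Bool.and_eq_true, Bool.and_eq_true, decide_eq_true_eq, decide_eq_true_eq, decide_eq_true_eq] at h4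
    refine ⟨8, 2, 0, 0, 24, 2, h, h4.1.2, h4.2, ?_, le_rfl, h1⟩
    show (if n = 8 then 24 else 8) ≤ _
    split_ifs <;> omega

theorem Fq28.mono_f {C d j f : ℕ} (h3 : 3 ≤ j * d) (h : (C * j) ^ 2 < 2 ^ (j * d)) (hj : j ≤ f) : (C * f) ^ 2 < 2 ^ (f * d) := by
  induction f, hj using Nat.le_induction with
  | base => exact h
  | succ x hx ih =>
    have h1 : (x + 1) ^ 2 ≤ x ^ 2 * 2 ^ d := by
      have h4 : 3 ≤ x * d := h3.trans (Nat.mul_le_mul_right d hx)
      rcases d with _ | _ | d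
      · omega
      · have h5 := Nat.mul_le_mul_left x (show 3 ≤ x by omega)
        rw [show (x + 1) ^ 2 = x * x + 2 * x + 1 by ring, sq, zero_add, pow_one]
        omega
      · have h5 : 1 ≤ x := Nat.pos_of_ne_zero fun e => by rw [e] at h4; omega
        have h6 : 2 ^ 2 ≤ 2 ^ (d + 1 + 1) := Nat.pow_le_pow_right two_pos (by omega)
        exact (Nat.pow_le_pow_left (show x + 1 ≤ x * 2 by omega) 2).trans
          ((mul_pow x 2 2).le.trans (Nat.mul_le_mul_left _ h6))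
    rw [mul_pow] at ih ⊢
    rw [add_mul, one_mul, pow_add]
    calc C ^ 2 * (x + 1) ^ 2 ≤ C ^ 2 * x ^ 2 * 2 ^ d := by rw [mul_assoc]; exact Nat.mul_le_mul_left _ h1
      _ < _ := Nat.mul_lt_mul_of_pos_right ih (Nat.two_pow_pos d)

theorem Fq28.mono_n {K u v b j n : ℕ} (hb : 2 ≤ b) (h3 : 3 ≤ j) (h : (K * (u * j + v)) ^ 2 < b ^ (j - 2)) (hj : j ≤ n) :
    (K * (u * n + v)) ^ 2 < b ^ (n - 2) := by
  induction n, hj using Nat.le_induction with
  | base => exact h
  | succ x hx ih =>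
    have h1 : (u * (x + 1) + v) ^ 2 ≤ (u * x + v) ^ 2 * 2 := by
      have h4 : u * 3 ≤ u * x + v := (Nat.mul_le_mul_left u (h3.trans hx)).trans (Nat.le_add_right _ _)
      obtain ⟨s, hs⟩ := Nat.exists_eq_add_of_le h4
      rw [show u * (x + 1) + v = u * x + v + u by ring, hs]
      exact Nat.le.intro (k := 2 * u ^ 2 + 4 * u * s + s ^ 2) (by ring)
    rw [mul_pow] at ih ⊢
    rw [show x + 1 - 2 = x - 2 + 1 by omega, pow_succ b]
    calc K ^ 2 * (u * (x + 1) + v) ^ 2 ≤ K ^ 2 * (u * x + v) ^ 2 * 2 := by rw [mul_assoc]; exact Nat.mul_le_mul_left _ h1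
      _ < b ^ (x - 2) * 2 := Nat.mul_lt_mul_of_pos_right ih two_pos
      _ ≤ _ := Nat.mul_le_mul_left _ hb

/-- `chk n p f` for all `n ≥ n0` with `¬ sk n`, `f > 0`, primes `p` with `validCl t n (p ^ f)` and
`lminCl ≤ (K outCl)²`; `X` is fuel -/
def Fq28.allClS (t K X n0 : ℕ) (sk : ℕ → Bool) (on : ℕ → ℕ) (chk : ℕ → ℕ → ℕ → Bool) : Bool :=
  frc K fun K => frc (Nat.div (Nat.mul K K) 4) fun K2 => frc (Nat.mul 2 K) fun K' => Fq28.tp t fun lo md rs u v b =>
    allU (fun n => Nat.ble 5 n &&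
        !Nat.ble (Nat.pow b (Nat.sub n 2)) (Nat.pow (Nat.mul K' (Nat.add (Nat.mul u n) v)) 2))
      (fun n => !(Nat.ble lo n && Nat.beq (Nat.mod n md) rs) || (sk n ||
        frc (Nat.mul K (ob t n)) fun o => frc (ex t n) fun e => frc (bif Nat.beq n 3 then 7 else 4) fun m =>
          frc (on n) fun s =>
          allU (fun f => Nat.ble 3 (Nat.mul f e) &&
              !Nat.ble (Nat.pow 2 (Nat.mul f e)) (Nat.pow (Nat.mul (Nat.mul 2 o) f) 2))
            (fun f => allP t K K2 n o e m s f chk) (X + 9) 1))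
      (X + 9) n0

theorem Fq28.allClS_sound {t K X n0 : ℕ} {sk : ℕ → Bool} {on : ℕ → ℕ} {chk : ℕ → ℕ → ℕ → Bool}
    (h : Fq28.allClS t K X n0 sk on chk = true)
    {n p f : ℕ} (hp : p.Prime) (hf : 0 < f) (hv : validCl t n (p ^ f) = true) (hn : n0 ≤ n) (hs : sk n = false)
    (ho : on n = 0 ∨ on n = p)
    (hl : lminCl t n (p ^ f) ≤ (K * outCl t n p f) ^ 2) : chk n p f = true := by
  have h3 := valid_three hv
  have hq : 2 ≤ p ^ f := hp.two_le.trans (Nat.le_self_pow hf.ne' p)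
  rw [Fq28.allClS, frc_eq, frc_eq, frc_eq] at h
  obtain ⟨lo, md, rs, u, v, b, h, hlo, hmd, hob, hb, hbe⟩ := Fq28.tp_sound h hv
  have h1 : lminCl t n (p ^ f) ≤ (K * ob t n * f) ^ 2 :=
    hl.trans (Nat.pow_le_pow_left ((Nat.mul_le_mul_left _ (outCl_le hp hf h3)).trans (mul_assoc _ _ _).ge) 2)
  have h0 : p ^ (f * ex t n) ≤ 4 * lminCl t n (p ^ f) := by
    rw [pow_mul]
    exact Fq28.lmin_four hv hq
  have h2 : ¬ (2 * (K * ob t n) * f) ^ 2 < 2 ^ (f * ex t n) := not_lt.2 ((Nat.pow_le_pow_left hp.two_le _).trans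
    (h0.trans ((Nat.mul_le_mul_left 4 h1).trans (le_of_eq (by ring)))))
  have h5 := allU_sound h hn fun j hj => by
    rw [← Bool.not_eq_true, Bool.and_eq_true, Nat.ble_eq, Bool.not_eq_true', ← Bool.not_eq_true, Nat.ble_eq, not_le]
    rintro ⟨h6, h7⟩
    have h8 := Fq28.mono_n (K := 2 * K) (u := u) (v := v) hb (by omega) h7 hj
    refine h2 (Fq28.mono_f (j := 1) (by have := le_ex (t := t) h3; omega) ?_ hf)
    rw [mul_one, one_mul, ← mul_assoc]
    exact ((Nat.pow_le_pow_left (Nat.mul_le_mul_left (2 * K) hob) 2).trans_lt h8).trans_le hbe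
  have h4 : (Nat.ble lo n && Nat.beq (Nat.mod n md) rs) = true := by
    rw [Bool.and_eq_true, Nat.ble_eq, Nat.beq_eq]
    exact ⟨hlo, hmd⟩
  rw [h4, hs, Bool.not_true, Bool.false_or, Bool.false_or, frc_eq, frc_eq, frc_eq, frc_eq] at h5
  have h6 := allU_sound h5 hf fun j hj => by
    rw [← Bool.not_eq_true, Bool.and_eq_true, Nat.ble_eq, Bool.not_eq_true', ← Bool.not_eq_true, Nat.ble_eq, not_le]
    exact fun h7 => h2 (Fq28.mono_f (C := 2 * (K * ob t n)) (d := ex t n) h7.1 h7.2 hj)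
  have h7 : Fq28.one t K (Nat.div (Nat.mul K K) 4) n (Nat.mul f (ex t n)) f chk p = true := by
    rw [allP, frc_eq, frc_eq, Bool.cond_eq_ite] at h6
    split_ifs at h6 with h7
    · refine Fq28.allPr_sound h6 hp fun j hj => ?_
      rw [← Bool.not_eq_true, Bool.and_eq_true, Bool.or_eq_true, Nat.ble_eq, Bool.not_eq_true', Bool.not_eq_true',
        ← Bool.not_eq_true, ← Bool.not_eq_true, Nat.ble_eq, Nat.ble_eq]
      rintro ⟨h8, h7 | h7⟩
      · have h9 : (bif Nat.beq n 3 then 7 else 4) ≤ p ^ f := h7.trans (Nat.pow_le_pow_left hj f)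
        rw [Bool.cond_eq_ite] at h9
        refine h8 ((Nat.pow_le_pow_left hj (f * ex t n)).trans ?_)
        rw [pow_mul]
        refine (lmin_gen hv hq ?_ ?_ ?_).trans h1 <;> split_ifs at h9 with h10
        any_goals omega
        rintro ⟨-, rfl, -⟩
        exact h10 rfl
      · exact h7 ((Nat.pow_le_pow_left hj (f * ex t n)).trans (h0.trans (Nat.mul_le_mul_left 4 h1)))
    · rwa [ho.resolve_left fun e => h7 (by rw [e]; rfl)] at h6
  have hv' : validCl t n (Nat.pow p f) = true := hv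
  have hl' : Nat.ble (lminCl t n (Nat.pow p f)) (Nat.pow (Nat.mul K (outCl t n p f)) 2) = true :=
    Nat.ble_eq_true_of_le hl
  have hl2 : Nat.ble (Nat.pow p (Nat.mul f (ex t n))) (Nat.mul 4 (Nat.pow (Nat.mul K (outCl t n p f)) 2)) = true :=
    Nat.ble_eq_true_of_le (h0.trans (Nat.mul_le_mul_left 4 hl))
  rwa [Fq28.one, frc_eq, frc_eq, Fq28.outF_eq, hv', hl', hl2, Bool.not_true, Bool.and_false, Bool.and_false, Bool.false_or,
    Bool.false_or, Bool.and_false, Bool.false_or] at h7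

/-- `gcd (N / a - 1) M < l` for all `a` with `M ∣ a ∣ gcd N A` -/
def Fq28.quick (N A M l : ℕ) : Bool :=
  frc (Nat.mod N (Nat.mul A M)) fun R => frc (Nat.gcd R A) fun g => !Nat.beq (Nat.mod g M) 0 || frc (Nat.div g M) fun x =>
    allR (fun z => !Nat.beq (Nat.mod x z) 0 ||
      !Nat.ble l (Nat.gcd (Nat.sub (Nat.add (Nat.div R (Nat.mul M z)) M) 1) M)) x 1

theorem Fq28.quick_lt {N A M l a : ℕ} (h : Fq28.quick N A M l = true) (h0 : 0 < N) (h1 : a ∣ N) (h2 : a ∣ A) (h3 : M ∣ a) :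
    Nat.gcd (N / a - 1) M < l := by
  have h4 : a ∣ Nat.gcd (N % (A * M)) A := Nat.dvd_gcd ((Nat.dvd_mod_iff (h2.mul_right M)).2 h1) h2
  have h5 : Nat.beq (Nat.mod (Nat.gcd (Nat.mod N (Nat.mul A M)) A) M) 0 = true :=
    Nat.beq_eq ▸ Nat.mod_eq_zero_of_dvd (h3.trans h4)
  rw [Fq28.quick, frc_eq, frc_eq, h5, Bool.not_true, Bool.false_or, frc_eq] at h
  obtain ⟨z, rfl⟩ := h3
  have h6 : z ∣ Nat.gcd (N % (A * M)) A / M := Nat.dvd_div_of_mul_dvd h4
  have h7 : 0 < M * z := Nat.pos_of_dvd_of_pos h1 h0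
  have hM : 0 < M := Nat.pos_of_mul_pos_right h7
  have hg : 0 < Nat.gcd (N % (A * M)) A := by
    rcases A.eq_zero_or_pos with rfl | hA
    · rwa [zero_mul, Nat.mod_zero, Nat.gcd_zero_right]
    · exact Nat.gcd_pos_of_pos_right _ hA
  have h8 : 0 < Nat.gcd (N % (A * M)) A / M := Nat.div_pos (Nat.le_of_dvd hg ((Dvd.intro _ rfl).trans h4)) hM
  have h9 := allR_sound h (i := z) (Nat.pos_of_mul_pos_left h7) (Nat.lt_one_add_iff.2 (Nat.le_of_dvd h8 h6))
  have h10 : Nat.beq (Nat.mod (Nat.div (Nat.gcd (Nat.mod N (Nat.mul A M)) A) M) z) 0 = true :=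
    Nat.beq_eq ▸ Nat.mod_eq_zero_of_dvd h6
  rw [h10, Bool.not_true, Bool.false_or, Bool.not_eq_true', ← Bool.not_eq_true, Nat.ble_eq, not_le] at h9
  have h11 : Nat.gcd (N % (A * M) / (M * z) + M - 1) M < l := h9
  obtain ⟨w, rfl⟩ := h2
  have h12 : N / (M * z) = M * (w * (N / (M * z * w * M))) + N % (M * z * w * M) / (M * z) := by
    conv_lhs => rw [← Nat.div_add_mod N (M * z * w * M)]
    rw [show M * z * w * M * (N / (M * z * w * M)) = M * z * (M * (w * (N / (M * z * w * M)))) by ring,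
      Nat.mul_add_div h7]
  have h13 : 0 < N / (M * z) := Nat.div_pos (Nat.le_of_dvd h0 h1) h7
  have h14 : ∀ x y c : ℕ, x = c + y → 0 < x → x - 1 + M = y + M - 1 + c := fun x y c h h' => by omega
  rwa [← Nat.gcd_add_self_left, h14 _ _ _ h12 h13, Nat.gcd_add_mul_left_left]

/-- `∏ i < k, (q ^ (i + 2) - 1)` -/
def Fq28.pL (q k : ℕ) : ℕ :=
  Nat.rec (motive := fun _ => ℕ) 1 (fun i ih => Nat.mul ih (Nat.sub (Nat.pow q (Nat.add 2 i)) 1)) k

/-- the unitary product -/
def Fq28.pU (q k : ℕ) : ℕ :=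
  Nat.rec (motive := fun _ => ℕ) 1
    (fun i ih => Nat.mul ih (Nat.sub (Nat.add (Nat.pow q (Nat.add 2 i)) (Nat.mul 2 (Nat.mod (Nat.add 2 i) 2))) 1)) k

/-- `∏ i < k, (q ^ (2 (i + 1)) - 1)` -/
def Fq28.pS (q k : ℕ) : ℕ :=
  Nat.rec (motive := fun _ => ℕ) 1 (fun i ih => Nat.mul ih (Nat.sub (Nat.pow q (Nat.mul 2 (Nat.add 1 i))) 1)) k

theorem Fq28.pL_eq (q k : ℕ) : Fq28.pL q k = prd (fun i => q ^ i - 1) 2 k := by
  induction k with
  | zero => rfl
  | succ k ih => exact congrArg (· * (q ^ (2 + k) - 1)) ih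

theorem Fq28.pS_eq (q k : ℕ) : Fq28.pS q k = prd (fun i => q ^ (2 * i) - 1) 1 k := by
  induction k with
  | zero => rfl
  | succ k ih => exact congrArg (· * (q ^ (2 * (1 + k)) - 1)) ih

theorem Fq28.pU_eq (q k : ℕ) : Fq28.pU q k = prd (um q) 2 k := by
  induction k with
  | zero => rfl
  | succ k ih =>
    show Fq28.pU q k * (q ^ (2 + k) + 2 * ((2 + k) % 2) - 1) = prd (um q) 2 k * um q (2 + k)
    rw [ih]
    refine congrArg _ ?_
    unfold um
    split_ifs <;> omega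

/-- `ordCl` for the kernel -/
def Fq28.ordF (t n q : ℕ) : ℕ :=
  bif Nat.beq t 0 then
    Nat.div (Nat.mul (Nat.pow q (Nat.div (Nat.mul n (Nat.sub n 1)) 2)) (Fq28.pL q (Nat.sub n 1))) (Nat.gcd n (Nat.sub q 1))
  else bif Nat.beq t 1 then
    Nat.div (Nat.mul (Nat.pow q (Nat.div (Nat.mul n (Nat.sub n 1)) 2)) (Fq28.pU q (Nat.sub n 1))) (Nat.gcd n (Nat.add q 1))
  else frc (Nat.div n 2) fun k => bif Nat.ble t 3 then
    Nat.div (Nat.mul (Nat.pow q (Nat.mul k k)) (Fq28.pS q k)) (Nat.gcd 2 (Nat.sub q 1))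
  else frc (bif Nat.beq t 4 then Nat.sub (Nat.pow q k) 1 else Nat.add (Nat.pow q k) 1) fun y =>
    Nat.div (Nat.mul (Nat.mul (Nat.pow q (Nat.mul k (Nat.sub k 1))) y) (Fq28.pS q (Nat.sub k 1))) (Nat.gcd 4 y)

theorem Fq28.ordF_eq (t n q : ℕ) : Fq28.ordF t n q = ordCl t n q := by
  simp only [Fq28.ordF, frc_eq, Bool.cond_eq_ite, Nat.beq_eq, Nat.ble_eq, Fq28.pL_eq, Fq28.pU_eq, Fq28.pS_eq]
  unfold ordCl
  split_ifs <;> rfl

end Sim

/-! ### group theory -/

section

variable {G : Type} [Group G] [Finite G] {T H N : Subgroup G} {m : ℕ}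

theorem Sim.card_dvd (h : Sim T H N) : Nat.card N ∣ Nat.card ↥(H ⊓ T) := Subgroup.card_dvd_of_le h.le

/-- `H ⊓ T` acts faithfully on `N` -/
theorem Sim.exists_hom (h : Sim T H N) : ∃ φ : ↥(H ⊓ T) →* MulAut N, Function.Injective φ ∧
    ∀ (a : ↥(H ⊓ T)) (x : N), (φ a x : G) = a * x * (a : G)⁻¹ := by
  have hn : H ⊓ T ≤ Subgroup.normalizer (N : Set G) := inf_le_left.trans (le_normalizer_of_conj h.nrm)
  refine ⟨N.normalizerMonoidHom.comp (Subgroup.inclusion hn), (injective_iff_map_eq_one _).2 fun a ha => ?_,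
    fun _ _ => rfl⟩
  refine Subtype.ext (h.cent a a.2.2 fun x hx => ?_)
  have h1 := congrArg Subtype.val (DFunLike.congr_fun ha ⟨x, hx⟩)
  exact mul_inv_eq_iff_eq_mul.1 h1

theorem Sim.card_dvd_aut (h : Sim T H N) : Nat.card ↥(H ⊓ T) ∣ Nat.card (MulAut N) :=
  let ⟨φ, hφ, _⟩ := h.exists_hom
  Subgroup.card_dvd_of_injective φ hφ

theorem Sim.le_gcd (hK : AllK) (hT : AS T) (hH : Half H m) (h : Sim T H N) {l : ℕ}
    (hl : ∀ M : Subgroup N, M ≠ ⊤ → l ≤ M.index) : l ≤ Nat.gcd (Nat.card H / m) (Nat.card N) := by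
  obtain ⟨g, hg⟩ := hH.exists_not_mem
  obtain ⟨h1, h2, -⟩ := Sv.boxE hK G T H N m hT hH h g hg
  refine (hl ((cj g H).subgroupOf N) fun e => h1.ne' (Subgroup.index_eq_one.2 e)).trans
    (Nat.le_of_dvd (Nat.gcd_pos_of_pos_right _ Nat.card_pos) (Nat.dvd_gcd h2 (Subgroup.relIndex_dvd_card _ _)))

theorem Sim.Fq28.quick_false (hT : AS T) (hH : Half H m) {M A e l : ℕ} (hM : Nat.card T = M) (hA : Nat.card ↥(H ⊓ T) ∣ A)
    (he : e ∣ Nat.card ↥(H ⊓ T)) (hl : l ≤ Nat.gcd (Nat.card H / m) e) : Sim.Fq28.quick M A e l = false := by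
  have h := Sv.boxNec G T H m 0 0 (fun _ => 0) hT hH (fun _ _ _ => Nat.zero_le _) (fun _ _ _ => Nat.zero_le _)
    fun _ _ _ _ _ _ => Nat.zero_le _
  rw [← Bool.not_eq_true, ← hM]
  exact fun h1 => (Sim.Fq28.quick_lt h1 Nat.card_pos h.a_dvd hA he).not_ge (hl.trans (Nat.le_of_dvd
    (Nat.gcd_pos_of_pos_right _ (Nat.pos_of_dvd_of_pos he Nat.card_pos)) (Nat.gcd_dvd_gcd_of_dvd_left _ h.d_dvd')))

theorem Sim.relIndex_eq (hT : AS T) (hH : Half H m) (h : Sim T H N) :
    N.relIndex H = Nat.card ↥(H ⊓ T) * T.index / Nat.card N := by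
  rw [← hT.card_eq_mul hH, ← Own.card_mul_relIndex (h.le.trans inf_le_left), Nat.mul_div_cancel_left _ Nat.card_pos]

theorem Sv.ClDat.lmin_le {p t n f K : ℕ} (hT : AS T) (hH : Half H m) (D : Sv.ClDat p T t n f)
    (hK : Nat.card ↥(H ⊓ T) ≤ K) : Sv.lminCl t n (p ^ f) ≤ (K * Sv.outCl t n p f) ^ 2 := by
  have h1 := hT.sigma_index hH D.lmin
  have h2 : 0 < Sv.outCl t n p f := by
    have h3 := Sim.valid_three D.valid
    have h4 : ∀ a b : ℕ, 0 < a → 0 < Nat.gcd a b := fun a b => Nat.gcd_pos_of_pos_left b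
    unfold Sv.outCl
    refine Nat.mul_pos ?_ D.pos
    split_ifs <;> first | omega | exact Nat.mul_pos (by omega) (h4 _ _ (by omega))
  refine ((Nat.le_mul_of_pos_left _ (by have := hH.one_lt; omega)).trans h1).trans (Nat.pow_le_pow_left ?_ 2)
  rw [hT.card_eq_mul hH]
  exact (Nat.sub_le _ _).trans (Nat.mul_le_mul hK (Nat.le_of_dvd h2 D.out))

end

section

variable {T : Type} [Group T] {p k n : ℕ}

/-- the projective representation in the form of `H912/Bd` -/
theorem Sv.ProjRep.pr (h : Sv.ProjRep p k n T) (hT : commutator T = ⊤) :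
    ∃ (F : Type) (_ : Field F) (_ : Fintype F) (_ : CharP F p), Fintype.card F = k ∧
      ∀ r, r.Prime → ¬ r ∣ n → H912.Bd.PR F n r T := by
  obtain ⟨F, i1, i2, i3, S, π, hF, h1, h2⟩ := h
  refine ⟨F, i1, i2, i3, hF, fun r hr hn => ⟨commutator S, inferInstance, π.comp (commutator S).subtype,
    S.subtype.comp (commutator S).subtype, fun y => ?_, fun x hx y => ?_, ?_, fun x hx => ?_⟩⟩
  · have h3 : y ∈ (commutator S).map π := by
      rw [map_commutator_eq, MonoidHom.range_eq_top.2 h1, ← _root_.commutator_def, hT]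
      trivial
    obtain ⟨x, hx, rfl⟩ := h3
    exact ⟨⟨x, hx⟩, rfl⟩
  · exact Subtype.ext (Subtype.ext (H912.Bd.scalars_central ((h2 _).1 hx) _))
  · have := Fact.mk hr
    rw [Nat.coprime_comm, hr.coprime_iff_not_dvd]
    intro h3
    obtain ⟨x, hx⟩ := exists_prime_orderOf_dvd_card' r h3
    refine hn (hx ▸ orderOf_dvd_of_pow_eq_one (Subtype.ext (Subtype.ext (Subtype.ext (Units.ext ?_)))))
    obtain ⟨c, hc⟩ := (Cfsg.Geo.mem_scalars_iff _).1 ((h2 _).1 x.2)
    have h4 : (Matrix.GeneralLinearGroup.det.comp S.subtype) x.1.1 = 1 :=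
      Abelianization.commutator_subset_ker _ x.1.2
    have h5 : ((x.1.1.1 : GL (Fin n) F) : Matrix (Fin n) (Fin n) F).det = 1 := congrArg Units.val h4
    have h6 : ((x.1.1.1 : GL (Fin n) F) : Matrix (Fin n) (Fin n) F) = (c : F) • 1 := hc
    rw [h6, Matrix.det_smul, Matrix.det_one, mul_one, Fintype.card_fin] at h5
    show ((x.1.1.1 : GL (Fin n) F) : Matrix (Fin n) (Fin n) F) ^ n = 1
    rw [h6, smul_pow, h5, one_pow, one_smul]
  · have h3 : x = 1 := Subtype.ext (Subtype.ext hx)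
    rw [h3]
    exact one_mem _

end

end Cfsg.Agent.TH

private theorem dce_fda6bb459f8d : _root_.True := by
  try have : _root_.True := by simp only [_root_.Cfsg.Agent.TH.Sim.allP.eq_1]
  exact _root_.True.intro
end
end
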