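import Cfsg.Agent.TH.Sv.ClDat_m3
import Cfsg.Agent.H715.Fpr.Row4_m3
import Cfsg.Agent.H912.CrossList_m3
import Cfsg.Agent.H175.BdSp_m3
import Cfsg.Agent.H936.AltBig2
import Cfsg.Agent.H940.EngData
import Mathlib
import Cfsg.Agent.SB.Br.Mod_m3
import Cfsg.Agent.CpQuot.Congr
import Cfsg.Agent.Lib.Refl
import Cfsg.Agent.TH.Ex.Ab.Defs_m3
import Cfsg.Agent.SB.C2.Main
import Cfsg.Agent.FastGrp
import Cfsg.Agent.Prune
set_option linter.all false

section
prune_inst 0x7ff4bcf8e9b8bddedfff7e77aedcddfc19901fffacdfb943bfe021ff8bdf030209c5238d8de080fe1e86421410a87803fb7eeeffe86fd87ffffd5ff41ffbee1ff5f7b500111488340f3c0ff603f07f8e7f3fffffffffffffffffffffffffffbeffffffffffff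

-- part: TH/Sim/SporGrp
section
prune_inst 0x34006164040002000000850210203802ee00053004230401d420004008869d220d802700658018051a082281003100081100007000400000000004000000002080a8100c31500d0426009f800000000000000000000000000000000000041000000000000
set_option linter.all false
open scoped Cfsg.Agent.FastGrp

-- part: TH/Sim/SporNum
section
/-!
# S3541, box `BoxSimSpor` (helper67): arithmetic of the classical orders

* `WW_dvd` : `∏_{i ≤ j} (q ^ (2 i) - 1)` divides twice the order;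
* `pow_lbW_dvd` : the power of a prime `s ∤ q` which always divides this product;
* `pow_le_lmin` : `q ^ (n - 2)` is at most the least index.
-/

set_option autoImplicit false

namespace Cfsg.Agent.TH.Sim.SpR

open Cfsg.Agent.TH.Sv Cfsg.Agent.H940.Eng

/-- `∏_{i = 1}^j (q ^ (2 i) - 1)` -/
def WW (q j : ℕ) : ℕ := prd (fun i => q ^ (2 * i) - 1) 1 j

/-- the number of factors -/
def jj (t n : ℕ) : ℕ := if t ≤ 3 then n / 2 else n / 2 - 1

theorem prd_succ (f : ℕ → ℕ) (a k : ℕ) : prd f a (k + 1) = prd f a k * f (a + k) := rfl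

theorem WW_succ (q j : ℕ) : WW q (j + 1) = WW q j * (q ^ (2 * (1 + j)) - 1) := rfl

theorem WW_mono (q : ℕ) {j j' : ℕ} (h : j ≤ j') : WW q j ∣ WW q j' := by
  induction h with
  | refl => exact dvd_rfl
  | step _ ih => rw [WW_succ]; exact ih.mul_right _

theorem WW_mul_dvd {q : ℕ} {f : ℕ → ℕ} (hf : ∀ i, f (2 * i) = q ^ (2 * i) - 1) (k : ℕ) :
    WW q ((k + 3) / 2) * f 3 ∣ prd f 2 (k + 2) := by
  induction k with
  | zero =>
    have h1 : prd f 2 (0 + 2) = 1 * f (2 * 1) * f 3 := rfl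
    have h2 : WW q ((0 + 3) / 2) = 1 * (q ^ (2 * 1) - 1) := rfl
    rw [h1, h2, hf]
  | succ k ih =>
    rw [show k + 1 + 2 = (k + 2) + 1 from rfl, prd_succ]
    rcases Nat.even_or_odd' k with ⟨c, rfl | rfl⟩
    · rw [show (2 * c + 1 + 3) / 2 = (c + 1) + 1 by omega, WW_succ, show 2 + (2 * c + 2) = 2 * (1 + (c + 1)) by ring, hf,
        mul_right_comm]
      rw [show (2 * c + 3) / 2 = c + 1 by omega] at ih
      exact Nat.mul_dvd_mul_right ih _
    · rw [show (2 * c + 1 + 1 + 3) / 2 = (2 * c + 1 + 3) / 2 by omega]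
      exact ih.mul_right _

theorem dvd_div_aux {w u g x P : ℕ} (hg : 0 < g) (h1 : g ∣ u) (h2 : w * u ∣ P) : w ∣ 2 * (x * P / g) := by
  obtain ⟨a, rfl⟩ := h1
  obtain ⟨b, rfl⟩ := h2
  rw [show x * (w * (g * a) * b) = g * (w * (x * a * b)) by ring, Nat.mul_div_cancel_left _ hg]
  exact Dvd.dvd.mul_left (Dvd.intro _ rfl) 2

theorem valid_three {t n q : ℕ} (h : validCl t n q = true) : 3 ≤ n ∧ t < 6 ∧ validCl t n 7 = true := by
  unfold validCl at h ⊢
  split_ifs at h ⊢ <;> simp only [Bool.and_eq_true, decide_eq_true_eq, Bool.not_eq_true', Bool.and_eq_false_iff,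
    decide_eq_false_iff_not, and_true] at h ⊢ <;> omega

theorem WW_dvd {t n q : ℕ} (h : validCl t n q = true) : WW q (jj t n) ∣ 2 * ordCl t n q := by
  obtain ⟨h3, -, -⟩ := valid_three h
  obtain ⟨k, rfl⟩ : ∃ k, n = k + 3 := ⟨n - 3, by omega⟩
  unfold ordCl jj
  by_cases h0 : t = 0
  · rw [if_pos h0, if_pos (by omega)]
    refine dvd_div_aux (Nat.gcd_pos_of_pos_left _ (by omega)) ((Nat.gcd_dvd_right _ _).trans ?_)
      (WW_mul_dvd (f := fun i => q ^ i - 1) (fun _ => rfl) k)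
    exact Nat.sub_one_dvd_pow_sub_one q 3
  rw [if_neg h0]
  by_cases h1 : t = 1
  · rw [if_pos h1, if_pos (by omega)]
    refine dvd_div_aux (Nat.gcd_pos_of_pos_left _ (by omega)) ((Nat.gcd_dvd_right _ _).trans ?_)
      (WW_mul_dvd (f := um q) (fun i => by unfold um; rw [if_pos (by omega)]) k)
    exact ⟨q ^ 2 - q + 1, by
      have h4 : um q 3 = q ^ 3 + 1 := rfl
      have h5 : q ≤ q ^ 2 := Nat.le_self_pow (by norm_num) q
      rw [h4]
      zify [h5]
      ring⟩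
  rw [if_neg h1]
  by_cases h2 : t ≤ 3
  · rw [if_pos h2, if_pos h2]
    change WW q _ ∣ 2 * (_ * WW q _ / _)
    have h4 : Nat.gcd 2 (q - 1) ∣ WW q ((k + 3) / 2) := by
      refine ((Nat.gcd_dvd_right _ _).trans (Nat.sub_one_dvd_pow_sub_one q (2 * (1 + 0)))).trans ?_
      exact (Dvd.intro_left _ (WW_succ q 0).symm).trans (WW_mono q (by omega))
    obtain ⟨c, hc⟩ := Nat.gcd_dvd_left 2 (q - 1)
    have h5 : 0 < Nat.gcd 2 (q - 1) := Nat.gcd_pos_of_pos_left _ (by norm_num)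
    generalize Nat.gcd 2 (q - 1) = g at *
    obtain ⟨w, hw⟩ := h4
    generalize q ^ ((k + 3) / 2 * ((k + 3) / 2)) = x
    rw [hw, mul_left_comm _ g w, Nat.mul_div_cancel_left _ h5, hc]
    exact ⟨c * x, by ring⟩
  rw [if_neg h2, if_neg h2]
  split_ifs
  · rw [mul_assoc]
    exact dvd_div_aux (Nat.gcd_pos_of_pos_left _ (by norm_num)) (Nat.gcd_dvd_right _ _) (by rw [mul_comm]; rfl)
  · rw [mul_assoc]
    exact dvd_div_aux (Nat.gcd_pos_of_pos_left _ (by norm_num)) (Nat.gcd_dvd_right _ _) (by rw [mul_comm]; rfl)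

theorem val_dvd (p : ℕ) : ∀ f n : ℕ, p ^ val p f n ∣ n := by
  intro f
  induction f with
  | zero => intro n; exact one_dvd n
  | succ f ih =>
    intro n
    unfold val
    split_ifs with h
    · obtain ⟨k, rfl⟩ := Nat.dvd_of_mod_eq_zero (beq_iff_eq.1 h)
      rcases Nat.eq_zero_or_pos p with rfl | hp
      · simp
      · rw [Nat.mul_div_cancel_left _ hp, pow_succ']
        exact Nat.mul_dvd_mul_left _ (ih k)
    · exact one_dvd n

/-- the exponent of `s` in `q ^ (2 i) - 1` -/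
def ex (s i : ℕ) : ℕ := if s = 2 then 3 + val 2 i i else if 2 * i % (s - 1) = 0 then 1 + val s i i else 0

/-- the exponent of `s` in `WW q j` -/
def lbW (s : ℕ) : ℕ → ℕ
  | 0 => 0
  | j + 1 => lbW s j + ex s (1 + j)

theorem two_pow_dvd {x : ℤ} (h : (8 : ℤ) ∣ x - 1) (k : ℕ) : (2 : ℤ) ^ (3 + k) ∣ x ^ 2 ^ k - 1 := by
  induction k with
  | zero => simpa using h
  | succ k ih =>
    have h1 : x ^ 2 ^ (k + 1) - 1 = (x ^ 2 ^ k - 1) * (x ^ 2 ^ k - 1 + 2) := by ring
    rw [h1, ← add_assoc, pow_succ]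
    refine mul_dvd_mul ih (dvd_add (dvd_trans ?_ ih) dvd_rfl)
    exact dvd_pow_self _ (by omega)

theorem pow_ex_dvd {s q : ℕ} (hs : s.Prime) (h : ¬ s ∣ q) (i : ℕ) : s ^ ex s i ∣ q ^ (2 * i) - 1 := by
  have hq : 1 ≤ q ^ (2 * i) := Nat.one_le_pow _ _ (Nat.pos_of_ne_zero (by rintro rfl; exact h (dvd_zero _)))
  rw [← Int.natCast_dvd_natCast]
  push_cast [hq]
  unfold ex
  split_ifs with h2 h3
  · subst h2
    obtain ⟨c, hc⟩ := val_dvd 2 i i
    generalize val 2 i i = v at *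
    have h4 : (8 : ℤ) ∣ (q : ℤ) ^ 2 - 1 := by
      obtain ⟨r, rfl⟩ : ∃ r, q = 2 * r + 1 := ⟨q / 2, by omega⟩
      obtain ⟨u, hu⟩ := Int.even_mul_succ_self (r : ℤ)
      exact ⟨u, by push_cast; linear_combination 4 * hu⟩
    refine (two_pow_dvd h4 v).trans ?_
    rw [hc, pow_mul, pow_mul]
    exact sub_one_dvd_pow_sub_one _ c
  · have h4 : (s - 1) * s ^ val s i i ∣ 2 * i := by
      refine Nat.Coprime.mul_dvd_of_dvd_of_dvd (Nat.Coprime.pow_right _ ?_) (Nat.dvd_of_mod_eq_zero h3)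
        ((val_dvd s i i).mul_left 2)
      exact (Nat.coprime_self_sub_left hs.one_le).2 (Nat.coprime_one_left _)
    generalize val s i i = v at *
    obtain ⟨c, hc⟩ := h4
    have h5 : (s : ℤ) ∣ (q : ℤ) ^ (s - 1) - 1 := by
      have h6 := Nat.ModEq.pow_totient ((Nat.coprime_comm.1 ((Nat.Prime.coprime_iff_not_dvd hs).2 h)))
      rw [Nat.totient_prime hs] at h6
      have h7 := h6.symm.dvd
      push_cast at h7
      exact h7
    have h6 := dvd_sub_pow_of_dvd_sub h5 v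
    rw [one_pow] at h6
    rw [add_comm]
    refine h6.trans ?_
    rw [hc, pow_mul, pow_mul]
    exact sub_one_dvd_pow_sub_one _ c
  · exact one_dvd _

theorem pow_lbW_dvd {s q : ℕ} (hs : s.Prime) (h : ¬ s ∣ q) (j : ℕ) : s ^ lbW s j ∣ WW q j := by
  induction j with
  | zero => exact one_dvd _
  | succ j ih =>
    rw [WW_succ, show lbW s (j + 1) = lbW s j + ex s (1 + j) from rfl, pow_add]
    exact mul_dvd_mul ih (pow_ex_dvd hs h _)

theorem geo_le {q : ℕ} (hq : 1 ≤ q) (k : ℕ) : q ^ k * (q - 1) ≤ q ^ (k + 1) - 1 := by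
  have h1 : 1 ≤ q ^ k := Nat.one_le_pow _ _ hq
  rw [Nat.mul_sub_one, pow_succ]
  omega

theorem um_ge (q i : ℕ) : q ^ i - 1 ≤ um q i := by
  unfold um
  split_ifs <;> omega

theorem pow_le_lmin {t n q : ℕ} (h : validCl t n q = true) (hq : 6 ≤ q) : q ^ (n - 2) ≤ lminCl t n q := by
  have h1 : 1 ≤ q := by omega
  have h2 : 0 < q - 1 := by omega
  have hm : ∀ a b : ℕ, a ≤ b → q ^ a ≤ q ^ b := fun a b hab => Nat.pow_le_pow_right h1 hab
  have hL : ∀ k, 3 ≤ k → q ^ (k - 2) ≤ (q ^ k - 1) / (q - 1) := fun k hk => by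
    rw [Nat.le_div_iff_mul_le h2]
    refine (geo_le h1 _).trans (Nat.sub_le_sub_right (hm _ _ (by omega)) 1)
  obtain ⟨h3, -, -⟩ := valid_three h
  unfold validCl at h
  unfold lminCl
  by_cases h0 : t = 0
  · rw [if_pos h0]
    exact hL n h3
  rw [if_neg h0] at h ⊢
  by_cases t1 : t = 1
  · rw [if_pos t1]
    split_ifs with a1 a2 a3 a4
    · omega
    · exact (hm _ 3 (by omega)).trans (Nat.le_succ _)
    · exact ((hm _ 3 (by omega)).trans (Nat.le_succ _)).trans (Nat.le_mul_of_pos_left _ (by omega))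
    · omega
    · have h4 : 1 < q ^ 2 := Nat.one_lt_pow (by norm_num) (by omega)
      have h5 : 1 < q ^ (n - 1) := Nat.one_lt_pow (by omega) (by omega)
      have h6 : 1 ≤ q ^ (n - 2) := Nat.one_le_pow _ _ h1
      have h7 := um_ge q n
      have h8 := um_ge q (n - 1)
      rw [Nat.le_div_iff_mul_le (by omega)]
      refine le_trans ?_ (Nat.le_mul_of_pos_right _ (by omega))
      rw [Nat.mul_sub_one, ← pow_add, show n - 2 + 2 = n by omega]
      omega
  rw [if_neg t1] at h ⊢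
  by_cases t2 : t = 2
  · rw [if_pos t2, if_neg (by omega), if_neg (by omega)]
    exact hL n h3
  rw [if_neg t2] at h ⊢
  by_cases t3 : t = 3
  · rw [if_pos t3, if_neg (by omega), Nat.le_div_iff_mul_le h2]
    exact (geo_le h1 _).trans (Nat.sub_le_sub_right (hm _ _ (by omega)) 1)
  rw [if_neg t3] at h ⊢
  simp only [Bool.and_eq_true, decide_eq_true_eq] at h
  obtain ⟨m, rfl⟩ : ∃ m, n = 2 * (m + 2) := ⟨n / 2 - 2, by omega⟩
  rw [show 2 * (m + 2) / 2 = m + 2 by omega, show m + 2 - 1 = m + 1 by omega]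
  by_cases t4 : t = 4
  · rw [if_pos t4, if_neg (by omega), if_neg (by omega), Nat.le_div_iff_mul_le h2,
      show 2 * (m + 2) - 2 = (m + 1) + (m + 1) by omega, pow_add, mul_right_comm]
    exact Nat.mul_le_mul (geo_le h1 _) (Nat.le_succ _)
  · rw [if_neg t4, Nat.le_div_iff_mul_le h2, show 2 * (m + 2) - 2 = (m + 2) + m by omega, pow_add, mul_assoc]
    exact Nat.mul_le_mul (Nat.le_succ _) (geo_le h1 _)

end Cfsg.Agent.TH.Sim.SpR
end

-- part: TH/Sim/SporChk
section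
/-!
# S3541, box `BoxSimSpor` (helper67): the checker

`main D = true` excludes every numerical configuration for the group with the data `D` (`no_cfg`).
-/

set_option autoImplicit false

namespace Cfsg.Agent.TH.Sim.SpR

open Cfsg.Agent.TH.Sv Cfsg.Agent.H940.Eng Cfsg.Agent.OrdDiv

/-- the data of the group `N` -/
structure Dat where
  l : List (ℕ × ℕ)
  n : ℕ
  ords : List ℕ
  loc : List LD
  /-- indices excluded by a separate argument -/
  allow : List ℕ
  /-- the possible indices of `N` in `H ⊓ T` -/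
  ks : List ℕ
  /-- `(r, m, z)` : the degree is at least `m` unless `p = r` or `r` divides the degree and `z` -/
  degs : List (ℕ × ℕ × ℕ)
  jk : ℕ

/-- remove the primes of `S` -/
def strip (S : List ℕ) (b : ℕ) : ℕ := S.foldr (fun s x => x / s ^ val s 64 x) b

/-- primes which divide the degree of the action -/
def SS (l : List (ℕ × ℕ)) (j a : ℕ) : List ℕ := (l.map Prod.fst).filter fun s => 2 * a % s ^ lbW s j != 0

/-- the bound for the least index -/
def bnd (S : List ℕ) (a : ℕ) : ℕ :=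
  S.foldr (fun s b => min (strip [s] a * min (strip [s] a) (strip S a)) b) (a * a)

/-- no proper subgroup has index dividing `g` -/
def kill (D : Dat) (g : ℕ) : Bool :=
  D.n / g * prodl (D.l.map fun x => (x.1, val x.1 x.2 g)) == D.n &&
    check D.l D.n (D.l.map fun x => (x.1, val x.1 x.2 g)) D.allow [] 60 D.loc D.ords

/-- the linear space is too small -/
def linT (D : Dat) (a o y : ℕ) : Bool :=
  D.n % o == 0 && (D.l.all fun x => Nat.gcd (a * o) y % x.1 ^ 2 != 0) &&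
    Nat.blt (Nat.gcd (a * o) y * (a * o) ^ D.l.length) y

def test (D : Dat) (a t n q B o : ℕ) : Bool :=
  !validCl t n q || Nat.blt B (lminCl t n q) || ordCl t n q % a != 0 || kill D (Nat.gcd D.n (ordCl t n q / a - 1)) ||
    linT D a o (ordCl t n q / a - 1)

def degOK (degs : List (ℕ × ℕ × ℕ)) (p n : ℕ) : Bool :=
  degs.all fun x => x.1 == p || Nat.ble x.2.1 n || (n % x.1 == 0 && x.2.2 % x.1 == 0)

def loopF (D : Dat) (a t n p B F : ℕ) : Bool :=
  Nat.ble 6 (p ^ F) && Nat.blt B ((p ^ F) ^ (n - 2)) &&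
    (List.range F).all fun f => f == 0 || test D a t n (p ^ f) B (outCl t n p f)

def loopP (D : Dat) (a t n p B : ℕ) : Bool := loopF D a t n p B (Nat.log2 B / ((n - 2) * Nat.log2 p) + 3)

def rootAux (B k : ℕ) : ℕ → ℕ → ℕ
  | 0, x => x
  | i + 1, x => if (x + 2 ^ i) ^ k ≤ B then rootAux B k i (x + 2 ^ i) else rootAux B k i x

def loopR (D : Dat) (a t n B Q : ℕ) : Bool :=
  Nat.ble 6 Q && Nat.blt B (Q ^ (n - 2)) &&
    (List.range Q).all fun q => Nat.ble q 1 || Nat.gcd q D.n != 1 || test D a t n q B 0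

def loopQ (D : Dat) (a t n B : ℕ) : Bool :=
  loopR D a t n B (max 6 (rootAux B (n - 2) (Nat.log2 B / (n - 2) + 1) 0 + 1))

def row (D : Dat) (a t n : ℕ) : Bool :=
  !validCl t n 7 || Nat.ble D.jk (jj t n) ||
    ((D.l.all fun x => !degOK D.degs x.1 n || loopP D a t n x.1 (bnd (x.1 :: SS D.l (jj t n) a) a)) &&
      (!degOK D.degs 1 n || (!(SS D.l (jj t n) a).isEmpty && loopQ D a t n (bnd (SS D.l (jj t n) a) a))))

def main (D : Dat) : Bool :=
  (D.l.all fun x => D.n % x.1 == 0) && (D.degs.all fun x => D.n % x.1 == 0) && D.ks.all fun k => D.n % k == 0 &&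
    kill D (strip (SS D.l D.jk (k * D.n)) D.n) && (List.range 6).all fun t => (List.range (2 * D.jk + 2)).all fun n => row D (k * D.n) t n

/-! ### soundness -/

theorem strip_dvd (S : List ℕ) (b : ℕ) : strip S b ∣ b := by
  induction S with
  | nil => exact dvd_rfl
  | cons s S ih => exact (Nat.div_dvd_of_dvd (val_dvd s 64 _)).trans ih

theorem dvd_strip {S : List ℕ} {g b : ℕ} (h : ∀ s ∈ S, s.Prime ∧ ¬ s ∣ g) (hg : g ∣ b) : g ∣ strip S b := by
  induction S with
  | nil => exact hg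
  | cons s S ih =>
    have h1 := ih fun s hs => h s (List.mem_cons_of_mem _ hs)
    obtain ⟨hs, h2⟩ := h s List.mem_cons_self
    change g ∣ strip S b / s ^ val s 64 (strip S b)
    refine Nat.dvd_div_of_mul_dvd (Nat.Coprime.mul_dvd_of_dvd_of_dvd (Nat.Coprime.pow_left _ ?_) (val_dvd s 64 _) h1)
    exact (Nat.Prime.coprime_iff_not_dvd hs).2 h2

theorem le_strip {S : List ℕ} {g b : ℕ} (hb : 0 < b) (h : ∀ s ∈ S, s.Prime ∧ ¬ s ∣ g) (hg : g ∣ b) : g ≤ strip S b :=
  Nat.le_of_dvd (Nat.pos_of_dvd_of_pos (strip_dvd S b) hb) (dvd_strip h hg)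

theorem le_foldr {c z : ℕ} {f : ℕ → ℕ} {S : List ℕ} (h0 : c ≤ z) (h : ∀ s ∈ S, c ≤ f s) :
    c ≤ S.foldr (fun s b => min (f s) b) z := by
  induction S with
  | nil => exact h0
  | cons s S ih => exact le_min (h s List.mem_cons_self) (ih fun s hs => h s (List.mem_cons_of_mem _ hs))

theorem le_bnd {N a o d c : ℕ} (hN : Nec N a o d c c fun _ => c) (ha : 0 < a) {S : List ℕ} (h0 : S ≠ [])
    (h : ∀ s ∈ S, s.Prime ∧ s ∣ a ∧ ¬ s ∣ d) : c ≤ bnd S a := by
  obtain ⟨ν, h1, h2⟩ := hN.sylA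
  have h3 : ∀ s ∈ S, c ≤ strip [s] a * min (strip [s] a) (strip S a) := fun s hs => by
    obtain ⟨p1, p2, p3⟩ := h s hs
    have h4 : ν s ≤ strip [s] a := by
      refine le_strip ha (fun u hu => ?_) ((h1 s p1).1.trans (Nat.ordCompl_dvd a s))
      rw [List.mem_singleton.1 hu]
      refine ⟨p1, fun h5 => ?_⟩
      have h6 := (h1 s p1).2
      rw [Nat.mod_eq_zero_of_dvd h5] at h6
      exact absurd h6 (by norm_num)
    have h5 : Nat.gcd a d ≤ strip S a :=
      le_strip ha (fun u hu => ⟨(h u hu).1, fun h6 => (h u hu).2.2 (h6.trans (Nat.gcd_dvd_right _ _))⟩) (Nat.gcd_dvd_left _ _)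
    exact (h2 s p1 p2 p3).trans (Nat.mul_le_mul h4 (min_le_min h4 h5))
  refine le_foldr ?_ h3
  obtain ⟨s, hs⟩ := List.exists_mem_of_ne_nil S h0
  have h4 : strip [s] a ≤ a := Nat.le_of_dvd ha (strip_dvd _ _)
  exact (h3 s hs).trans (Nat.mul_le_mul h4 ((min_le_left _ _).trans h4))

theorem gb_zero (s : ℕ) : ∀ b a : ℕ, b < a → gb s b a = 0 := by
  intro b
  induction b with
  | zero =>
    intro a ha
    obtain ⟨a, rfl⟩ : ∃ k, a = k + 1 := ⟨a - 1, by omega⟩
    rfl
  | succ b ih =>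
    intro a ha
    obtain ⟨a, rfl⟩ : ∃ k, a = k + 1 := ⟨a - 1, by omega⟩
    rw [show gb s (b + 1) (a + 1) = gb s b a + s ^ (a + 1) * gb s b (a + 1) from rfl, ih a (by omega),
      ih (a + 1) (by omega), mul_zero, add_zero]

theorem gb_self (s : ℕ) : ∀ b : ℕ, gb s b b = 1 := by
  intro b
  induction b with
  | zero => rfl
  | succ b ih =>
    rw [show gb s (b + 1) (b + 1) = gb s b b + s ^ (b + 1) * gb s b (b + 1) from rfl, ih, gb_zero s b _ (by omega),
      mul_zero, add_zero]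

theorem gb_succ {s : ℕ} (hs : 2 ≤ s) : ∀ b : ℕ, gb s (b + 1) b ≤ s ^ (b + 1) := by
  intro b
  induction b with
  | zero => exact Nat.one_le_pow _ _ (by omega)
  | succ b ih =>
    rw [show gb s (b + 1 + 1) (b + 1) = gb s (b + 1) b + s ^ (b + 1) * gb s (b + 1) (b + 1) from rfl, gb_self, mul_one,
      pow_succ s (b + 1)]
    have h1 := Nat.mul_le_mul_left (s ^ (b + 1)) hs
    omega

theorem mem_of_dvd {l : List (ℕ × ℕ)} (hp : ∀ x ∈ l, (x.1).Prime) {s : ℕ} (hs : s.Prime) (h : s ∣ prodl l) :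
    ∃ x ∈ l, x.1 = s := by
  unfold prodl at h
  obtain ⟨y, hy, h1⟩ := (Prime.dvd_prod_iff hs.prime).1 h
  obtain ⟨x, hx, rfl⟩ := List.mem_map.1 hy
  exact ⟨x, hx, ((Nat.prime_dvd_prime_iff_eq hs (hp x hx)).1 (hs.dvd_of_dvd_pow h1)).symm⟩

theorem lin_false {D : Dat} (hv : valid D.l D.n = true) {N a o o' d c k s : ℕ} (hN : Nec N a o d c c fun _ => c)
    (ha : a = k * D.n) (hk : k ∣ D.n) (ho : o ∣ o') (hs : s.Prime) (hsa : s ∣ a) (hsd : ¬ s ∣ d) :
    linT D a o' (N / a - 1) = false := by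
  by_contra hc
  rw [Bool.not_eq_false] at hc
  unfold linT at hc
  simp only [Bool.and_eq_true, beq_iff_eq, List.all_eq_true, bne_iff_ne, Nat.blt_eq] at hc
  obtain ⟨⟨c1, c2⟩, c3⟩ := hc
  have hp := valid_prime hv
  have hn : 0 < D.n := by rw [← valid_prod hv]; exact prodl_pos hp
  have o1 : o' ∣ D.n := Nat.dvd_of_mod_eq_zero c1
  have o2 : 0 < o' := Nat.pos_of_dvd_of_pos o1 hn
  have o3 : 0 < o := Nat.pos_of_dvd_of_pos ho o2
  have a0 : 0 < a := ha ▸ Nat.mul_pos (Nat.pos_of_dvd_of_pos hk hn) hn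
  have h0 : 0 < a * o := Nat.mul_pos a0 o3
  have h1 : a * o ∣ a * o' := Nat.mul_dvd_mul_left _ ho
  have h2 : a * o ≤ a * o' := Nat.le_of_dvd (Nat.mul_pos a0 o2) h1
  have d1 : d ∣ Nat.gcd (a * o') (N / a - 1) := Nat.dvd_gcd (hN.d_dvd.trans h1) hN.d_dvd'
  have d2 : d ≤ Nat.gcd (a * o') (N / a - 1) := Nat.le_of_dvd (Nat.gcd_pos_of_pos_left _ (Nat.mul_pos a0 o2)) d1
  have d0 : d ≠ 0 := by have := hN.two_le; omega
  have m0 : a * o / d ≠ 0 := by have := hN.m_le; omega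
  have hmem : ∀ t ∈ (a * o / d).primeFactors, ∃ x ∈ D.l, x.1 = t := fun t ht => by
    have t1 := Nat.prime_of_mem_primeFactors ht
    have t2 : t ∣ D.n ^ 3 := by
      refine ((Nat.dvd_of_mem_primeFactors ht).trans (Nat.div_dvd_of_dvd hN.d_dvd)).trans (h1.trans ?_)
      rw [ha, pow_succ, pow_two]
      exact mul_dvd_mul (Nat.mul_dvd_mul_right hk _) o1
    exact mem_of_dvd hp t1 (by rw [valid_prod hv]; exact t1.dvd_of_dvd_pow t2)
  obtain ⟨ν, r, l1, l2, l3, -⟩ := hN.lin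
  have l4 := (l2 s hs (hsa.mul_right o) hsd).2.1
  have l5 : ∀ t ∈ (a * o / d).primeFactors,
      gb t ((a * o).factorization t) ((a * o / d).factorization t) * ν t ≤ a * o' := fun t ht => by
    have t1 := Nat.prime_of_mem_primeFactors ht
    obtain ⟨x, hx, rfl⟩ := hmem t ht
    have t2 : d.factorization x.1 ≤ 1 := by
      by_contra t3
      exact c2 x hx (Nat.mod_eq_zero_of_dvd (((t1.pow_dvd_iff_le_factorization d0).2 (by omega)).trans d1))
    have t3 : (a * o).factorization x.1 = (a * o / d).factorization x.1 + d.factorization x.1 := by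
      conv_lhs => rw [← Nat.div_mul_cancel hN.d_dvd]
      rw [Nat.factorization_mul m0 d0, Finsupp.add_apply]
    have t4 : gb x.1 ((a * o).factorization x.1) ((a * o / d).factorization x.1) ≤ x.1 ^ (a * o).factorization x.1 := by
      rcases (show d.factorization x.1 = 0 ∨ d.factorization x.1 = 1 by omega) with t5 | t5
      · rw [t3, t5, add_zero, gb_self]
        exact Nat.one_le_pow _ _ t1.pos
      · rw [t3, t5]
        exact gb_succ t1.two_le _
    have t5 : ν x.1 ≤ a * o / x.1 ^ (a * o).factorization x.1 :=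
      Nat.le_of_dvd (Nat.ordCompl_pos _ h0.ne') (l1 _ t1).1
    exact ((Nat.mul_le_mul t4 t5).trans (Nat.mul_div_le _ _)).trans h2
  have l6 : (a * o / d).primeFactors.card ≤ D.l.length := by
    have : (a * o / d).primeFactors ⊆ (D.l.map Prod.fst).toFinset := fun t ht => by
      obtain ⟨x, hx, rfl⟩ := hmem t ht
      exact List.mem_toFinset.2 (List.mem_map_of_mem hx)
    refine (Finset.card_le_card this).trans ((List.toFinset_card_le _).trans ?_)
    rw [List.length_map]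
  have l7 : r ≤ (a * o') ^ D.l.length :=
    (l3.trans (Finset.prod_le_pow_card _ _ _ l5)).trans (Nat.pow_le_pow_right (Nat.mul_pos a0 o2) l6)
  exact absurd (l4.trans (Nat.mul_le_mul d2 ((Nat.sub_le _ _).trans l7))) (not_le.2 c3)

section

variable {X : Type} [Group X] {D : Dat} (c : Ctx X D.l D.n D.ords D.loc) (hal : ∀ U : Subgroup X, U.index ∉ D.allow)
include c hal

theorem kill_false {U : Subgroup X} (hU : U ≠ ⊤) {g : ℕ} (h1 : U.index ∣ g) (h2 : g ∣ D.n) : kill D g = false := by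
  by_contra hc
  rw [Bool.not_eq_false] at hc
  unfold kill at hc
  rw [Bool.and_eq_true, beq_iff_eq] at hc
  have := c.fin
  have := c.simple
  have hp := valid_prime c.val
  have h3 : D.n / g ∣ Nat.card U := by
    obtain ⟨k, hk⟩ := h1
    have h4 := U.card_mul_index
    rw [c.card] at h4
    have h5 : U.index * Nat.card U = U.index * (D.n / g * k) := by
      rw [mul_comm, h4, mul_left_comm, ← hk, Nat.div_mul_cancel h2]
    exact ⟨k, Nat.eq_of_mul_eq_mul_left (Nat.pos_of_ne_zero Subgroup.index_ne_zero_of_finite) h5⟩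
  refine (top_of_check c.val c.card c.ords c.loc (fun x hx => ?_) hc.1 (fun p hp => absurd hp List.not_mem_nil) h3
    hc.2).elim hU (hal U)
  obtain ⟨y, hy, rfl⟩ := List.mem_map.1 hx
  exact hp y hy

theorem test_false {U : Subgroup X} (hU : U ≠ ⊤) {t n q a o o' d k s B : ℕ} (hv : validCl t n q = true)
    (hN : Nec (ordCl t n q) a o d (lminCl t n q) (lminCl t n q) fun _ => lminCl t n q) (hd : U.index ∣ d)
    (ha : a = k * D.n) (hk : k ∣ D.n) (ho : o ∣ o') (hs : s.Prime) (hsa : s ∣ a) (hsd : ¬ s ∣ d)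
    (hB : lminCl t n q ≤ B) : test D a t n q B o' = false := by
  unfold test
  rw [lin_false c.val hN ha hk ho hs hsa hsd, kill_false c hal hU (Nat.dvd_gcd (c.card ▸ U.index_dvd_card)
    (hd.trans hN.d_dvd')) (Nat.gcd_dvd_left _ _), hv, Nat.mod_eq_zero_of_dvd hN.a_dvd]
  simp only [Bool.not_true, Bool.false_or, bne_self_eq_false, Bool.or_false]
  rw [← Bool.not_eq_true, Nat.blt_eq]
  exact not_lt.2 hB

/-- **the checker** -/
theorem no_cfg (hm : main D = true) {U : Subgroup X} (hU : U ≠ ⊤) {t n p f a o d k : ℕ} (hp : p.Prime) (hf : 0 < f)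
    (hv : validCl t n (p ^ f) = true)
    (hN : Nec (ordCl t n (p ^ f)) a o d (lminCl t n (p ^ f)) (lminCl t n (p ^ f)) fun _ => lminCl t n (p ^ f))
    (hd : U.index ∣ d) (hk : k ∈ D.ks) (ha : a = k * D.n) (ho : o ∣ outCl t n p f) (hpd : p ∣ ordCl t n (p ^ f) / a)
    (hdeg : degOK D.degs p n = true) : False := by
  unfold main at hm
  simp only [Bool.and_eq_true, List.all_eq_true, beq_iff_eq, List.mem_range] at hm
  obtain ⟨⟨ml, m0⟩, hm⟩ := hm
  obtain ⟨⟨m1, m2⟩, m3⟩ := hm k hk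
  rw [← ha] at m2 m3
  have hkn : k ∣ D.n := Nat.dvd_of_mod_eq_zero m1
  have hl := valid_prime c.val
  have hn : 0 < D.n := by rw [← valid_prod c.val]; exact prodl_pos hl
  have a0 : 0 < a := ha ▸ Nat.mul_pos (Nat.pos_of_dvd_of_pos hkn hn) hn
  have hnd : ∀ s, s.Prime → s ∣ ordCl t n (p ^ f) / a → ¬ s ∣ d := fun s hs h1 h2 => by
    have h3 : 1 ≤ ordCl t n (p ^ f) / a := by have := hN.two_mul; have := hN.two_le; omega
    have h4 := Nat.dvd_sub h1 (h2.trans hN.d_dvd')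
    rw [Nat.sub_sub_self h3] at h4
    exact hs.one_lt.ne' (Nat.dvd_one.1 h4)
  have hla : ∀ x ∈ D.l, x.1 ∣ a := fun x hx => ha ▸ (Nat.dvd_of_mod_eq_zero (ml x hx)).mul_left k
  have hS : ∀ j ≤ jj t n, ∀ s ∈ SS D.l j a, s.Prime ∧ s ∣ a ∧ ¬ s ∣ d := fun j hj s hs => by
    obtain ⟨h1, h2⟩ := List.mem_filter.1 hs
    obtain ⟨x, hx, rfl⟩ := List.mem_map.1 h1
    have h3 := hl x hx
    refine ⟨h3, hla x hx, hnd _ h3 ?_⟩
    by_contra h4
    have h5 : ¬ x.1 ∣ p ^ f := fun h6 =>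
      h4 (((Nat.prime_dvd_prime_iff_eq h3 hp).1 (h3.dvd_of_dvd_pow h6)) ▸ hpd)
    have h6 := ((pow_lbW_dvd h3 h5 j).trans (WW_mono _ hj)).trans (WW_dvd hv)
    rw [← Nat.mul_div_cancel' hN.a_dvd, ← mul_assoc] at h6
    exact bne_iff_ne.1 h2 (Nat.mod_eq_zero_of_dvd
      ((Nat.Coprime.pow_left _ ((Nat.Prime.coprime_iff_not_dvd h3).2 h4)).dvd_of_dvd_mul_right h6))
  by_cases hj : D.jk ≤ jj t n
  · have h1 := kill_false c hal hU (dvd_strip (fun s hs => ⟨(hS _ hj s hs).1, fun h => (hS _ hj s hs).2.2 (h.trans hd)⟩)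
      (c.card ▸ U.index_dvd_card)) (strip_dvd _ _)
    rw [m2] at h1
    exact absurd h1 (by decide)
  obtain ⟨v1, v2, v3⟩ := valid_three hv
  have h1 := m3 t v2 n (by unfold jj at hj; split_ifs at hj <;> omega)
  unfold row at h1
  rw [v3, show Nat.ble D.jk (jj t n) = false by rw [← Bool.not_eq_true, Nat.ble_eq]; exact hj] at h1
  simp only [Bool.not_true, Bool.false_or, Bool.and_eq_true, List.all_eq_true, Bool.or_eq_true, Bool.not_eq_true'] at h1
  obtain ⟨r1, r2⟩ := h1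
  by_cases hpn : p ∣ D.n
  · obtain ⟨x, hx, rfl⟩ := mem_of_dvd hl hp (by rwa [valid_prod c.val])
    have h2 := (r1 x hx).resolve_left (by rw [hdeg]; decide)
    have h3 := le_bnd hN a0 (List.cons_ne_nil x.1 (SS D.l (jj t n) a)) (fun s hs => by
      rcases List.mem_cons.1 hs with rfl | hs
      · exact ⟨hp, hla x hx, hnd _ hp hpd⟩
      · exact hS _ le_rfl s hs)
    unfold loopP loopF at h2
    generalize bnd (x.1 :: SS D.l (jj t n) a) a = B at h2 h3
    generalize Nat.log2 B / ((n - 2) * Nat.log2 x.1) + 3 = F at h2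
    simp only [Bool.and_eq_true, List.all_eq_true, Nat.ble_eq, Nat.blt_eq, List.mem_range, Bool.or_eq_true,
      beq_iff_eq] at h2
    obtain ⟨⟨f1, f2⟩, f3⟩ := h2
    by_cases hF : f < F
    · have h4 := (f3 f hF).resolve_left hf.ne'
      rw [test_false c hal hU hv hN hd ha hkn ho hp (hla x hx) (hnd _ hp hpd) h3] at h4
      exact absurd h4 (by decide)
    · have h4 : x.1 ^ F ≤ x.1 ^ f := Nat.pow_le_pow_right hp.pos (not_lt.1 hF)
      exact absurd (((Nat.pow_le_pow_left h4 _).trans (pow_le_lmin hv (f1.trans h4))).trans h3) (not_le.2 f2)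
  · have h2 : degOK D.degs 1 n = true := by
      unfold degOK at hdeg ⊢
      simp only [List.all_eq_true, Bool.or_eq_true, beq_iff_eq] at hdeg ⊢
      intro x hx
      rcases hdeg x hx with (h | h) | h
      · exact absurd (h ▸ Nat.dvd_of_mod_eq_zero (m0 x hx)) hpn
      · exact Or.inl (Or.inr h)
      · exact Or.inr h
    obtain ⟨r3, r4⟩ := r2.resolve_left (by rw [h2]; decide)
    have h5 : SS D.l (jj t n) a ≠ [] := fun h => by rw [h] at r3; exact absurd r3 (by decide)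
    have h3 := le_bnd hN a0 h5 (hS _ le_rfl)
    obtain ⟨s, hs⟩ := List.exists_mem_of_ne_nil _ h5
    obtain ⟨s1, s2, s3⟩ := hS _ le_rfl s hs
    unfold loopQ loopR at r4
    generalize bnd (SS D.l (jj t n) a) a = B at r4 h3
    generalize max 6 (rootAux B (n - 2) (Nat.log2 B / (n - 2) + 1) 0 + 1) = Q at r4
    simp only [Bool.and_eq_true, List.all_eq_true, Nat.ble_eq, Nat.blt_eq, List.mem_range, Bool.or_eq_true,
      bne_iff_ne] at r4
    obtain ⟨⟨f1, f2⟩, f3⟩ := r4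
    by_cases hF : p ^ f < Q
    · rcases f3 _ hF with (h | h) | h
      · exact absurd h (not_le.2 (Nat.one_lt_pow hf.ne' hp.one_lt))
      · exact h (Nat.Coprime.pow_left _ ((Nat.Prime.coprime_iff_not_dvd hp).2 hpn))
      · rw [test_false c hal hU hv hN hd ha hkn (dvd_zero o) s1 s2 s3 h3] at h
        exact absurd h (by decide)
    · have h4 : Q ≤ p ^ f := not_lt.1 hF
      exact absurd (((Nat.pow_le_pow_left h4 _).trans (pow_le_lmin hv (f1.trans h4))).trans h3) (not_le.2 f2)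

end

end Cfsg.Agent.TH.Sim.SpR
end

-- part: TH/Sim/SporGrp
section
/-!
# S3541, box `BoxSimSpor` (helper67): from the groups to the numbers

`Deg X r m z` : a lower bound for the degrees of the projective representations; `Row X` : no example with `N ≅ X`;
`row_of` : the row from the checker.
-/

set_option autoImplicit false

namespace Cfsg.Agent.TH.Sim.SpR

open Cfsg.Agent.TH.Sv Cfsg.Agent.H940.Eng Cfsg.Agent.OrdDiv Cfsg.Agent.H912.Bd Cfsg.Agent.H921.Spor
open scoped commutatorElement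

/-- the degree is at least `m` if `p ≠ r`, unless `r` divides `z` and the order of the kernel -/
structure Deg (X : Type) [Group X] (r m z : ℕ) : Prop where
  prime : r.Prime
  bd : ∀ (F : Type) [Field F], (r : F) ≠ 0 → ∀ (n : ℕ) (L : Type) [Group L] [Finite L] (ψ : L →* X)
    (ρ : L →* GL (Fin n) F), IsStemExtension ψ → commutator L = ⊤ → Function.Injective ρ →
      m ≤ n ∨ (r ∣ Nat.card ψ.ker ∧ r ∣ z)

section deg

variable {X : Type} [Group X] {r m z : ℕ}

theorem Deg.of_bd (hr : r.Prime) (h : ∀ (F : Type) [Field F], (r : F) ≠ 0 → Bd F r m X) : Deg X r m 0 :=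
  ⟨hr, fun F _ hF n L _ _ ψ ρ h1 _ h3 => by
    by_cases hd : r ∣ Nat.card ψ.ker
    · exact Or.inr ⟨hd, dvd_zero _⟩
    · refine Or.inl (h F hF n ⟨L, inferInstance, ψ, ρ, h1.1, fun x hx y => (Subgroup.mem_center_iff.1 (h1.2.1 hx) y).symm,
        ((Nat.Prime.coprime_iff_not_dvd hr).2 hd).symm, ?_⟩)
      rw [(MonoidHom.ker_eq_bot_iff ρ).2 h3]
      exact bot_le⟩

theorem Deg.of_orb (hr : isPrimeB r = true) (h : Orb r m X) : Deg X r m 0 :=
  Deg.of_bd (prime_of hr) fun _ _ hF => h.bd (prime_of hr) hF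

theorem Deg.of_conf (hr : isPrimeB r = true) (h : Conf r m X) : Deg X r m 0 :=
  Deg.of_bd (prime_of hr) fun _ _ hF => h.bd (prime_of hr) hF

theorem Deg.of_ls (hna : ¬ ∀ a b : X, a * b = b * a) (hr : isPrimeB r = true) (h : H203.LS.LS.{0, 0, 0} r m X) :
    Deg X r m 1 :=
  ⟨prime_of hr, fun F _ hF n L _ _ ψ ρ h1 h2 h3 => Or.inl (h L ψ h1.1 h1.2.1 h2 F hF n ρ fun e => hna fun a b => by
    obtain ⟨a, rfl⟩ := h1.1 a
    rw [h3 (show ρ a = ρ 1 by rw [e]; rfl), map_one, one_mul, mul_one])⟩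

theorem Deg.schur (h : Deg X r m 0) (hz : HasCyclicSchurMultiplier X z) : Deg X r m z :=
  ⟨h.prime, fun F _ hF n L _ _ ψ ρ h1 h2 h3 => (h.bd F hF n L ψ ρ h1 h2 h3).imp_right fun h4 => ⟨h4.1, by
    obtain ⟨f, hf⟩ := hz.2 L ψ h1
    have := Subgroup.card_dvd_of_surjective f hf
    rw [Nat.card_congr Multiplicative.toAdd, Nat.card_zmod] at this
    exact h4.1.trans this⟩⟩

theorem Deg.le (h : Deg X r m z) (hX : commutator X = ⊤) {T : Type} [Group T] {p k n : ℕ} (hp : p.Prime)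
    (hT : ProjRep p k n T) (f : X →* T) (hf : Function.Injective f) : r = p ∨ m ≤ n ∨ (r ∣ n ∧ r ∣ z) := by
  obtain ⟨F, _, _, _, S, π, -, h1, h2⟩ := hT
  by_contra hc
  push Not at hc
  obtain ⟨c1, c2, c3⟩ := hc
  have hr := h.prime
  have hF : (r : F) ≠ 0 := fun e =>
    c1 ((Nat.prime_dvd_prime_iff_eq hp hr).1 ((CharP.cast_eq_zero_iff F p r).1 e)).symm
  let K : Subgroup S := f.range.comap π
  let φ : K →* X := (MonoidHom.ofInjective hf).symm.toMonoidHom.comp ((π.comp K.subtype).codRestrict f.range fun x => x.2)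
  have e1 : ∀ x : K, f (φ x) = π x := fun x => MonoidHom.apply_ofInjective_symm hf _
  have e2 : Function.Surjective φ := fun y => by
    obtain ⟨x, hx⟩ := h1 (f y)
    exact ⟨⟨x, ⟨y, hx.symm⟩⟩, hf ((e1 _).trans hx)⟩
  have e3 : ∀ x : K, φ x = 1 → ((x : S) : GL (Fin n) F) ∈ Cfsg.Geo.scalars (Fin n) F := fun x hx =>
    (h2 x).1 (by rw [← e1, hx, map_one])
  have e4 : ∀ x : K, φ x = 1 → ∀ y : K, x * y = y * x := fun x hx y =>
    Subtype.ext (Subtype.ext (scalars_comm (e3 x hx)))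
  let L : Subgroup K := commutator K
  let ψ : L →* X := φ.comp L.subtype
  have e5 : Function.Surjective ψ := fun y => by
    have h3 : L.map φ = ⊤ := by
      rw [show L = commutator K from rfl, map_commutator_eq, MonoidHom.range_eq_top.2 e2]
      exact hX
    obtain ⟨x, hx, rfl⟩ : y ∈ L.map φ := h3 ▸ Subgroup.mem_top y
    exact ⟨⟨x, hx⟩, rfl⟩
  have e6 : ∀ x : L, ψ x = 1 → ∀ y : L, x * y = y * x := fun x hx y => Subtype.ext (e4 x hx y)
  have e7 : commutator L = ⊤ := by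
    have h3 : L ≤ (commutator L).map L.subtype := by
      refine Subgroup.commutator_le.2 fun a _ b _ => ?_
      obtain ⟨a', ha⟩ := e5 (φ a)
      obtain ⟨b', hb⟩ := e5 (φ b)
      have h4 := e4 ((a' : K)⁻¹ * a) (by rw [map_mul, map_inv, ← ha]; exact inv_mul_cancel _)
      have h5 := e4 ((b' : K)⁻¹ * b) (by rw [map_mul, map_inv, ← hb]; exact inv_mul_cancel _)
      refine ⟨⁅a', b'⁆, Subgroup.commutator_mem_commutator (Subgroup.mem_top _) (Subgroup.mem_top _), ?_⟩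
      change (a' : K) * b' * (a' : K)⁻¹ * (b' : K)⁻¹ = a * b * a⁻¹ * b⁻¹
      have h6 : a = a' * ((a' : K)⁻¹ * a) := by group
      have h7 : b = b' * ((b' : K)⁻¹ * b) := by group
      generalize (a' : K)⁻¹ * a = u at h4 h6
      generalize (b' : K)⁻¹ * b = v at h5 h7
      rw [h6, h7]
      calc (a' : K) * b' * (a' : K)⁻¹ * (b' : K)⁻¹ = a' * (b' * u) * u⁻¹ * ((a' : K)⁻¹ * v) * v⁻¹ * (b' : K)⁻¹ := by group
        _ = a' * (u * b') * u⁻¹ * (v * (a' : K)⁻¹) * v⁻¹ * (b' : K)⁻¹ := by rw [h4, h5]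
        _ = a' * (u * b') * (u⁻¹ * v) * (a' : K)⁻¹ * v⁻¹ * (b' : K)⁻¹ := by group
        _ = a' * (u * b') * (v * u⁻¹) * (a' : K)⁻¹ * v⁻¹ * (b' : K)⁻¹ := by rw [h5]
        _ = _ := by group
    rw [eq_top_iff]
    intro x _
    obtain ⟨y, hy, h4⟩ := h3 x.2
    rwa [← (Subtype.ext h4 : y = x)]
  let ρ : L →* GL (Fin n) F := S.subtype.comp (K.subtype.comp L.subtype)
  have e8 : Function.Injective ρ := fun a b hab => Subtype.ext (Subtype.ext (Subtype.ext hab))
  rcases h.bd F hF n L ψ ρ ⟨e5, fun x hx => Subgroup.mem_center_iff.2 fun y => (e6 x hx y).symm, e7 ▸ le_top⟩ e7 e8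
    with h3 | ⟨hd, h3⟩
  · exact absurd h3 (not_le.2 c2)
  · refine c3 ?_ h3
    have : Fact r.Prime := ⟨hr⟩
    obtain ⟨x, hx⟩ := exists_prime_orderOf_dvd_card' r hd
    rw [← hx]
    apply orderOf_dvd_of_pow_eq_one
    obtain ⟨c, hc⟩ := (Cfsg.Geo.mem_scalars_iff _).1 (e3 (x : L) x.2)
    have h4 : Matrix.GeneralLinearGroup.det (ρ (x : L)) = 1 :=
      Abelianization.commutator_subset_ker ((Matrix.GeneralLinearGroup.det : GL (Fin n) F →* Fˣ).comp ρ)
        (e7 ▸ Subgroup.mem_top _)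
    have h5 : ((ρ (x : L) : GL (Fin n) F) : Matrix (Fin n) (Fin n) F).det = 1 := congrArg Units.val h4
    have hc' : ((ρ (x : L) : GL (Fin n) F) : Matrix (Fin n) (Fin n) F) = (c : F) • 1 := hc
    rw [hc', Matrix.det_smul, Matrix.det_one, mul_one, Fintype.card_fin] at h5
    refine Subtype.ext (e8 (Units.ext ?_))
    simp only [SubgroupClass.coe_pow, map_pow, Units.val_pow_eq_pow_val, hc', smul_pow, one_pow, h5, one_smul]
    rfl

/-- the test for the Frobenius group `r : m` -/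
def frob (l : List (ℕ × ℕ)) (n : ℕ) (ld : LD) (m : ℕ) : Bool :=
  isPrimeB ld.r && n % ld.r == 0 && n % ld.r ^ 2 != 0 && (l.all fun x => isPrimeB x.1) &&
    prodl (l.map fun x => (x.1, val x.1 x.2 ld.C)) == ld.C &&
      cnP n ld.r (l.map fun x => (x.1, val x.1 x.2 ld.C)) fun c y => ld.N % y != 0 || Nat.ble (m * c) y

theorem Deg.of_loc {l : List (ℕ × ℕ)} {n : ℕ} {ords : List ℕ} {loc : List LD} (c : Ctx X l n ords loc)
    (hna : ¬ ∀ a b : X, a * b = b * a) {ld : LD} (hl : ld ∈ loc) (h : frob l n ld m = true) : Deg X ld.r m 0 := by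
  classical
  have := c.fin
  have := c.simple
  unfold frob at h
  simp only [Bool.and_eq_true, beq_iff_eq] at h
  obtain ⟨⟨⟨⟨⟨h1, h2⟩, h3⟩, h4⟩, h5⟩, h6⟩ := h
  have hr := prime_of h1
  have : Fact ld.r.Prime := ⟨hr⟩
  obtain ⟨R, hR⟩ := exists_card_eq (G := X) h1 (c.card ▸ Nat.dvd_of_mod_eq_zero h2)
  obtain ⟨l1, l2⟩ := (c.loc ld hl).2.2.2 R hR
  have h7 := cnP_sound hna c.card h1 h3 (by rw [List.all_map]; exact h4) hR (h5.symm ▸ l1) h6 hR
  rw [Nat.mod_eq_zero_of_dvd l2] at h7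
  simp only [bne_self_eq_false, Bool.false_or, Nat.ble_eq] at h7
  refine Deg.of_bd hr fun F _ hF => ?_
  set N := Subgroup.normalizer (R : Set X)
  set C := Subgroup.centralizer (R : Set X)
  have hcyc : IsCyclic R := isCyclic_of_prime_card hR
  have hinj : Function.Injective fun y : N ⧸ C.subgroupOf N => ((y.out : N) : X) := fun a b hab =>
    Quotient.out_injective (Subtype.ext hab)
  have := Fintype.ofFinite (N ⧸ C.subgroupOf N)
  refine (bd_of_free hr hF R (fun a ha b hb => ?_) (IsPGroup.of_card (n := 1) (by rw [hR, pow_one])) (fun e => ?_)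
    (Finset.univ.image fun y : N ⧸ C.subgroupOf N => ((y.out : N) : X)) ?_ ?_).mono ?_
  · exact congrArg Subtype.val (hcyc.commGroup.mul_comm (⟨a, ha⟩ : R) ⟨b, hb⟩)
  · rw [e, Subgroup.card_bot] at hR
    exact hr.one_lt.ne hR
  · intro s hs e he
    obtain ⟨y, -, rfl⟩ := Finset.mem_image.1 hs
    exact (Subgroup.mem_normalizer_iff.1 y.out.2 e).1 he
  · intro s hs t ht hst e he h8
    obtain ⟨y, -, rfl⟩ := Finset.mem_image.1 hs
    obtain ⟨y', -, rfl⟩ := Finset.mem_image.1 ht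
    by_contra h9
    refine hst (congrArg (fun w : N ⧸ C.subgroupOf N => ((w.out : N) : X)) ?_)
    rw [← Quotient.out_eq y, ← Quotient.out_eq y']
    refine QuotientGroup.eq.2 (Subgroup.mem_subgroupOf.2 fun u hu => ?_)
    have h10 : (⟨u, hu⟩ : R) ∈ Subgroup.zpowers (⟨e, he⟩ : R) :=
      mem_zpowers_of_prime_card hR fun h => h9 (congrArg Subtype.val h)
    obtain ⟨i, hi⟩ := h10
    have h11 : e ^ i = u := congrArg Subtype.val hi
    have h12 : Commute e (((y.out : N) : X)⁻¹ * (y'.out : N)) := by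
      change e * _ = _ * e
      calc e * (((y.out : N) : X)⁻¹ * (y'.out : N))
          = ((y.out : N) : X)⁻¹ * ((y.out : N) * e * ((y.out : N) : X)⁻¹) * (y'.out : N) := by group
        _ = _ := by rw [h8]; group
    rw [← h11]
    exact (h12.zpow_left i).eq
  · rw [Finset.card_image_of_injective _ hinj, Finset.card_univ, ← Nat.card_eq_fintype_card]
    have h8 := (C.subgroupOf N).card_mul_index
    rw [Nat.card_congr (Subgroup.subgroupOfEquivOfLe (Subgroup.centralizer_le_normalizer (R : Set X))).toEquiv] at h8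
    rw [← h8, mul_comm] at h7
    exact Nat.le_of_mul_le_mul_left h7 Nat.card_pos

end deg

/-- no example with `N ≅ X` -/
def Row (X : Type) [Group X] : Prop :=
  ∀ (G : Type) [Group G] [Finite G] (T H N : Subgroup G) (m p : ℕ), LieCtx T H m p → Sim T H N → IsCl p ↥T →
    (N ≃* X) → False

section

variable {G : Type} [Group G] [Finite G] {T H N : Subgroup G} {m c : ℕ}

omit [Finite G] in
theorem le_cent (hT : AS T) (hc : ∀ M : Subgroup T, M ≠ ⊤ → c ≤ M.index) {x : G} (hx : x ≠ 1) :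
    c ≤ (Subgroup.centralizer {x}).relIndex T := by
  refine hc _ fun h => hx ?_
  rw [← Subgroup.mem_bot, ← hT.cent]
  intro t ht
  have h1 : (⟨t, ht⟩ : T) ∈ (Subgroup.centralizer {x}).subgroupOf T := h ▸ Subgroup.mem_top _
  exact (h1 x rfl).symm

theorem le_norm (hT : AS T) (hc : ∀ M : Subgroup T, M ≠ ⊤ → c ≤ M.index) {s : ℕ} (hs : s.Prime) {P : Subgroup G}
    (h0 : P ≠ ⊥) (hP : IsPGroup s P) : c ≤ (Subgroup.normalizer (P : Set G)).relIndex T := by
  refine hc _ fun h => h0 ?_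
  have := hT.simple
  have := hT.normal
  have : Fact s.Prime := ⟨hs⟩
  have h1 : ∀ t ∈ T, ∀ x ∈ P, t * x * t⁻¹ ∈ P := fun t ht x hx =>
    (Subgroup.mem_normalizer_iff.1 (show (⟨t, ht⟩ : T) ∈ (Subgroup.normalizer (P : Set G)).subgroupOf T from
      h ▸ Subgroup.mem_top _) x).1 hx
  have h2 : (P.subgroupOf T).Normal := ⟨fun x hx t => h1 t t.2 x hx⟩
  rcases h2.eq_bot_or_eq_top with h3 | h3
  · rw [eq_bot_iff, ← hT.cent]
    intro x hx t ht
    have h4 : t * (x * t⁻¹ * x⁻¹) ∈ T := mul_mem ht (hT.normal.conj_mem _ (inv_mem ht) x)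
    have h5 : (⟨_, h4⟩ : T) ∈ P.subgroupOf T := by
      change t * (x * t⁻¹ * x⁻¹) ∈ P
      rw [← mul_assoc, ← mul_assoc]
      exact mul_mem (h1 t ht x hx) (inv_mem hx)
    rw [h3, Subgroup.mem_bot] at h5
    have h6 : t * (x * t⁻¹ * x⁻¹) = 1 := congrArg Subtype.val h5
    calc t * x = t * (x * t⁻¹ * x⁻¹) * (x * t) := by group
      _ = x * t := by rw [h6, one_mul]
  · have h4 : IsPGroup s T := hP.of_injective (Subgroup.inclusion (Subgroup.subgroupOf_eq_top.1 h3))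
      (Subgroup.inclusion_injective _)
    have := h4.isNilpotent
    exact absurd ⟨⟨(IsSimpleGroup.comm_iff_isSolvable (G := T)).2 inferInstance⟩⟩ hT.nonab

theorem card_inf (hS : Sim T H N) {o : ℕ} (ho : Nat.card (Out N) ∣ o) :
    ∃ k, k ∣ o ∧ Nat.card ↥(H ⊓ T) = k * Nat.card N := by
  have h1 : H ⊓ T ≤ Subgroup.normalizer (N : Set G) := le_normalizer_of_conj fun a ha => hS.nrm a ha.1
  have h2 : Function.Injective (N.normalizerMonoidHom.comp (Subgroup.inclusion h1)) := by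
    rw [injective_iff_map_eq_one]
    intro a ha
    refine Subtype.ext (hS.cent a a.2.2 fun x hx => ?_)
    have h3 := congrArg Subtype.val (MulEquiv.congr_fun ha ⟨x, hx⟩)
    exact mul_inv_eq_iff_eq_mul.1 h3
  have h3 := Subgroup.card_dvd_of_injective _ h2
  rw [Subgroup.card_eq_card_quotient_mul_card_subgroup (Inn N)] at h3
  have h4 : Nat.card (Inn N) ∣ Nat.card N := Subgroup.card_range_dvd _
  obtain ⟨k, hk⟩ := Subgroup.card_dvd_of_le hS.le
  refine ⟨k, Nat.dvd_of_mul_dvd_mul_left (Nat.card_pos (α := N)) ?_, by rw [hk, mul_comm]⟩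
  rw [← hk, mul_comm]
  exact h3.trans (mul_dvd_mul ho h4)

end

/-- **the row from the checker** -/
theorem row_of (hC : BoxClDat) (hN : BoxNec) {X : Type} [Group X] (D : Dat) (c : Ctx X D.l D.n D.ords D.loc)
    (hal : ∀ U : Subgroup X, U.index ∉ D.allow) {o : ℕ} (ho : Nat.card (Out X) ∣ o) (hk : ∀ k, k ∣ o → k ∈ D.ks)
    (hdeg : (¬ ∀ a b : X, a * b = b * a) → ∀ x ∈ D.degs, Deg X x.1 x.2.1 x.2.2) (hm : main D = true) : Row X := by
  intro G _ _ T H N m p hL hS hP e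
  obtain ⟨t, n, f, d⟩ := hC G T H m p hL hP
  have := c.simple
  have hna : ¬ ∀ a b : X, a * b = b * a := fun h => hS.nonab ⟨⟨fun a b => e.injective (by rw [map_mul, map_mul, h])⟩⟩
  have hX : commutator X = ⊤ := (inferInstance : (commutator X).Normal).eq_bot_or_eq_top.resolve_left fun h =>
    hna fun a b => commutatorElement_eq_one_iff_mul_comm.1 (Subgroup.mem_bot.1
      (h ▸ Subgroup.commutator_mem_commutator (Subgroup.mem_top a) (Subgroup.mem_top b)))
  have h1 := hN G T H m _ _ (fun _ => lminCl t n (p ^ f)) hL.as hL.half (fun x _ hx => le_cent hL.as d.lmin hx)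
    (fun x _ hx => le_cent hL.as d.lmin hx) fun s hs P _ h0 hP => le_norm hL.as d.lmin hs h0 hP
  rw [d.card] at h1
  have hNH : N ≤ H := hS.le.trans inf_le_left
  obtain ⟨g, -, hg⟩ := hL.half.exists_not_le (N := N) (fun h => by
    have := hS.simple.toNontrivial
    exact (Subgroup.nontrivial_iff_ne_bot N).1 this h) hNH
  have h2 := hL.half.relIndex_dvd_d₂ hNH hS.nrm le_rfl (fun a ha => hS.nrm a (hNH ha)) g
  obtain ⟨k, k1, k2⟩ := card_inf hS (o := o) (by
    rwa [Nat.card_congr (QuotientGroup.congr (Inn N) (Inn X) (MulAut.congr e) (by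
      ext φ
      constructor
      · rintro ⟨_, ⟨a, rfl⟩, rfl⟩
        exact ⟨e a, by ext x; simp only [_root_.MulAut.conj_apply, _root_.MonoidHom.coe_coe, _root_.MulAut.congr_apply, _root_.MulEquiv.trans_apply, _root_.map_mul, _root_.MulEquiv.apply_symm_apply, _root_.map_inv]⟩
      · rintro ⟨a, rfl⟩
        exact ⟨MulAut.conj (e.symm a), ⟨_, rfl⟩, by ext x; simp only [_root_.MonoidHom.coe_coe, _root_.MulAut.congr_apply, _root_.MulEquiv.trans_apply, _root_.MulAut.conj_apply, _root_.map_mul, _root_.MulEquiv.apply_symm_apply, _root_.map_inv]⟩)).toEquiv])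
  rw [Nat.card_congr e.toEquiv, c.card] at k2
  have h3 : (((cj g H).subgroupOf N).map e.toMonoidHom).index = (cj g H).relIndex N :=
    Subgroup.index_map_of_bijective e.bijective _
  refine no_cfg c hal hm (U := ((cj g H).subgroupOf N).map e.toMonoidHom) (fun h => hg ?_) hL.prime d.pos d.valid h1
    (h3 ▸ h2) (hk k k1) k2 d.out ?_ ?_
  · rw [← Subgroup.relIndex_eq_one, ← h3, h, Subgroup.index_top]
  · rw [← d.card, ← hL.as.card_inf_mul hL.half, Nat.mul_div_cancel_left _ Nat.card_pos]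
    exact hL.dvd_index
  · unfold degOK
    simp only [List.all_eq_true, Bool.or_eq_true, beq_iff_eq, Nat.ble_eq, Bool.and_eq_true]
    intro x hx
    rcases (hdeg hna x hx).le hX hL.prime d.rep ((Subgroup.inclusion (hS.le.trans inf_le_right)).comp e.symm.toMonoidHom)
      ((Subgroup.inclusion_injective (hS.le.trans inf_le_right)).comp e.symm.injective) with h | h | h
    · exact Or.inl (Or.inl h)
    · exact Or.inl (Or.inr h)
    · exact Or.inr ⟨Nat.mod_eq_zero_of_dvd h.1, Nat.mod_eq_zero_of_dvd h.2⟩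

/-- the data from the local data `loc`, the degrees `ms` of the Frobenius groups and the other bounds `ex` -/
def mkD (l : List (ℕ × ℕ)) (n : ℕ) (ords : List ℕ) (loc : List LD) (allow : List ℕ) (o : ℕ) (ms : List ℕ)
    (ex : List (ℕ × ℕ × ℕ)) (jk : ℕ) : Dat :=
  ⟨l, n, ords, loc, allow, (List.range (o + 1)).filter fun k => o % k == 0,
    ((loc.zip ms).map fun x => (x.1.r, x.2, 0)) ++ ex, jk⟩

def full (l : List (ℕ × ℕ)) (n : ℕ) (ords : List ℕ) (loc : List LD) (allow : List ℕ) (o : ℕ) (ms : List ℕ)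
    (ex : List (ℕ × ℕ × ℕ)) (jk : ℕ) : Bool :=
  Nat.blt 0 o && ((loc.zip ms).all fun x => frob l n x.1 x.2) && main (mkD l n ords loc allow o ms ex jk)

theorem row_full (hC : BoxClDat) (hN : BoxNec) {X : Type} [Group X] {l : List (ℕ × ℕ)} {n : ℕ} {ords : List ℕ}
    {loc : List LD} (c : Ctx X l n ords loc) {allow : List ℕ} (hal : ∀ U : Subgroup X, U.index ∉ allow) {o : ℕ}
    (ho : Nat.card (Out X) ∣ o) {ms : List ℕ} {ex : List (ℕ × ℕ × ℕ)} {jk : ℕ}
    (hex : (¬ ∀ a b : X, a * b = b * a) → ∀ x ∈ ex, Deg X x.1 x.2.1 x.2.2)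
    (hm : full l n ords loc allow o ms ex jk = true) : Row X := by
  unfold full at hm
  simp only [Bool.and_eq_true, Nat.blt_eq, List.all_eq_true] at hm
  obtain ⟨⟨h0, h1⟩, h2⟩ := hm
  refine row_of hC hN (mkD l n ords loc allow o ms ex jk) c hal ho (fun k hk => ?_)
    (fun hna x hx => ?_) h2
  · exact List.mem_filter.2 ⟨List.mem_range.2 (Nat.lt_succ_of_le (Nat.le_of_dvd h0 hk)),
      beq_iff_eq.2 (Nat.mod_eq_zero_of_dvd hk)⟩
  · rcases List.mem_append.1 hx with h | h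
    · obtain ⟨y, hy, rfl⟩ := List.mem_map.1 h
      exact Deg.of_loc c hna (List.of_mem_zip hy).1 (h1 y hy)
    · exact hex hna x h

/-! ### the same test, the shared values being evaluated once by the kernel -/

namespace F19

/-- `k x`, the number being evaluated first -/
noncomputable def fN (x : ℕ) (k : ℕ → Bool) : Bool :=
  Nat.rec (motive := fun _ => Bool) false (fun y _ => k y) (Nat.succ x)

/-- `k l`, the list being evaluated first -/
noncomputable def fL (l : List ℕ) : (List ℕ → Bool) → Bool :=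
  List.rec (motive := fun _ => (List ℕ → Bool) → Bool) (fun k => k [])
    (fun a _ ih k => fN a fun b => ih fun t => k (b :: t)) l

theorem fL_eq : ∀ (l : List ℕ) (k : List ℕ → Bool), fL l k = k l
  | [], _ => rfl
  | a :: l, k => fL_eq l fun t => k (a :: t)

noncomputable def orB (a b : Bool) : Bool := Bool.rec b true a

noncomputable def andB (a b : Bool) : Bool := Bool.rec false b a

theorem orB_iff : ∀ {a b : Bool}, orB a b = true → a = true ∨ b = true
  | false, _, h => Or.inr h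
  | true, _, _ => Or.inl rfl

theorem andB_iff : ∀ {a b : Bool}, andB a b = true → a = true ∧ b = true
  | false, _, h => absurd h Bool.false_ne_true
  | true, _, h => ⟨rfl, h⟩

noncomputable def allR (P : ℕ → Bool) (k : ℕ) : Bool :=
  Nat.rec (motive := fun _ => Bool) true (fun a r => Bool.rec false r (P a)) k

theorem allR_spec {P : ℕ → Bool} : ∀ k, allR P k = true → ∀ a < k, P a = true
  | 0, _, _, h => absurd h (Nat.not_lt_zero _)
  | k + 1, h, a, ha => by
    obtain ⟨h1, h2⟩ := andB_iff (a := P k) (b := allR P k) h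
    rcases Nat.lt_succ_iff_lt_or_eq.1 ha with h3 | rfl
    · exact allR_spec k h2 a h3
    · exact h1

theorem allR_all {P Q : ℕ → Bool} {k : ℕ} (h : allR P k = true) (hQ : ∀ a, P a = true → Q a = true) :
    (List.range k).all Q = true :=
  List.all_eq_true.2 fun a ha => hQ a (allR_spec k h a (List.mem_range.1 ha))

noncomputable def testF (D : Dat) (a t n q B o : ℕ) : Bool :=
  orB (andB (Nat.ble 6 q) (Nat.blt B (Nat.pow q (Nat.sub n 2))))
    (!validCl t n q || Nat.blt B (lminCl t n q) || ordCl t n q % a != 0 ||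
      fN (Nat.gcd D.n (ordCl t n q / a - 1)) (kill D) || linT D a o (ordCl t n q / a - 1))

theorem test_of {D : Dat} {a t n q B o : ℕ} (h : testF D a t n q B o = true) : test D a t n q B o = true := by
  rcases orB_iff h with h | h
  · obtain ⟨h1, h2⟩ := andB_iff h
    unfold test
    cases hv : validCl t n q
    · rfl
    · rw [Nat.blt_eq.mpr ((Nat.blt_eq.mp h2).trans_le (pow_le_lmin hv (Nat.le_of_ble_eq_true h1)))]
      rfl
  · exact h

noncomputable def loopPF (D : Dat) (a t n p B : ℕ) : Bool :=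
  fN (Nat.log2 B / ((n - 2) * Nat.log2 p) + 3) fun F => fN (Nat.pow p F) fun y =>
    andB (andB (Nat.ble 6 y) (Nat.blt B (Nat.pow y (Nat.sub n 2))))
      (allR (fun f => orB (Nat.beq f 0) (fN (Nat.pow p f) fun q => testF D a t n q B (outCl t n p f))) F)

theorem loopP_of {D : Dat} {a t n p B : ℕ} (h : loopPF D a t n p B = true) : loopP D a t n p B = true := by
  obtain ⟨h1, h2⟩ := andB_iff h
  obtain ⟨h3, h4⟩ := andB_iff h1
  exact Bool.and_eq_true_iff.2 ⟨Bool.and_eq_true_iff.2 ⟨h3, h4⟩, allR_all h2 fun f hf => Bool.or_eq_true_iff.2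
    ((orB_iff hf).imp (fun h5 => beq_iff_eq.2 (Nat.eq_of_beq_eq_true h5)) test_of)⟩

noncomputable def loopQF (D : Dat) (a t n B : ℕ) : Bool :=
  fN (max 6 (rootAux B (n - 2) (Nat.log2 B / (n - 2) + 1) 0 + 1)) fun Q =>
    andB (andB (Nat.ble 6 Q) (Nat.blt B (Nat.pow Q (Nat.sub n 2))))
      (allR (fun q => orB (Nat.ble q 1 || Nat.gcd q D.n != 1) (testF D a t n q B 0)) Q)

theorem loopQ_of {D : Dat} {a t n B : ℕ} (h : loopQF D a t n B = true) : loopQ D a t n B = true := by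
  obtain ⟨h1, h2⟩ := andB_iff h
  obtain ⟨h3, h4⟩ := andB_iff h1
  exact Bool.and_eq_true_iff.2 ⟨Bool.and_eq_true_iff.2 ⟨h3, h4⟩, allR_all h2 fun f hf => Bool.or_eq_true_iff.2
    ((orB_iff hf).imp_right test_of)⟩

noncomputable def rowF (D : Dat) (a t n : ℕ) : Bool :=
  orB (!validCl t n 7) (fN (jj t n) fun j => orB (Nat.ble D.jk j) (fL (SS D.l j a) fun S =>
    andB (D.l.all fun x => !degOK D.degs x.1 n || fN x.1 fun p => fN (bnd (p :: S) a) (loopPF D a t n p))
      (!degOK D.degs 1 n || (!S.isEmpty && fN (bnd S a) (loopQF D a t n)))))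

theorem row_of {D : Dat} {a t n : ℕ} (h : rowF D a t n = true) : row D a t n = true := by
  refine Bool.or_eq_true_iff.2 ?_
  rcases orB_iff h with h | h
  · exact Or.inl (Bool.or_eq_true_iff.2 (Or.inl h))
  rcases orB_iff (a := Nat.ble D.jk (jj t n)) h with h | h
  · exact Or.inl (Bool.or_eq_true_iff.2 (Or.inr h))
  obtain ⟨h1, h2⟩ := andB_iff ((fL_eq _ _).symm.trans h)
  exact Or.inr (Bool.and_eq_true_iff.2 ⟨List.all_eq_true.2 fun x hx => Bool.or_eq_true_iff.2
    ((Bool.or_eq_true_iff.1 (List.all_eq_true.1 h1 x hx)).imp_right loopP_of), Bool.or_eq_true_iff.2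
    ((Bool.or_eq_true_iff.1 h2).imp_right fun h3 => Bool.and_eq_true_iff.2
      ((Bool.and_eq_true_iff.1 h3).imp_right loopQ_of))⟩)

noncomputable def mainF (D : Dat) : Bool :=
  (D.l.all fun x => D.n % x.1 == 0) && (D.degs.all fun x => D.n % x.1 == 0) && D.ks.all fun k => fN (k * D.n) fun a =>
    D.n % k == 0 && fN (strip (SS D.l D.jk a) D.n) (kill D) && allR (fun t => allR (rowF D a t) (2 * D.jk + 2)) 6

theorem main_of {D : Dat} (h : mainF D = true) : main D = true :=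
  Bool.and_eq_true_iff.2 ((Bool.and_eq_true_iff.1 h).imp_right fun h1 => List.all_eq_true.2 fun k hk =>
    Bool.and_eq_true_iff.2 ((Bool.and_eq_true_iff.1 (List.all_eq_true.1 h1 k hk)).imp_right fun h2 =>
      allR_all h2 fun _ ht => allR_all ht fun _ => row_of))

end F19

noncomputable def fullF (l : List (ℕ × ℕ)) (n : ℕ) (ords : List ℕ) (loc : List LD) (allow : List ℕ) (o : ℕ) (ms : List ℕ)
    (ex : List (ℕ × ℕ × ℕ)) (jk : ℕ) : Bool :=
  Nat.blt 0 o && ((loc.zip ms).all fun x => frob l n x.1 x.2) && F19.mainF (mkD l n ords loc allow o ms ex jk)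

theorem full_fast {l : List (ℕ × ℕ)} {n : ℕ} {ords : List ℕ} {loc : List LD} {allow : List ℕ} {o : ℕ} {ms : List ℕ}
    {ex : List (ℕ × ℕ × ℕ)} {jk : ℕ} (h : fullF l n ords loc allow o ms ex jk = true) :
    full l n ords loc allow o ms ex jk = true :=
  Bool.and_eq_true_iff.2 ((Bool.and_eq_true_iff.1 h).imp_right F19.main_of)

theorem nil_allow {X : Type} [Group X] (U : Subgroup X) : U.index ∉ ([] : List ℕ) := List.not_mem_nil

theorem nil_deg {X : Type} [Group X] (_ : ¬ ∀ a b : X, a * b = b * a) :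
    ∀ x ∈ ([] : List (ℕ × ℕ × ℕ)), Deg X x.1 x.2.1 x.2.2 := fun _ h => absurd h List.not_mem_nil

theorem one_deg {X : Type} [Group X] {r m z : ℕ} (h : (¬ ∀ a b : X, a * b = b * a) → Deg X r m z)
    (hna : ¬ ∀ a b : X, a * b = b * a) : ∀ x ∈ [(r, m, z)], Deg X x.1 x.2.1 x.2.2 := fun _ hx =>
  List.mem_singleton.1 hx ▸ h hna

end Cfsg.Agent.TH.Sim.SpR
end

private theorem dce_f3bb36218801 : _root_.True := by
  try have : _root_.True := by simp only [_root_.Cfsg.Agent.TH.Sim.SpR.lbW.eq_def]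
  try have : _root_.True := by simp only [_root_.Cfsg.Agent.TH.Sim.SpR.rootAux.eq_def]
  exact _root_.True.intro
end

-- part: TH/Sim/SporDatC
section
set_option linter.all false

/-!
# S3541, box `BoxSimSpor` (helper67): the numerical checks, part C
-/

set_option autoImplicit false
set_option maxRecDepth 100000

namespace Cfsg.Agent.TH.Sim.SpR

open Cfsg.Agent.H940.Eng Cfsg.Agent.H940.Eng.D

def loc_ly : List LD := [⟨67, 67, [(2, 1), (11, 1), (67, 1)]⟩, ⟨37, 111, [(2, 1), (3, 2), (37, 1)]⟩, ⟨31, 31, [(2, 1), (3, 1), (31, 1)]⟩]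

theorem chk_ly : full l_ly n_ly o_ly loc_ly [] 1 [22, 6, 6] [] 30 = true :=
  full_fast (by decide +kernel)

def loc_fi22 : List LD := [⟨13, 13, [(2, 1), (3, 1), (13, 1)]⟩, ⟨11, 22, [(2, 1), (5, 1), (11, 1)]⟩, ⟨7, 42, [(2, 2), (3, 2), (7, 1)]⟩]

theorem chk_fi22 : full l_fi22 n_fi22 o_fi22 loc_fi22 [] 2 [6, 5, 6] [(2, 28, 1)] 10 = true :=
  full_fast (by decide +kernel)

def loc_fi23 : List LD := [⟨23, 23, [(11, 1), (23, 1)]⟩, ⟨17, 17, [(2, 4), (17, 1)]⟩, ⟨13, 78, [(2, 2), (3, 2), (13, 1)]⟩, ⟨11, 88, [(2, 3), (5, 1), (11, 1)]⟩]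

theorem chk_fi23 : full l_fi23 n_fi23 o_fi23 loc_fi23 [] 1 [11, 16, 6, 5] [] 10 = true :=
  full_fast (by decide +kernel)

def loc_fi24p : List LD := [⟨29, 29, [(2, 1), (7, 1), (29, 1)]⟩, ⟨23, 23, [(11, 1), (23, 1)]⟩, ⟨17, 34, [(2, 4), (17, 1)]⟩, ⟨11, 264, [(2, 3), (3, 1), (5, 1), (11, 1)]⟩, ⟨13, 2808, [(2, 3), (3, 3), (13, 1)]⟩]

theorem chk_fi24p : full l_fi24p n_fi24p o_fi24p loc_fi24p [] 2 [14, 11, 8, 5, 2] [(2, 28, 1)] 12 = true :=
  full_fast (by decide +kernel)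

def loc_hn : List LD := [⟨11, 22, [(2, 2), (5, 1), (11, 1)]⟩]

theorem chk_hn : full l_hn n_hn o_hn loc_hn [] 2 [10] [(5, 20, 1)] 12 = true :=
  full_fast (by decide +kernel)

def loc_th : List LD := [⟨13, 85293, [(2, 2), (3, 8), (13, 1)]⟩, ⟨19, 19, [(2, 1), (3, 2), (19, 1)]⟩, ⟨31, 67797, [(2, 1), (3, 7), (5, 1), (31, 1)]⟩]

theorem chk_th : full l_th n_th o_th loc_th [] 1 [4, 18, 5] [] 12 = true :=
  full_fast (by decide +kernel)

def loc_b : List LD := []

theorem chk_b : full l_b n_b o_b loc_b [] 1 [] [(2, 28, 1)] 46 = true :=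
  full_fast (by decide +kernel)

def loc_m : List LD := []

theorem chk_m : full l_m n_m o_m loc_m [71] 1 [] [(2, 4096, 1)] 70 = true :=
  full_fast (by decide +kernel)

def loc_tits : List LD := [⟨13, 13, [(2, 1), (3, 1), (13, 1)]⟩]

theorem chk_tits : full [(2, 11), (3, 3), (5, 2), (13, 1)] 17971200 [60, 360, 5616, 7800, 62400, 17971200] loc_tits [] 2 [6] [(5, 24, 0)] 6 = true :=
  full_fast (by decide +kernel)

end Cfsg.Agent.TH.Sim.SpR
end

-- part: TH/Cl/D4/Dat_mg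
section
prune_inst 0xb0103124042210000018001020001e42920000020008840004a0010204800c4020020020b1300411080008440034004811000000020000000a000000011c00800000840880080008000000000000000000000000000000000000000000000000000000000
set_option linter.all false
open scoped Cfsg.Agent.FastGrp

-- part: TH/Cl/D4/Mat
section
/-!
# S3541, `PΩ₈⁺(q)`: matrices (helper60)

Isometries of the split form in eight variables over a field with a primitive cube root of unity `ω`, and the grading of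
the matrices by the diagonal group `3⁴`.
-/

set_option autoImplicit false

namespace Cfsg.Agent.TH.Cl.D4

open Matrix

/-- the weights -/
abbrev I8 := Fin 4 ⊕ Fin 4

/-- the plane of a weight -/
def ix : I8 → Fin 4 := Sum.elim id id

/-- the group `3⁴` -/
abbrev W3 := Fin 4 → ZMod 3

/-- the value of a weight -/
def wt (a : I8) (c : W3) : ZMod 3 := Sum.elim (fun i => c i) (fun i => -c i) a

theorem wt_add (a : I8) (c d : W3) : wt a (c + d) = wt a c + wt a d := by
  rcases a with i | i <;> simp only [wt, add_comm, _root_.Pi.add_apply, _root_.neg_add_rev, _root_.Sum.elim_inl, _root_.Sum.elim_inr]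

theorem wt_neg (a : I8) (c : W3) : wt a (-c) = -wt a c := by
  rcases a with i | i <;> simp [wt]

theorem wt_zero (a : I8) : wt a 0 = 0 := by
  rcases a with i | i <;> simp [wt]

theorem wt_swap (a : I8) (c : W3) : wt a.swap c = -wt a c := by
  rcases a with i | i <;> simp [wt]

theorem ix_swap (a : I8) : ix a.swap = ix a := by
  rcases a with i | i <;> rfl

theorem swap_ne (a : I8) : a.swap ≠ a := by
  rcases a with i | i <;> simp

theorem eq_or_of_ix {a b : I8} (h : ix a = ix b) : a = b ∨ a = b.swap := by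
  revert a b
  decide

/-- the generators -/
def e3 (i : Fin 4) : W3 := Pi.single i 1

theorem eq_of_wt {a b : I8} (h : ∀ i, wt a (e3 i) = wt b (e3 i)) : a = b := by
  revert a b
  decide +kernel

theorem wt_e3_of_ne {a : I8} {i : Fin 4} (h : ix a ≠ i) : wt a (e3 i) = 0 := by
  revert a i
  decide

theorem wt_e3_cases {a b : I8} {i : Fin 4} (h : wt a (e3 i) = wt b (e3 i)) : a = b ∨ (ix a ≠ i ∧ ix b ≠ i) := by
  revert a b i
  decide +kernel

theorem pair_of_wt : ∀ a b c d : I8, a ≠ b →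
    (∀ i, wt c (e3 i) - wt d (e3 i) = wt a (e3 i) - wt b (e3 i)) → (c = a ∧ d = b) ∨ (c = b.swap ∧ d = a.swap) := by
  (set_option synthInstance.maxSize 100000 in exact Cfsg.Agent.Lib.Refl.of (by decide +kernel))

variable {F : Type} [Field F]

/-- a primitive cube root of unity -/
structure Om (ω : F) : Prop where
  eq : ω ^ 2 + ω + 1 = 0
  three : (3 : F) ≠ 0

/-- the character of `ZMod 3` -/
def om (ω : F) (k : ZMod 3) : F := ω ^ k.val

theorem om_zero (ω : F) : om ω 0 = 1 := pow_zero ω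

theorem om_one (ω : F) : om ω 1 = ω := pow_one ω

theorem om_neg_one (ω : F) : om ω (-1) = ω ^ 2 := rfl

theorem z3 (k : ZMod 3) : k = 0 ∨ k = 1 ∨ k = -1 := by
  revert k
  decide

namespace Om

variable {ω : F} (h : Om ω)
include h

theorem cube : ω ^ 3 = 1 := by linear_combination (ω - 1) * h.eq

theorem ne_one : ω ≠ 1 := fun e => h.three (by have := h.eq; rw [e] at this; linear_combination this)

theorem ne_zero : ω ≠ 0 := fun e => one_ne_zero (by rw [← h.cube, e]; ring : (1 : F) = 0)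

theorem sq_ne_one : ω ^ 2 ≠ 1 := fun e => h.ne_one (by linear_combination h.cube - ω * e)

theorem ne_sq : ω ≠ ω ^ 2 := fun e => h.ne_one (mul_left_cancel₀ h.ne_zero (by linear_combination -e))

theorem om_add (k l : ZMod 3) : om ω (k + l) = om ω k * om ω l := by
  rw [om, om, om, ← pow_add, ZMod.val_add, ← pow_eq_pow_mod _ h.cube]

theorem om_neg_mul (k : ZMod 3) : om ω (-k) * om ω k = 1 := by rw [← h.om_add, neg_add_cancel, om_zero]

theorem om_ne_zero (k : ZMod 3) : om ω k ≠ 0 := pow_ne_zero _ h.ne_zero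

theorem eq_zero_of_om {k : ZMod 3} (e : om ω k = 1) : k = 0 := by
  rcases z3 k with rfl | rfl | rfl
  · rfl
  · exact absurd ((om_one ω).symm.trans e) h.ne_one
  · exact absurd e h.sq_ne_one

theorem om_inj {k l : ZMod 3} (e : om ω k = om ω l) : k = l :=
  eq_of_sub_eq_zero (h.eq_zero_of_om (by rw [sub_eq_add_neg, h.om_add, e, mul_comm, h.om_neg_mul]))

theorem exists_om {t : F} (e : t ^ 3 = 1) : ∃ k, t = om ω k := by
  have h1 : (t - 1) * (t - ω) * (t - ω ^ 2) = 0 := by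
    linear_combination e - (t ^ 2 - t) * h.eq + (t - 1) * h.cube
  rcases mul_eq_zero.1 h1 with h2 | h2
  · rcases mul_eq_zero.1 h2 with h2 | h2
    · exact ⟨0, by rw [om_zero]; exact sub_eq_zero.1 h2⟩
    · exact ⟨1, by rw [om_one]; exact sub_eq_zero.1 h2⟩
  · exact ⟨2, sub_eq_zero.1 h2⟩

theorem sum_om (k : ZMod 3) : 1 + om ω k + om ω k * om ω k = if k = 0 then 3 else 0 := by
  rcases z3 k with rfl | rfl | rfl
  · rw [om_zero, if_pos rfl]; ring
  · rw [om_one, if_neg (by decide)]; linear_combination h.eq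
  · rw [om_neg_one, if_neg (by decide)]; linear_combination h.eq + ω * h.cube

end Om

/-- the matrices -/
abbrev M8 (F : Type) := Matrix I8 I8 F

/-- the diagonal group -/
def dg (ω : F) (c : W3) : M8 F := diagonal fun a => om ω (wt a c)

theorem dg_zero (ω : F) : dg ω 0 = 1 := by
  simp only [dg, wt_zero, om_zero, diagonal_one]

theorem mul_dg (ω : F) (M : M8 F) (c : W3) (a b : I8) : (M * dg ω c) a b = M a b * om ω (wt b c) := mul_diagonal _ _ _ _

theorem dg_mul' (ω : F) (M : M8 F) (c : W3) (a b : I8) : (dg ω c * M) a b = om ω (wt a c) * M a b :=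
  diagonal_mul _ _ _ _

theorem Om.dg_mul {ω : F} (h : Om ω) (c d : W3) : dg ω c * dg ω d = dg ω (c + d) := by
  simp only [dg, diagonal_mul_diagonal, wt_add, h.om_add]

theorem Om.dg_inj {ω : F} (h : Om ω) {c d : W3} (e : dg ω c = dg ω d) : c = d := funext fun i =>
  h.om_inj (by simpa [dg, wt] using congrFun (congrFun e (.inl i)) (.inl i))

theorem Om.tw_iff {ω : F} (h : Om ω) {M : M8 F} {c d : W3} :
    M * dg ω c = dg ω d * M ↔ ∀ a b, M a b ≠ 0 → wt a d = wt b c := by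
  refine ⟨fun e a b h0 => h.om_inj (mul_right_cancel₀ h0 ?_), fun e => ?_⟩
  · rw [← dg_mul', ← e, mul_dg, mul_comm]
  · ext a b
    rw [mul_dg, dg_mul', mul_comm]
    by_cases h0 : M a b = 0
    · rw [h0, mul_zero, mul_zero]
    · rw [e a b h0]

/-- diagonal matrices -/
def Dg (M : M8 F) : Prop := ∀ a b, M a b ≠ 0 → a = b

theorem Dg.eq {M : M8 F} (h : Dg M) : M = diagonal fun a => M a a := by
  ext a b
  by_cases e : a = b
  · subst e; rw [diagonal_apply_eq]
  · rw [diagonal_apply_ne _ e]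
    by_contra h0
    exact e (h a b h0)

theorem Dg.comm {M N : M8 F} (h : Dg M) (h' : Dg N) : M * N = N * M := by
  rw [h.eq, h'.eq, diagonal_mul_diagonal, diagonal_mul_diagonal]
  simp only [mul_comm]

theorem Om.dg_of_comm {ω : F} (h : Om ω) {M : M8 F} (e : ∀ i, M * dg ω (e3 i) = dg ω (e3 i) * M) : Dg M :=
  fun a b h0 => eq_of_wt fun i => h.tw_iff.1 (e i) a b h0

theorem Dg.comm_iff {D M : M8 F} (h : Dg D) : M * D = D * M ↔ ∀ a b, M a b ≠ 0 → D a a = D b b := by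
  refine ⟨fun e a b h0 => mul_right_cancel₀ h0 ?_, fun e => ?_⟩
  · have h1 := congrFun (congrFun e a) b
    rw [h.eq, mul_diagonal, diagonal_mul] at h1
    rw [← h1, mul_comm]
  · ext a b
    rw [h.eq, mul_diagonal, diagonal_mul, mul_comm]
    by_cases h0 : M a b = 0
    · rw [h0, mul_zero, mul_zero]
    · rw [e a b h0]

/-! ### isometries -/

/-- the quadratic form -/
def qf (Y : I8 → F) : F := ∑ i, Y (.inl i) * Y (.inr i)

/-- the polar form -/
def bf (Y Z : I8 → F) : F := ∑ a, Y a * Z a.swap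

theorem qf_add (Y Z : I8 → F) : qf (Y + Z) = qf Y + qf Z + bf Y Z := by
  simp only [qf, bf, Fintype.sum_sum_type, Pi.add_apply, Sum.swap_inl, Sum.swap_inr, ← Finset.sum_add_distrib]
  exact Finset.sum_congr rfl fun i _ => by ring

theorem qf_smul (t : F) (Y : I8 → F) : qf (t • Y) = t ^ 2 * qf Y := by
  simp only [qf, Pi.smul_apply, smul_eq_mul, Finset.mul_sum]
  exact Finset.sum_congr rfl fun i _ => by ring

theorem qf_single (a : I8) (t : F) : qf (Pi.single a t) = 0 := by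
  refine Finset.sum_eq_zero fun i _ => ?_
  rcases a with j | j
  · rw [Pi.single_eq_of_ne (show (Sum.inr i : I8) ≠ Sum.inl j by simp), mul_zero]
  · rw [Pi.single_eq_of_ne (show (Sum.inl i : I8) ≠ Sum.inr j by simp), zero_mul]

theorem bf_single (Y : I8 → F) (a : I8) (t : F) : bf Y (Pi.single a t) = Y a.swap * t := by
  rw [bf, Finset.sum_eq_single a.swap]
  · rw [Sum.swap_swap, Pi.single_eq_same]
  · intro b _ hb
    rw [Pi.single_eq_of_ne fun e => hb (by rw [← e, Sum.swap_swap]), mul_zero]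
  · exact fun e => absurd (Finset.mem_univ _) e

/-- a vector in one plane -/
theorem qf_plane {Y : I8 → F} {a : I8} (h : ∀ b, Y b ≠ 0 → ix b = ix a) : qf Y = Y a * Y a.swap := by
  rw [qf, Finset.sum_eq_single (ix a)]
  · rcases a with j | j
    · rfl
    · exact mul_comm _ _
  · intro i _ hi
    by_contra h0
    exact hi (h _ (left_ne_zero_of_mul h0))
  · exact fun e => absurd (Finset.mem_univ _) e

/-- isometries -/
def Iso (M : M8 F) : Prop := ∀ Y, qf (M *ᵥ Y) = qf Y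

/-- the adjoint -/
def adj (M : M8 F) : M8 F := Matrix.of fun c d => M d.swap c.swap

theorem Iso.bf {M : M8 F} (h : Iso M) (Y Z : I8 → F) : bf (M *ᵥ Y) (M *ᵥ Z) = bf Y Z := by
  have h1 := h (Y + Z)
  rw [mulVec_add, qf_add, qf_add, h, h] at h1
  exact add_left_cancel h1

theorem Iso.adj_mul {M : M8 F} (h : Iso M) : adj M * M = 1 := by
  ext c d
  have h1 := h.bf (Pi.single d 1) (Pi.single c.swap 1)
  rw [bf_single, Sum.swap_swap, mul_one, mulVec_single_one, mulVec_single_one] at h1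
  rw [mul_apply, one_apply, ← Pi.single_apply d (1 : F) c, ← h1]
  exact Finset.sum_congr rfl fun a _ => mul_comm _ _

theorem Iso.mul_adj {M : M8 F} (h : Iso M) : M * adj M = 1 := mul_eq_one_comm.1 h.adj_mul

theorem Iso.mul {M N : M8 F} (h : Iso M) (h' : Iso N) : Iso (M * N) := fun Y => by
  rw [← mulVec_mulVec, h, h']

theorem Iso.adj {M : M8 F} (h : Iso M) : Iso (adj M) := fun Y => by
  rw [← h, mulVec_mulVec, h.mul_adj, one_mulVec]

theorem Iso.col {M : M8 F} (h : Iso M) (d : I8) : qf (fun a => M a d) = 0 := by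
  have h1 := h (Pi.single d 1)
  rw [mulVec_single_one, qf_single] at h1
  exact h1

theorem Om.iso_dg {ω : F} (h : Om ω) (c : W3) : Iso (dg ω c) := fun Y => by
  refine Finset.sum_congr rfl fun i _ => ?_
  rw [dg, mulVec_diagonal, mulVec_diagonal]
  have h1 := h.om_neg_mul (c i)
  change om ω (c i) * _ * (om ω (-c i) * _) = _
  linear_combination (Y (.inl i) * Y (.inr i)) * h1

theorem Dg.mul_swap {M : M8 F} (h : Dg M) (hM : Iso M) (a : I8) : M a a * M a.swap a.swap = 1 := by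
  have h1 := congrFun (congrFun hM.mul_adj a) a
  rwa [h.eq, diagonal_mul, one_apply_eq, adj, of_apply, diagonal_apply_eq] at h1

/-- a diagonal isometry of order dividing three -/
theorem Om.exists_dg {ω : F} (h : Om ω) {M : M8 F} (hD : Dg M) (hM : Iso M) (h3 : M ^ 3 = 1) : ∃ c, M = dg ω c := by
  have h1 : ∀ a, M a a ^ 3 = 1 := fun a => by
    have h2 := congrFun (congrFun h3 a) a
    rwa [hD.eq, diagonal_pow, diagonal_apply_eq, one_apply_eq] at h2
  choose k hk using fun i => h.exists_om (h1 (.inl i))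
  refine ⟨k, hD.eq.trans (congrArg diagonal (funext fun a => ?_))⟩
  rcases a with i | i
  · exact hk i
  · have h2 := hD.mul_swap hM (.inl i)
    rw [hk] at h2
    refine mul_left_cancel₀ (h.om_ne_zero (k i)) (h2.trans ?_)
    rw [mul_comm]
    exact (h.om_neg_mul _).symm

/-- the plane `i` is invariant -/
def Pl (i : Fin 4) (M : M8 F) : Prop := ∀ a b, M a b ≠ 0 → (ix a = i ↔ ix b = i)

/-- the square of an isometry which preserves a plane is a rotation of the plane -/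
theorem Pl.sq {ω : F} (h : Om ω) {i : Fin 4} {M : M8 F} (hP : Pl i M) (hM : Iso M) :
    M * M * dg ω (e3 i) = dg ω (e3 i) * (M * M) := by
  have hc : ∀ a, ix a = i → M a a * M a.swap a = 0 := fun a ha =>
    (qf_plane (Y := fun b => M b a) fun b hb => ((hP b a hb).2 ha).trans ha.symm).symm.trans (hM.col a)
  have hr : ∀ a, ix a = i → M a.swap a.swap * M a.swap a = 0 := fun a ha => by
    have h1 := (qf_plane (Y := fun b => adj M b a) (a := a) fun b hb => by
      have h2 := (hP _ _ hb).1 (by rw [ix_swap, ha])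
      rw [ix_swap] at h2
      rw [h2, ha]).symm.trans (hM.adj.col a)
    simpa only [adj, of_apply, Sum.swap_swap] using h1
  refine h.tw_iff.2 fun a b h0 => ?_
  rw [mul_apply] at h0
  obtain ⟨e, -, he⟩ := Finset.exists_ne_zero_of_sum_ne_zero h0
  have h1 := (hP _ _ (left_ne_zero_of_mul he)).trans (hP _ _ (right_ne_zero_of_mul he))
  by_cases hb : ix b = i
  · rcases eq_or_of_ix ((h1.2 hb).trans hb.symm) with rfl | rfl
    · rfl
    · exfalso
      rcases eq_or_of_ix (((hP _ _ (right_ne_zero_of_mul he)).2 hb).trans hb.symm) with rfl | rfl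
      · exact he (by rw [mul_comm]; exact hc _ hb)
      · exact he (hr _ hb)
  · rw [wt_e3_of_ne hb, wt_e3_of_ne (mt h1.1 hb)]

theorem Pl.of_cube {ω : F} (h : Om ω) {i : Fin 4} {M : M8 F} (hP : Pl i M) (hM : Iso M) (h3 : M ^ 3 = 1) :
    M * dg ω (e3 i) = dg ω (e3 i) * M := by
  have h1 : Commute (M * M) (dg ω (e3 i)) := hP.sq h hM
  have h2 : M * M * (M * M) = M := by
    rw [← mul_assoc, ← pow_two, ← pow_succ, h3, one_mul]
  rw [← h2]
  exact h1.mul_left h1

/-! ### the grading -/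

open Classical in
/-- the part of `M` on the set of positions `P` -/
noncomputable def msk (P : I8 → I8 → Prop) (M : M8 F) : M8 F := Matrix.of fun a b => if P a b then M a b else 0

theorem msk_pos {P : I8 → I8 → Prop} (M : M8 F) {a b : I8} (h : P a b) : msk P M a b = M a b := if_pos h

theorem msk_neg {P : I8 → I8 → Prop} (M : M8 F) {a b : I8} (h : ¬ P a b) : msk P M a b = 0 := if_neg h

theorem of_msk_ne {P : I8 → I8 → Prop} {M : M8 F} {a b : I8} (h : msk P M a b ≠ 0) : P a b := by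
  by_contra e
  exact h (msk_neg M e)

/-- a subspace which is invariant under the diagonal group -/
def Gr (ω : F) (B : Submodule F (M8 F)) : Prop := ∀ c, ∀ M ∈ B, dg ω c * M * dg ω (-c) ∈ B

theorem Gr.step {ω : F} (h : Om ω) {B : Submodule F (M8 F)} (hB : Gr ω B) (c : W3) (k : ZMod 3) {M : M8 F}
    (hM : M ∈ B) : msk (fun a b => wt a c - wt b c = k) M ∈ B := by
  have h1 : ∀ (N : M8 F) (a b : I8), (om ω (-k) • (dg ω c * N * dg ω (-c))) a b =
      om ω (wt a c - wt b c - k) * N a b := fun N a b => by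
    rw [Matrix.smul_apply, mul_dg, dg_mul', wt_neg, sub_eq_add_neg, sub_eq_add_neg, h.om_add, h.om_add, smul_eq_mul]
    ring
  have h2 : ∀ N ∈ B, om ω (-k) • (dg ω c * N * dg ω (-c)) ∈ B := fun N hN => B.smul_mem _ (hB c N hN)
  convert B.smul_mem (3 : F)⁻¹ (B.add_mem (B.add_mem hM (h2 _ hM)) (h2 _ (h2 _ hM))) using 1
  ext a b
  rw [Matrix.smul_apply, Matrix.add_apply, Matrix.add_apply, h1 M, h1, h1 M, smul_eq_mul]
  have h3 := h.sum_om (wt a c - wt b c - k)
  have h4 := h.three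
  by_cases e : wt a c - wt b c = k
  · rw [msk_pos (P := fun a b => wt a c - wt b c = k) M e]
    rw [if_pos (sub_eq_zero.2 e)] at h3
    field_simp
    linear_combination -M a b * h3
  · rw [msk_neg (P := fun a b => wt a c - wt b c = k) M e]
    rw [if_neg (fun e' => e (sub_eq_zero.1 e'))] at h3
    linear_combination -(3 : F)⁻¹ * M a b * h3

/-- the component of the weight `a - b` -/
noncomputable def cmp (a b : I8) (M : M8 F) : M8 F := msk (fun c d => (c = a ∧ d = b) ∨ (c = b.swap ∧ d = a.swap)) M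

theorem cmp_self (a b : I8) (M : M8 F) : cmp a b M a b = M a b := msk_pos M (Or.inl ⟨rfl, rfl⟩)

theorem Gr.cmp {ω : F} (h : Om ω) {B : Submodule F (M8 F)} (hB : Gr ω B) {a b : I8} (hab : a ≠ b) {M : M8 F}
    (hM : M ∈ B) : cmp a b M ∈ B := by
  have h1 := fun i N hN => hB.step h (e3 i) (wt a (e3 i) - wt b (e3 i)) (M := N) hN
  convert h1 0 _ (h1 1 _ (h1 2 _ (h1 3 _ hM))) using 1
  ext c d
  by_cases e : (c = a ∧ d = b) ∨ (c = b.swap ∧ d = a.swap)
  · have h2 : ∀ i, wt c (e3 i) - wt d (e3 i) = wt a (e3 i) - wt b (e3 i) := fun i => by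
      rcases e with ⟨rfl, rfl⟩ | ⟨rfl, rfl⟩
      · rfl
      · rw [wt_swap, wt_swap]; ring
    rw [D4.cmp, msk_pos M e, msk_pos _ (h2 0), msk_pos _ (h2 1), msk_pos _ (h2 2), msk_pos _ (h2 3)]
  · rw [D4.cmp, msk_neg M e]
    by_contra h0
    have a0 := of_msk_ne (Ne.symm h0)
    rw [msk_pos _ a0] at h0
    have a1 := of_msk_ne (Ne.symm h0)
    rw [msk_pos _ a1] at h0
    have a2 := of_msk_ne (Ne.symm h0)
    rw [msk_pos _ a2] at h0
    have a3 := of_msk_ne (Ne.symm h0)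
    refine e (pair_of_wt a b c d hab fun i => ?_)
    fin_cases i
    exacts [a0, a1, a2, a3]

theorem cmp_sq {a b : I8} (hab : a ≠ b) (M : M8 F) : cmp a b M * cmp a b M = 0 := by
  ext c d
  rw [mul_apply, Matrix.zero_apply]
  refine Finset.sum_eq_zero fun e _ => ?_
  by_contra h0
  rcases of_msk_ne (left_ne_zero_of_mul h0) with ⟨-, h1⟩ | ⟨-, h1⟩ <;>
    rcases of_msk_ne (right_ne_zero_of_mul h0) with ⟨h2, -⟩ | ⟨h2, -⟩
  · exact hab (h2.symm.trans h1)
  · exact swap_ne b (h2.symm.trans h1)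
  · exact swap_ne a (h1.symm.trans h2)
  · exact hab (by rw [← Sum.swap_swap a, ← h1, h2, Sum.swap_swap])

theorem gr_span {ω : F} {S : Set (M8 F)} (hS : ∀ c, ∀ M ∈ S, dg ω c * M * dg ω (-c) ∈ S) :
    Gr ω (Submodule.span F S) := fun c M hM => by
  induction hM using Submodule.span_induction with
  | mem x hx => exact Submodule.subset_span (hS c x hx)
  | zero => rw [mul_zero, zero_mul]; exact zero_mem _
  | add x y _ _ hx hy => rw [mul_add, add_mul]; exact add_mem hx hy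
  | smul t x _ hx => rw [mul_smul_comm, smul_mul_assoc]; exact Submodule.smul_mem _ _ hx

/-- **commuting semisimple matrices** normalised by the diagonal group are diagonal -/
theorem dg_of_comm_set [PerfectField F] {ω : F} (h : Om ω) {S : Set (M8 F)}
    (hS : ∀ c, ∀ M ∈ S, dg ω c * M * dg ω (-c) ∈ S) (hc : ∀ M ∈ S, ∀ N ∈ S, M * N = N * M) {n : ℕ} (hn : (n : F) ≠ 0)
    (hp : ∀ M ∈ S, M ^ n = 1) {M : M8 F} (hM : M ∈ S) : Dg M := by
  intro a b h0
  by_contra hab
  have h1 := (gr_span hS).cmp h hab (Submodule.subset_span hM)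
  let φ : M8 F ≃ₐ[F] Module.End F (I8 → F) := Matrix.toLinAlgEquiv'
  have h2 : ∀ N ∈ Submodule.span F S, ∀ N' ∈ Submodule.span F S, Commute N N' := fun N hN N' hN' => by
    induction hN using Submodule.span_induction with
    | mem x hx =>
      induction hN' using Submodule.span_induction with
      | mem y hy => exact hc x hx y hy
      | zero => exact Commute.zero_right _
      | add y z _ _ hy hz => exact hy.add_right hz
      | smul t y _ hy => exact hy.smul_right t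
    | zero => exact Commute.zero_left _
    | add x y _ _ hx hy => exact hx.add_left hy
    | smul t x _ hx => exact hx.smul_left t
  have h3 : ∀ N ∈ Submodule.span F S, (φ N).IsSemisimple := fun N hN => by
    induction hN using Submodule.span_induction with
    | mem x hx =>
      refine Module.End.isSemisimple_of_squarefree_aeval_eq_zero
        (Polynomial.separable_X_pow_sub_C (1 : F) hn one_ne_zero).squarefree ?_
      rw [map_sub, map_pow, Polynomial.aeval_X, Polynomial.aeval_C, map_one, ← map_pow, hp x hx, map_one, sub_self]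
    | zero => rw [map_zero]; exact Module.End.isSemisimple_zero
    | add x y hx' hy' hx hy => rw [map_add]; exact hx.add_of_commute ((h2 x hx' y hy').map φ) hy
    | smul t x _ hx => rw [map_smul]; exact Module.End.IsSemisimple_smul t hx
  have h4 : φ (cmp a b M) = 0 := Module.End.eq_zero_of_isNilpotent_isSemisimple
    ⟨2, by rw [← map_pow, pow_two, cmp_sq hab, map_zero]⟩ (h3 _ h1)
  exact h0 (by rw [← cmp_self a b M, (map_eq_zero_iff φ φ.injective).1 h4, Matrix.zero_apply])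

end Cfsg.Agent.TH.Cl.D4
end

-- part: TH/Cl/D4/Elt
section
/-!
# S3541, `PΩ₈⁺(q)`: explicit isometries (helper60)

Permutation matrices, rotations of order three of a plane, a regular unipotent element of `SL₃^ε`.
-/

set_option autoImplicit false

namespace Cfsg.Agent.TH.Cl.D4

open Matrix

variable {F : Type} [Field F]

/-! ### permutations -/

/-- permutation matrices -/
def pm (F : Type) [Field F] (σ : Equiv.Perm I8) : M8 F := Matrix.of fun a b => if a = σ b then 1 else 0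

theorem mul_pm (M : M8 F) (σ : Equiv.Perm I8) (a b : I8) : (M * pm F σ) a b = M a (σ b) := by
  simp [pm, mul_apply]

theorem pm_mul (M : M8 F) (σ : Equiv.Perm I8) (a b : I8) : (pm F σ * M) (σ a) b = M a b := by
  simp [pm, mul_apply]

theorem pm_mul_pm (σ τ : Equiv.Perm I8) : pm F σ * pm F τ = pm F (σ * τ) := by
  ext a b
  rw [mul_pm]
  rfl

theorem pm_one : pm F 1 = 1 := by
  ext a b
  rw [pm, of_apply, one_apply]
  exact if_congr Iff.rfl rfl rfl

theorem pm_ne {σ : Equiv.Perm I8} {a b : I8} (h : pm F σ a b ≠ 0) : a = σ b := by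
  by_contra e
  exact h (if_neg e)

theorem pm_mulVec (σ : Equiv.Perm I8) (Y : I8 → F) (a : I8) : (pm F σ *ᵥ Y) a = Y (σ.symm a) := by
  obtain ⟨b, rfl⟩ := σ.surjective a
  simp [pm, mulVec, dotProduct]

/-- permutations of the planes -/
def sp (s : Equiv.Perm (Fin 4)) : Equiv.Perm I8 := Equiv.sumCongr s s

theorem sp_mul (s t : Equiv.Perm (Fin 4)) : sp s * sp t = sp (s * t) := by
  ext a
  rcases a with i | i <;> rfl

theorem sp_one : sp 1 = 1 := by
  ext a
  rcases a with i | i <;> rfl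

theorem sp_swap (s : Equiv.Perm (Fin 4)) (a : I8) : sp s a.swap = (sp s a).swap := by
  rcases a with i | i <;> rfl

theorem ix_sp (s : Equiv.Perm (Fin 4)) (a : I8) : ix (sp s a) = s (ix a) := by
  rcases a with i | i <;> rfl

theorem wt_sp (s : Equiv.Perm (Fin 4)) (a : I8) (c : W3) : wt (sp s a) (c ∘ s.symm) = wt a c := by
  rcases a with i | i <;> simp [wt, sp]

theorem iso_sp (s : Equiv.Perm (Fin 4)) : Iso (pm F (sp s)) := fun Y => by
  simp only [qf, pm_mulVec]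
  exact Equiv.sum_comp s.symm fun i => Y (.inl i) * Y (.inr i)

/-- a signed permutation of order four -/
def t4 : Equiv.Perm I8 :=
  Equiv.swap (.inl 2) (.inr 2) * (Equiv.swap (.inl 2) (.inl 3) * Equiv.swap (.inr 2) (.inr 3))

theorem iso_t4 : Iso (pm F t4) := fun Y => by
  have h : ∀ a, t4.symm a = Sum.elim ![.inl 0, .inl 1, .inr 3, .inl 2] ![.inr 0, .inr 1, .inl 3, .inr 2] a := by decide
  simp only [qf, pm_mulVec, h, Fin.sum_univ_four, Sum.elim_inl, Sum.elim_inr, cons_val]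
  ring

theorem t4_swap (a : I8) : t4 a.swap = (t4 a).swap := by
  revert a
  decide

/-! ### rotations -/

theorem bf_comm (Y Z : I8 → F) : bf Y Z = bf Z Y := by
  simp only [bf, Fintype.sum_sum_type, Sum.swap_inl, Sum.swap_inr, mul_comm]
  exact add_comm _ _

theorem bf_add (Y Y' Z : I8 → F) : bf (Y + Y') Z = bf Y Z + bf Y' Z := by
  simp only [bf, Pi.add_apply, add_mul, Finset.sum_add_distrib]

theorem bf_smul (t : F) (Y Z : I8 → F) : bf (t • Y) Z = t * bf Y Z := by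
  simp only [bf, Pi.smul_apply, smul_eq_mul, Finset.mul_sum, mul_assoc]

theorem bf_self (Y : I8 → F) : bf Y Y = 2 * qf Y := by
  have h := qf_add Y Y
  rw [← two_smul F Y, qf_smul] at h
  linear_combination -h

/-- the rotation with eigenvectors `P`, `P'` -/
def rot (ω : F) (P P' : I8 → F) : M8 F :=
  Matrix.of fun a b => (if a = b then 1 else 0) + (ω - 1) * (P a * P' b.swap) + (ω ^ 2 - 1) * (P' a * P b.swap)

theorem rot_mulVec (ω : F) (P P' Y : I8 → F) :
    rot ω P P' *ᵥ Y = Y + ((ω - 1) * bf Y P') • P + ((ω ^ 2 - 1) * bf Y P) • P' := by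
  funext a
  simp only [rot, mulVec, dotProduct, of_apply, add_mul, Finset.sum_add_distrib, ite_mul, one_mul, zero_mul,
    Finset.sum_ite_eq, Finset.mem_univ, if_true, Pi.add_apply, Pi.smul_apply, smul_eq_mul, bf, Finset.mul_sum,
    Finset.sum_mul]
  congr 1
  · congr 1
    exact Finset.sum_congr rfl fun _ _ => by ring
  · exact Finset.sum_congr rfl fun _ _ => by ring

/-- hyperbolic pairs -/
structure Hp (P P' : I8 → F) : Prop where
  l : qf P = 0
  r : qf P' = 0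
  b : bf P P' = 1

theorem Hp.iso {ω : F} (h : Om ω) {P P' : I8 → F} (hP : Hp P P') : Iso (rot ω P P') := fun Y => by
  rw [rot_mulVec, qf_add, qf_add, qf_smul, qf_smul, hP.l, hP.r, bf_add, bf_comm Y (_ • _), bf_comm Y (_ • _), bf_smul,
    bf_smul, bf_smul, bf_comm P (_ • _), bf_smul, bf_comm P' P, hP.b, bf_comm P Y, bf_comm P' Y]
  linear_combination (bf Y P * bf Y P') * h.cube

theorem ext_mulVec {M N : M8 F} (h : ∀ Y, M *ᵥ Y = N *ᵥ Y) : M = N :=
  Matrix.toLin'.injective (LinearMap.ext h)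

theorem Hp.cube {ω : F} (h : Om ω) {P P' : I8 → F} (hP : Hp P P') : rot ω P P' ^ 3 = 1 := by
  have h1 : ∀ Y, bf (rot ω P P' *ᵥ Y) P' = ω * bf Y P' := fun Y => by
    rw [rot_mulVec, bf_add, bf_add, bf_smul, bf_smul, hP.b, bf_self, hP.r]
    ring
  have h2 : ∀ Y, bf (rot ω P P' *ᵥ Y) P = ω ^ 2 * bf Y P := fun Y => by
    rw [rot_mulVec, bf_add, bf_add, bf_smul, bf_smul, bf_comm P' P, hP.b, bf_self, hP.l]
    ring
  refine ext_mulVec fun Y => ?_
  rw [pow_three, ← mulVec_mulVec, ← mulVec_mulVec, one_mulVec, rot_mulVec, h1, h1, h2, h2, rot_mulVec, h1, h2,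
    rot_mulVec]
  funext a
  simp only [Pi.add_apply, Pi.smul_apply, smul_eq_mul]
  linear_combination ((ω - 1) * bf Y P' * P a + (ω ^ 2 - 1) * (ω ^ 2 - ω + 1) * bf Y P * P' a) * h.eq

/-! ### the real structure -/

/-- matrices which come from the ground field -/
def Rl (R : Subring (F × F)) (M : M8 F) : Prop := ∀ a b, (M a b, M a.swap b.swap) ∈ R

theorem Rl.mul {R : Subring (F × F)} {M N : M8 F} (h : Rl R M) (h' : Rl R N) : Rl R (M * N) := fun a b => by
  have h1 : (M * N) a.swap b.swap = ∑ e, M a.swap (Sum.swap e) * N (Sum.swap e) b.swap :=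
    (Equiv.sum_comp (Equiv.sumComm (Fin 4) (Fin 4)) fun e => M a.swap e * N e b.swap).symm
  rw [h1, mul_apply, prod_mk_sum]
  exact R.sum_mem fun e _ => R.mul_mem (h a e) (h' e b)

theorem rl_pm (R : Subring (F × F)) {σ : Equiv.Perm I8} (h : ∀ a, σ a.swap = (σ a).swap) : Rl R (pm F σ) := fun a b => by
  by_cases e : a = σ b
  · rw [pm, of_apply, of_apply, if_pos e, if_pos (by rw [h, e])]
    exact R.one_mem
  · rw [pm, of_apply, of_apply, if_neg e, if_neg fun e' => e (by rw [← Sum.swap_swap a, e', h, Sum.swap_swap])]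
    exact R.zero_mem

/-- the ring `K[ω]` -/
structure Rw (ω : F) (R : Subring (F × F)) : Prop where
  om : (ω, ω ^ 2) ∈ R
  sw : ∀ s t, (s, t) ∈ R → (t, s) ∈ R

theorem Rw.dg {ω : F} {R : Subring (F × F)} (h : Rw ω R) (c : W3) : Rl R (dg ω c) := fun a b => by
  by_cases e : a = b
  · subst e
    rw [D4.dg, diagonal_apply_eq, diagonal_apply_eq, wt_swap]
    rcases z3 (wt a c) with e | e | e <;> rw [e]
    · rw [neg_zero, om_zero]; exact R.one_mem
    · rw [om_one]; exact h.om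
    · rw [neg_neg, om_one]; exact h.sw _ _ h.om
  · rw [D4.dg, diagonal_apply_ne _ e, diagonal_apply_ne _ fun e' => e (by rw [← Sum.swap_swap a, e', Sum.swap_swap])]
    exact R.zero_mem

theorem Rw.rot {ω : F} {R : Subring (F × F)} (h : Rw ω R) {P P' : I8 → F} (hP : ∀ a, (P a, P' a.swap) ∈ R) :
    Rl R (rot ω P P') := fun a b => by
  have h0 : ∀ a, (P' a, P a.swap) ∈ R := fun a => h.sw _ _ (by simpa using hP a.swap)
  have h1 : ((if a = b then 1 else 0 : F), (if a.swap = b.swap then 1 else 0 : F)) ∈ R := by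
    by_cases e : a = b
    · rw [if_pos e, if_pos (by rw [e])]; exact R.one_mem
    · rw [if_neg e, if_neg fun e' => e (by rw [← Sum.swap_swap a, e', Sum.swap_swap])]; exact R.zero_mem
  convert R.add_mem (R.add_mem h1 (R.mul_mem (R.sub_mem h.om R.one_mem) (R.mul_mem (hP a) (h0 b.swap))))
    (R.mul_mem (R.sub_mem (h.sw _ _ h.om) R.one_mem) (R.mul_mem (h0 a) (hP b.swap))) using 1
  refine Prod.ext rfl ?_
  simp only [D4.rot, of_apply, Prod.mk_mul_mk, Prod.snd_add, Prod.snd_mul, Prod.snd_sub, Prod.snd_one]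
  ring

/-! ### the unipotent element -/

section unip

variable (ω α β : F)

/-- first eigenvector -/
def uP : I8 → F := Sum.elim ![-1, -α, 1, 0] 0

/-- second eigenvector -/
def uQ : I8 → F := Sum.elim 0 ![-1, -β, 1, 0]

theorem hp_u {α β : F} (h : α * β = -1) : Hp (uP α) (uQ β) := by
  refine ⟨by simp [qf, uP], by simp [qf, uQ], ?_⟩
  simp [bf, uP, uQ, Fin.sum_univ_four, h]

theorem rl_u {R : Subring (F × F)} {α β : F} (h : (α, β) ∈ R) (a : I8) : (uP α a, uQ β a.swap) ∈ R := by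
  rcases a with i | i
  · fin_cases i
    exacts [R.neg_mem R.one_mem, R.neg_mem h, R.one_mem, R.zero_mem]
  · exact R.zero_mem

/-- the rotation -/
def uY : M8 F := rot ω (uP α) (uQ β)

/-- the unipotent element -/
def uU : M8 F := dg ω (-e3 2) * uY ω α β

theorem uY_ne {a b : I8} (h : uY ω α β a b ≠ 0) :
    a = b ∨ (∃ i j, i ≠ 3 ∧ j ≠ 3 ∧ a = .inl i ∧ b = .inl j) ∨ ∃ i j, i ≠ 3 ∧ j ≠ 3 ∧ a = .inr i ∧ b = .inr j := by
  by_cases e : a = b
  · exact Or.inl e
  right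
  rcases a with i | i <;> rcases b with j | j
  · refine Or.inl ⟨i, j, ?_, ?_, rfl, rfl⟩ <;> rintro rfl <;> exact h (by simp [uY, rot, uP, uQ, e])
  · exact absurd (by simp [uY, rot, uP, uQ]) h
  · exact absurd (by simp [uY, rot, uP, uQ]) h
  · refine Or.inr ⟨i, j, ?_, ?_, rfl, rfl⟩ <;> rintro rfl <;> exact h (by simp [uY, rot, uP, uQ, e])

variable {ω α β} (h : Om ω) (hαβ : α * β = -1)
include h hαβ

omit hαβ in
theorem uU_mulVec (Y : I8 → F) : (uU ω α β - 1) *ᵥ Y =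
    Sum.elim ![(1 - ω) * (Y (.inl 2) - Y (.inl 0) - β * Y (.inl 1)),
        α * (1 - ω) * (Y (.inl 2) - Y (.inl 0) - β * Y (.inl 1)), (ω ^ 2 - 1) * (Y (.inl 0) + β * Y (.inl 1)), 0]
      ![(1 - ω ^ 2) * (Y (.inr 2) - Y (.inr 0) - α * Y (.inr 1)),
        β * (1 - ω ^ 2) * (Y (.inr 2) - Y (.inr 0) - α * Y (.inr 1)), (ω - 1) * (Y (.inr 0) + α * Y (.inr 1)), 0] := by
  have h1 : bf Y (uQ β) = Y (.inl 2) - Y (.inl 0) - β * Y (.inl 1) := by
    simp only [bf, uQ, Fin.sum_univ_four, _root_.Fintype.sum_sum_type, _root_.Sum.swap_inl, _root_.Sum.elim_inr, _root_.Fin.isValue, _root_.Matrix.cons_val_zero, _root_.mul_neg, _root_.mul_one, _root_.Matrix.cons_val_one, _root_.Matrix.cons_val, _root_.MulZeroClass.mul_zero, _root_.add_zero, _root_.Sum.swap_inr, _root_.Sum.elim_inl, _root_.Pi.zero_apply, _root_.Finset.sum_const_zero]; ring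
  have h2 : bf Y (uP α) = Y (.inr 2) - Y (.inr 0) - α * Y (.inr 1) := by
    simp only [bf, uP, Fin.sum_univ_four, _root_.Fintype.sum_sum_type, _root_.Sum.swap_inl, _root_.Sum.elim_inr, _root_.Pi.zero_apply, _root_.MulZeroClass.mul_zero, _root_.Finset.sum_const_zero, _root_.Sum.swap_inr, _root_.Sum.elim_inl, _root_.Fin.isValue, _root_.Matrix.cons_val_zero, _root_.mul_neg, _root_.mul_one, _root_.Matrix.cons_val_one, _root_.Matrix.cons_val, _root_.add_zero, _root_.zero_add]; ring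
  have w : ∀ a, om ω (wt a (-e3 2)) = Sum.elim ![1, 1, ω ^ 2, 1] ![1, 1, ω, 1] a := fun a => by
    rcases a with i | i <;> fin_cases i
    exacts [om_zero ω, om_zero ω, rfl, om_zero ω, om_zero ω, om_zero ω, om_one ω, om_zero ω]
  rw [sub_mulVec, one_mulVec, uU, ← mulVec_mulVec, uY, rot_mulVec, h1, h2]
  funext a
  rw [Pi.sub_apply, dg, mulVec_diagonal, w]
  rcases a with i | i <;> (revert i; simp only [uP, uQ, _root_.Fin.forall_fin_succ, _root_.Nat.succ_eq_add_one, Nat.reduceAdd, _root_.Sum.elim_inl, Fin.isValue, _root_.Pi.add_apply, _root_.Pi.smul_apply, _root_.smul_eq_mul, _root_.Pi.zero_apply, _root_.MulZeroClass.mul_zero, _root_.add_zero, _root_.Matrix.cons_val_zero, _root_.mul_neg, _root_.mul_one, _root_.one_mul, _root_.add_sub_cancel_left, _root_.Matrix.cons_val_succ, _root_.Fin.succ_zero_eq_one, _root_.Fin.succ_one_eq_two, _root_.Matrix.cons_val_fin_one, _root_.sub_self, _root_.implies_true, _root_.Sum.elim_inr, _root_.and_true,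 _root_.true_and]) <;> (repeat' with_reducible apply And.intro)
  · ring
  · ring
  · linear_combination (Y (.inl 2) - Y (.inl 0) - β * Y (.inl 1)) * h.cube
  · ring
  · ring
  · linear_combination (Y (.inr 2) - Y (.inr 0) - α * Y (.inr 1)) * h.cube

theorem uU_cube : (uU ω α β - 1) ^ 3 = 0 := by
  refine ext_mulVec fun Y => ?_
  have h1 : ∀ Y, ((uU ω α β - 1) *ᵥ Y) (.inl 0) + β * ((uU ω α β - 1) *ᵥ Y) (.inl 1) = 0 := fun Y => by
    simp only [uU_mulVec h, Sum.elim_inl, cons_val]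
    linear_combination (1 - ω) * (Y (.inl 2) - Y (.inl 0) - β * Y (.inl 1)) * hαβ
  have h2 : ∀ Y, ((uU ω α β - 1) *ᵥ Y) (.inr 0) + α * ((uU ω α β - 1) *ᵥ Y) (.inr 1) = 0 := fun Y => by
    simp only [uU_mulVec h, Sum.elim_inr, cons_val]
    linear_combination (1 - ω ^ 2) * (Y (.inr 2) - Y (.inr 0) - α * Y (.inr 1)) * hαβ
  have h3 : ((uU ω α β - 1) *ᵥ ((uU ω α β - 1) *ᵥ Y)) (.inl 2) = 0 := by
    rw [uU_mulVec h, h1]
    simp
  have h4 : ((uU ω α β - 1) *ᵥ ((uU ω α β - 1) *ᵥ Y)) (.inr 2) = 0 := by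
    rw [uU_mulVec h, h2]
    simp
  rw [pow_three, ← mulVec_mulVec, ← mulVec_mulVec, zero_mulVec, uU_mulVec h, h3, h4, sub_sub, sub_sub, h1, h2]
  funext a
  rcases a with i | i <;> (revert i; simp only [_root_.Fin.forall_fin_succ, _root_.Nat.succ_eq_add_one, Nat.reduceAdd, _root_.sub_self, _root_.MulZeroClass.mul_zero, _root_.Sum.elim_inl, _root_.Pi.zero_apply, Fin.isValue, _root_.Matrix.cons_val_zero, _root_.Matrix.cons_val_succ, _root_.Matrix.cons_val_fin_one, _root_.implies_true, _root_.and_self, _root_.Sum.elim_inr])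

theorem uU_sq : (uU ω α β - 1) ^ 2 ≠ 0 := fun e => by
  have h1 := congrFun (congrArg (· *ᵥ Pi.single (Sum.inl 0 : I8) 1) e) (.inl 0)
  simp only [pow_two, ← mulVec_mulVec, zero_mulVec, uU_mulVec h, Sum.elim_inl, cons_val, Pi.zero_apply,
    Pi.single_eq_same, Pi.single_eq_of_ne (show (Sum.inl 1 : I8) ≠ .inl 0 by decide),
    Pi.single_eq_of_ne (show (Sum.inl 2 : I8) ≠ .inl 0 by decide)] at h1
  refine h.three ?_
  linear_combination -h1 + (1 - ω) ^ 2 * hαβ - h.cube + h.eq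

theorem uU_fix {Y : I8 → F} (e : uU ω α β *ᵥ Y = Y) : qf Y = Y (.inl 3) * Y (.inr 3) := by
  have h1 := uU_mulVec h (α := α) (β := β) Y
  rw [sub_mulVec, one_mulVec, e, sub_self] at h1
  have a0 := congrFun h1 (.inl 0)
  have a2 := congrFun h1 (.inl 2)
  have b0 := congrFun h1 (.inr 0)
  have b2 := congrFun h1 (.inr 2)
  simp only [Pi.zero_apply, Sum.elim_inl, Sum.elim_inr, cons_val] at a0 a2 b0 b2
  have a3 := (mul_eq_zero.1 a0.symm).resolve_left (sub_ne_zero.2 h.ne_one.symm)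
  have a4 := (mul_eq_zero.1 a2.symm).resolve_left (sub_ne_zero.2 h.sq_ne_one)
  have b4 := (mul_eq_zero.1 b2.symm).resolve_left (sub_ne_zero.2 h.ne_one)
  rw [qf, Fin.sum_univ_four]
  linear_combination Y (.inr 2) * a3 + (Y (.inr 2) + Y (.inr 0)) * a4 - β * Y (.inl 1) * b4 +
    Y (.inl 1) * Y (.inr 1) * hαβ

omit hαβ in
theorem uU_entry : uU ω α β (.inl 0) (.inl 2) ≠ 0 ∧ uU ω α β (.inl 2) (.inl 2) ≠ 0 := by
  have h1 := uU_mulVec h (α := α) (β := β) (Pi.single (Sum.inl 2 : I8) 1)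
  rw [sub_mulVec, one_mulVec, mulVec_single_one] at h1
  have a0 := congrFun h1 (.inl 0)
  have a2 := congrFun h1 (.inl 2)
  simp only [_root_.Nat.succ_eq_add_one, _root_.Nat.reduceAdd, _root_.Fin.isValue, _root_.Pi.sub_apply, _root_.Matrix.col_apply, _root_.ne_eq, _root_.Sum.inl.injEq, _root_.Fin.reduceEq, _root_.not_false_eq_true, _root_.Pi.single_eq_of_ne, _root_.sub_zero, _root_.Pi.single_eq_same, _root_.MulZeroClass.mul_zero, _root_.mul_one, _root_.add_zero, _root_.reduceCtorEq, _root_.sub_self, _root_.Sum.elim_inl, _root_.Matrix.cons_val_zero, _root_.Matrix.cons_val] at a0 a2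
  rw [a0, sub_eq_zero.1 a2]
  exact ⟨sub_ne_zero.2 h.ne_one.symm, one_ne_zero⟩

end unip

/-! ### a rotation of a plane in general position in the sum of two planes -/

section gen

variable (ω : F) (t : F)

/-- first eigenvector -/
def gP : I8 → F := Sum.elim ![-t, t, 0, 0] ![-t, -t, 0, 0]

/-- second eigenvector -/
def gQ : I8 → F := Sum.elim ![-t, -t, 0, 0] ![-t, t, 0, 0]

theorem hp_g {t : F} (h : 2 * t = 1) : Hp (gP t) (gQ t) := by
  refine ⟨by simp [qf, gP, Fin.sum_univ_four], by simp [qf, gQ, Fin.sum_univ_four], ?_⟩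
  simp only [bf, gP, gQ, Fin.sum_univ_four, _root_.Fintype.sum_sum_type, _root_.Sum.elim_inl, _root_.Sum.swap_inl, _root_.Sum.elim_inr, _root_.Fin.isValue, _root_.Matrix.cons_val_zero, _root_.mul_neg, _root_.neg_mul, _root_.neg_neg, _root_.Matrix.cons_val_one, _root_.Matrix.cons_val, _root_.MulZeroClass.mul_zero, _root_.add_zero, _root_.Sum.swap_inr]
  linear_combination (2 * t + 1) * h

theorem rl_g {R : Subring (F × F)} {t : F} (h : (t, t) ∈ R) (a : I8) : (gP t a, gQ t a.swap) ∈ R := by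
  rcases a with i | i <;> fin_cases i
  exacts [R.neg_mem h, h, R.zero_mem, R.zero_mem, R.neg_mem h, R.neg_mem h, R.zero_mem, R.zero_mem]

/-- the rotation -/
def gY : M8 F := rot ω (gP t) (gQ t)

attribute [-instance] instNoNatZeroDivisorsOfIsAddTorsionFree instIsCharPOfIsLeftCancelAddOfCharP in
theorem gY_entry {ω t : F} (h : Om ω) (ht : 2 * t = 1) (i j : Fin 4) (hi : i < 2) (hj : j < 2) :
    (gY ω t * dg ω (e3 i) * adj (gY ω t)) (.inl j) (.inr j) ≠ 0 := by
  have h0 : (t ^ 4 * 9 : F) ≠ 0 := mul_ne_zero (pow_ne_zero _ (right_ne_zero_of_mul_eq_one ht))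
    (by rw [show (9 : F) = 3 * 3 by norm_num]; exact mul_ne_zero h.three h.three)
  have w0 : ∀ a, om ω (wt a (e3 0)) = Sum.elim ![ω, 1, 1, 1] ![ω ^ 2, 1, 1, 1] a := fun a => by
    rcases a with i | i <;> fin_cases i
    exacts [om_one ω, om_zero ω, om_zero ω, om_zero ω, rfl, om_zero ω, om_zero ω, om_zero ω]
  have w1 : ∀ a, om ω (wt a (e3 1)) = Sum.elim ![1, ω, 1, 1] ![1, ω ^ 2, 1, 1] a := fun a => by
    rcases a with i | i <;> fin_cases i
    exacts [om_zero ω, om_one ω, om_zero ω, om_zero ω, om_zero ω, rfl, om_zero ω, om_zero ω]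
  rw [mul_apply]
  simp only [mul_dg]
  intro e
  fin_cases i <;> fin_cases j <;> first | exact absurd hi (by decide) | exact absurd hj (by decide) | skip
  all_goals
    simp only [w0, w1, gY, rot, adj, gP, gQ, Fin.sum_univ_four, _root_.Fin.zero_eta, _root_.Fin.isValue, _root_.Matrix.of_apply, _root_.Sum.elim_inl, _root_.Matrix.cons_val_zero, _root_.neg_mul, _root_.mul_neg, _root_.Nat.succ_eq_add_one, _root_.Nat.reduceAdd, _root_.Sum.swap_swap, _root_.Sum.swap_inr, _root_.Fintype.sum_sum_type, _root_.Sum.inl.injEq, _root_.Sum.swap_inl, _root_.Sum.elim_inr, _root_.reduceCtorEq, ↓ _root_.reduceIte, _root_.zero_add, _root_.neg_neg, _root_.zero_ne_one, _root_.Matrix.cons_val_one, _root_.mul_one, _root_.Fin.reduceEq, _root_.Matrix.cons_val, _root_.MulZeroClass.mul_zero, _root_.neg_zero, _root_.add_zero, _root_.Fin.mk_one, _root_.one_ne_zero] at e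
    have h1 := h.eq
    apply h0
    (clear * - ht h0 e h1; grobner)

end gen

end Cfsg.Agent.TH.Cl.D4
end

-- part: TH/Cl/D4/Lem
section
/-!
# S3541, `PΩ₈⁺(q)`: three matrix lemmas (helper60)
-/

set_option autoImplicit false

namespace Cfsg.Agent.TH.Cl.D4

open Matrix

variable {F : Type} [Field F] {ω : F}

theorem trace_dg_mul (ω : F) (i : Fin 4) (M : M8 F) :
    (dg ω (e3 i) * M).trace = M.trace + (ω - 1) * M (.inl i) (.inl i) + (ω ^ 2 - 1) * M (.inr i) (.inr i) := by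
  have w : ∀ a, om ω (wt a (e3 i)) = 1 + (if a = .inl i then ω - 1 else 0) + if a = .inr i then ω ^ 2 - 1 else 0 := by
    intro a
    by_cases e : ix a = i
    · rcases a with j | j <;> obtain rfl : j = i := e
      · simp [wt, e3, om_one]
      · simp [wt, e3, om_neg_one]
    · rw [wt_e3_of_ne e, om_zero, if_neg (by rintro rfl; exact e rfl), if_neg (by rintro rfl; exact e rfl)]
      ring
  simp only [trace, diag_apply, dg_mul', w, add_mul, Finset.sum_add_distrib, one_mul, ite_mul, zero_mul,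
    Finset.sum_ite_eq', Finset.mem_univ, if_true]

theorem sq_sum {A : Type*} [Ring A] {a b c ε : A} (h : a * b * c = 1) (h' : c * a * b = 1) (ha : a * a = ε)
    (hb : b * b = ε) (hc : c * c = ε) (hε : ε = 1 ∨ ε = -1) :
    (a + b + c) * (a + b + c) = 3 * ε + (ε + 1) * (a + b + c) := by
  have h1 : a * b = ε * c := by
    rcases hε with rfl | rfl
    · rw [one_mul, ← mul_one (a * b), ← hc, ← mul_assoc, h, one_mul]
    · rw [neg_mul, one_mul, ← neg_eq_iff_eq_neg, ← mul_neg_one, ← hc, ← mul_assoc, h, one_mul]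
  have h2 : b * c = ε * a := by
    rcases hε with rfl | rfl
    · rw [one_mul, ← one_mul (b * c), ← ha, mul_assoc, ← mul_assoc a b, h, mul_one]
    · rw [neg_mul, one_mul, ← neg_eq_iff_eq_neg, ← neg_one_mul, ← ha, mul_assoc, ← mul_assoc a b, h, mul_one]
  have h3 : c * a = ε * b := by
    rcases hε with rfl | rfl
    · rw [one_mul, ← mul_one (c * a), ← hb, ← mul_assoc, h', one_mul]
    · rw [neg_mul, one_mul, ← neg_eq_iff_eq_neg, ← mul_neg_one, ← hb, ← mul_assoc, h', one_mul]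
  have h0 : ∀ x : A, ε * (ε * x) = x := fun x => by rcases hε with rfl | rfl <;> simp
  have h0' : ∀ x y : A, x * (ε * y) = ε * (x * y) := fun x y => by rcases hε with rfl | rfl <;> simp
  have h4 : b * a = c := by rw [← h0 a, ← h2, h0', ← mul_assoc b, hb, h0]
  have h5 : c * b = a := by rw [← h0 b, ← h3, h0', ← mul_assoc c, hc, h0]
  have h6 : a * c = b := by rw [← h0 c, ← h1, h0', ← mul_assoc a, ha, h0]
  simp only [mul_add, add_mul, h1, h2, h3, h4, h5, h6, ha, hb, hc]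
  noncomm_ring

theorem adj_add (M N : M8 F) : adj (M + N) = adj M + adj N := rfl

theorem Iso.adj_eq {M : M8 F} (hM : Iso M) {ε : M8 F} (h : M * M = ε) (hε : ε = 1 ∨ ε = -1) : D4.adj M = ε * M := by
  rw [← one_mul (D4.adj M), show (1 : M8 F) = ε * (M * M) by rcases hε with rfl | rfl <;> simp [h], mul_assoc,
    mul_assoc, hM.mul_adj, mul_one]

attribute [-instance] instNoNatZeroDivisorsOfIsAddTorsionFree instIsCharPOfIsLeftCancelAddOfCharP in
/-- the commutator of a rotation with an element of a group of symplectic type -/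
theorem Om.false_of_trace (h : Om ω) (h2 : (2 : F) ≠ 0) (i : Fin 4) {Δ : M8 F} (hΔ : Iso Δ)
    (h3 : (dg ω (e3 i) * Δ) ^ 3 = 1) (ht : (dg ω (e3 i) * Δ).trace = (dg ω (e3 i)).trace)
    (hε : Δ * Δ = 1 ∨ Δ * Δ = -1) (h0 : Δ.trace = 0) : False := by
  set X := dg ω (e3 i) with hX
  have hI : Iso X := h.iso_dg _
  have x3 : X * (X * X) = 1 := by
    rw [hX, h.dg_mul, h.dg_mul, ← dg_zero ω]
    congr 1
    funext j
    simp only [Pi.add_apply, Pi.zero_apply]
    generalize e3 i j = k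
    revert k
    decide
  have x3' : ∀ M : M8 F, X * (X * (X * M)) = M := fun M => by
    rw [← mul_assoc X X M, ← mul_assoc, x3, one_mul]
  rw [pow_three] at h3
  have e1 : ∀ M : M8 F, (Δ * Δ) * M = M * (Δ * Δ) := fun M => by rcases hε with e | e <;> simp [e]
  have a1 : X * Δ * (X * X) * (X * X * Δ * X) * Δ = 1 := by simpa only [mul_assoc, x3'] using h3
  have a2 : Δ * (X * Δ * (X * X)) * (X * X * Δ * X) = 1 := by
    rw [mul_assoc]
    exact mul_eq_one_comm.1 a1
  have a3 : X * Δ * (X * X) * (X * Δ * (X * X)) = Δ * Δ := by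
    simp only [mul_assoc, x3']
    rw [← mul_assoc Δ, e1, ← mul_assoc, x3, one_mul]
  have a4 : X * X * Δ * X * (X * X * Δ * X) = Δ * Δ := by
    simp only [mul_assoc, x3']
    rw [← mul_assoc Δ, e1, x3']
  have a5 := sq_sum a1 a2 a3 a4 rfl hε
  have a6 : adj (X * Δ * (X * X) + X * X * Δ * X + Δ) = Δ * Δ * (X * Δ * (X * X) + X * X * Δ * X + Δ) := by
    rw [adj_add, adj_add, ((hI.mul hΔ).mul (hI.mul hI)).adj_eq a3 hε, (((hI.mul hI).mul hΔ).mul hI).adj_eq a4 hε,
      hΔ.adj_eq rfl hε, mul_add, mul_add]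
  have a7 : (X * Δ * (X * X) + X * X * Δ * X + Δ) * X = X * (X * Δ * (X * X) + X * X * Δ * X + Δ) := by
    simp only [mul_add, add_mul, mul_assoc, x3', x3, mul_one]
    abel
  have a8 : (X * Δ * (X * X) + X * X * Δ * X + Δ).trace = 0 := by
    rw [trace_add, trace_add, trace_mul_comm, trace_mul_comm _ X]
    simp only [mul_assoc, x3', h0, add_zero]
  have a9 : (X * (X * Δ * (X * X) + X * X * Δ * X + Δ)).trace = 15 := by
    have b1 : X.trace = 5 := by
      have := trace_dg_mul ω i 1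
      rw [mul_one, trace_one, one_apply_eq, one_apply_eq] at this
      rw [this]
      simp only [Fintype.card_sum, Fintype.card_fin]
      push_cast
      linear_combination h.eq
    rw [mul_add, mul_add, trace_add, trace_add, ← mul_assoc X, trace_mul_comm _ (X * X)]
    simp only [mul_assoc, x3']
    rw [trace_mul_comm Δ, ht, b1]
    norm_num
  generalize X * Δ * (X * X) + X * X * Δ * X + Δ = η at a5 a6 a7 a8 a9
  rw [hX, trace_dg_mul, a8] at a9
  have b2 : (η * η) (.inl i) (.inl i) = η (.inl i) (.inl i) ^ 2 := by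
    rw [mul_apply, Finset.sum_eq_single (.inl i), pow_two]
    · intro b _ hb
      by_contra h0
      rcases wt_e3_cases (h.tw_iff.1 a7 _ _ (left_ne_zero_of_mul h0)) with e | e
      · exact hb e.symm
      · exact e.1 rfl
    · exact fun e => absurd (Finset.mem_univ _) e
  have b3 : η (.inr i) (.inr i) = _ := congrFun (congrFun a6 (.inl i)) (.inl i)
  have b4 := h.eq
  rw [a5] at b2
  have b5 : ∀ n : ℕ, (2 : F) ^ n * 3 ^ n ≠ 0 := fun n => mul_ne_zero (pow_ne_zero _ h2) (pow_ne_zero _ h.three)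
  have b6 : (3 : M8 F) (.inl i) (.inl i) = 3 := by
    rw [show (3 : M8 F) = 1 + 1 + 1 by norm_num, Matrix.add_apply, Matrix.add_apply, one_apply_eq]
    norm_num
  rcases hε with e | e <;> rw [e] at b2 b3
  · rw [mul_one, add_mul, one_mul, Matrix.add_apply, Matrix.add_apply, b6] at b2
    rw [one_mul] at b3
    apply b5 5
    (clear * - a9 b2 b3 b4; grobner)
  · rw [neg_add_cancel, zero_mul, add_zero, mul_neg_one, Matrix.neg_apply, b6] at b2
    rw [neg_one_mul, Matrix.neg_apply] at b3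
    apply b5 3
    (clear * - a9 b2 b3 b4; grobner)

theorem col_eq {N : M8 F} {b b' : I8} (h : ∀ a, N a b ≠ 0 → a = b') :
    N *ᵥ Pi.single b 1 = N b' b • Pi.single b' 1 := by
  funext a
  rw [mulVec_single_one, Pi.smul_apply, smul_eq_mul]
  by_cases e : a = b'
  · rw [e, Pi.single_eq_same, mul_one]; rfl
  · rw [Pi.single_eq_of_ne e, mul_zero]
    by_contra h0
    exact e (h a h0)

theorem eig_eq_one {N : M8 F} (h3 : (N - 1) ^ 3 = 0) {b : I8} {t : F} (h : N *ᵥ Pi.single b 1 = t • Pi.single b 1) :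
    t = 1 := by
  have h1 : (N - 1) *ᵥ Pi.single b 1 = (t - 1) • Pi.single b 1 := by rw [sub_mulVec, one_mulVec, h, sub_smul, one_smul]
  have h2 := congrFun (congrArg (· *ᵥ Pi.single b 1) h3) b
  simp only [pow_three, ← mulVec_mulVec, h1, mulVec_smul, zero_mulVec, Pi.smul_apply, Pi.single_eq_same, smul_eq_mul,
    mul_one, Pi.zero_apply, mul_eq_zero, or_self] at h2
  exact sub_eq_zero.1 h2

/-- a unipotent isometry which normalises the rotations of a plane fixes a non-singular vector of the plane -/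
theorem Om.exists_fix (h : Om ω) {N : M8 F} (hN : Iso N) {i : Fin 4} {s : ZMod 3} (hs : s ≠ 0)
    (e : N * dg ω (e3 i) = dg ω (s • e3 i) * N) (h3 : (N - 1) ^ 3 = 0) :
    ∃ Y, N *ᵥ Y = Y ∧ qf Y ≠ 0 ∧ ∀ b, Y b ≠ 0 → ix b = i := by
  have h1 := h.tw_iff.1 e
  have h2 : ∀ t : F, t ≠ 0 → qf (Pi.single (Sum.inl i : I8) 1 + t • Pi.single (Sum.inr i : I8) 1 : I8 → F) ≠ 0 ∧
      ∀ b, (Pi.single (Sum.inl i : I8) 1 + t • Pi.single (Sum.inr i : I8) 1 : I8 → F) b ≠ 0 → ix b = i := fun t ht => by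
    refine ⟨?_, fun b hb => ?_⟩
    · rw [qf_add, qf_smul, qf_single, qf_single, bf_comm, bf_smul, bf_single]
      simpa using ht
    · by_contra e
      exact hb (by
        rw [Pi.add_apply, Pi.smul_apply, Pi.single_eq_of_ne (by rintro rfl; exact e rfl),
          Pi.single_eq_of_ne (by rintro rfl; exact e rfl), smul_zero, add_zero])
  rcases z3 s with rfl | rfl | rfl
  · exact absurd rfl hs
  · rw [one_smul] at h1
    have a1 : ∀ b, ix b = i → N *ᵥ Pi.single b 1 = Pi.single b 1 := fun b hb => by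
      have := col_eq (N := N) (b := b) (b' := b) fun a ha => (wt_e3_cases (h1 a b ha)).resolve_right fun e => e.2 hb
      rw [this, eig_eq_one h3 this, one_smul]
    refine ⟨_, ?_, h2 1 one_ne_zero⟩
    rw [mulVec_add, mulVec_smul, a1 _ rfl, a1 _ rfl]
  · have a1 : ∀ b, ix b = i → N *ᵥ Pi.single b 1 = N b.swap b • Pi.single b.swap 1 := fun b hb =>
      col_eq fun a ha => by
        have a2 := h1 a b ha
        rw [neg_one_smul, wt_neg, ← wt_swap] at a2
        rw [← (wt_e3_cases a2).resolve_right fun e => e.2 hb, Sum.swap_swap]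
    have a2 := hN.bf (Pi.single (Sum.inl i : I8) 1) (Pi.single (Sum.inr i : I8) 1)
    rw [a1 _ rfl, a1 _ rfl, bf_smul, bf_comm, bf_smul, bf_single, bf_single] at a2
    simp only [Sum.swap_inl, Sum.swap_inr, Pi.single_eq_same, mul_one] at a2
    refine ⟨_, ?_, h2 _ (left_ne_zero_of_mul_eq_one a2)⟩
    rw [mulVec_add, mulVec_smul, a1 _ rfl, a1 _ rfl, smul_smul, add_comm]
    simp only [Sum.swap_inl, Sum.swap_inr, a2, one_smul]

theorem two_nil {M : M8 F} {μ : I8 → I8} (h1 : ∀ a, μ (μ a) = a) (h2 : ∀ a, μ a ≠ a)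
    (h : ∀ a b, M a b ≠ 0 → a = b ∨ a = μ b) (h3 : M ^ 3 = 0) : M ^ 2 = 0 := by
  have a1 : ∀ (N : M8 F) a b, (N * M) a b = N a b * M b b + N a (μ b) * M (μ b) b := fun N a b => by
    rw [mul_apply, Finset.sum_eq_add_of_mem b (μ b) (Finset.mem_univ _) (Finset.mem_univ _) (h2 b).symm]
    intro c _ hc
    by_contra h0
    rcases h _ _ (right_ne_zero_of_mul h0) with e | e
    exacts [hc.1 e, hc.2 e]
  have a2 : ∀ a b, ((M a b * M b b + M a (μ b) * M (μ b) b) * M b b +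
      (M a (μ b) * M (μ b) (μ b) + M a b * M b (μ b)) * M (μ b) b) = 0 := fun a b => by
    have := congrFun (congrFun h3 a) b
    rwa [pow_three', a1, a1, a1, h1] at this
  ext a b
  rw [pow_two, a1, Matrix.zero_apply]
  have c1 := a2 b b
  have c2 := a2 (μ b) b
  have c3 := a2 b (μ b)
  have c4 := a2 (μ b) (μ b)
  rw [h1] at c3 c4
  have key : M b b + M (μ b) (μ b) = 0 ∧ M b b * M (μ b) (μ b) - M b (μ b) * M (μ b) b = 0 := by
    generalize M b b = α at *
    generalize M (μ b) (μ b) = δ at *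
    generalize M b (μ b) = β at *
    generalize M (μ b) b = γ at *
    have d1 : α * δ - β * γ = 0 := by
      refine pow_eq_zero_iff (n := 3) (by norm_num) |>.1 ?_
      linear_combination ((β * γ + δ * δ) * δ + (γ * β) * (α + δ) - 0) * c1 -
        ((β * α + δ * β) * α + (β * γ + δ * δ) * β - (α * α - α * α)) * c2 + 0 * c3 + 0 * c4
    refine ⟨pow_eq_zero_iff (n := 3) (by norm_num) |>.1 ?_, d1⟩
    linear_combination c1 + c4 + 3 * (α + δ) * d1
  by_cases e1 : a = b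
  · rw [e1]
    linear_combination M b b * key.1 - key.2
  by_cases e2 : a = μ b
  · rw [e2]
    linear_combination M (μ b) b * key.1
  have f1 : M a b = 0 := by
    by_contra h0
    exact (h _ _ h0).elim e1 e2
  have f2 : M a (μ b) = 0 := by
    by_contra h0
    exact (h _ _ h0).elim e2 fun e => e1 (e.trans (h1 b))
  rw [f1, f2, zero_mul, zero_mul, add_zero]

/-- the element with centraliser `GL₄^ε` -/
def jj (σ : ZMod 3) : W3 := ![1, 1, 1, σ]

/-- a conjugate -/
def jk (σ : ZMod 3) : W3 := ![1, 1, -1, -σ]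

theorem exists_partner : ∀ σ : ZMod 3, σ ≠ 0 → ∃ μ : I8 → I8, (∀ a, μ (μ a) = a) ∧ (∀ a, μ a ≠ a) ∧
    ∀ a b, wt a (jj σ) = wt b (jj σ) → wt a (jk σ) = wt b (jk σ) → a = b ∨ a = μ b := by
  intro σ hσ
  rcases z3 σ with rfl | rfl | rfl
  · exact absurd rfl hσ
  · exact ⟨Sum.elim ![.inl 1, .inl 0, .inl 3, .inl 2] ![.inr 1, .inr 0, .inr 3, .inr 2], by decide, by decide,
      by decide +kernel⟩
  · exact ⟨Sum.elim ![.inl 1, .inl 0, .inr 3, .inr 2] ![.inr 1, .inr 0, .inl 3, .inl 2], by decide, by decide,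
      by decide +kernel⟩

theorem wt_jk : ∀ σ : ZMod 3, σ ≠ 0 → ∀ a, wt a (jk σ) ≠ wt a (-jk σ) := by decide

/-- a unipotent element of `GL₄^ε` which preserves a decomposition into two halves -/
theorem Om.sq_eq_zero (h : Om ω) {N : M8 F} {σ s : ZMod 3} (hσ : σ ≠ 0) (hs : s ≠ 0)
    (e1 : N * dg ω (jj σ) = dg ω (jj σ) * N) (e2 : N * dg ω (jk σ) = dg ω (s • jk σ) * N) (h3 : (N - 1) ^ 3 = 0) :
    (N - 1) ^ 2 = 0 := by
  rcases z3 s with rfl | rfl | rfl
  · exact absurd rfl hs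
  · rw [one_smul] at e2
    obtain ⟨μ, h1, h2, h4⟩ := exists_partner σ hσ
    refine two_nil h1 h2 (fun a b h0 => ?_) h3
    by_cases e : a = b
    · exact Or.inl e
    rw [Matrix.sub_apply, one_apply_ne e, sub_zero] at h0
    exact h4 a b (h.tw_iff.1 e1 a b h0) (h.tw_iff.1 e2 a b h0)
  · rw [neg_one_smul] at e2
    have e3 : N * dg ω (-jk σ) = dg ω (jk σ) * N := h.tw_iff.2 fun a b h0 => by
      rw [wt_neg, ← h.tw_iff.1 e2 a b h0, wt_neg, neg_neg]
    have e4 : N * N * dg ω (jk σ) = dg ω (jk σ) * (N * N) := by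
      rw [mul_assoc, e2, ← mul_assoc, e3, mul_assoc]
    have e5 : N * N * N + 3 * N = 3 * (N * N) + 1 := by
      rw [← sub_eq_zero, ← h3]
      noncomm_ring
    have c3 : ∀ M : M8 F, M * 3 = 3 * M := fun M => by noncomm_ring
    have e6 : (N * N * N + 3 * N) * dg ω (-jk σ) = (N * N * N + 3 * N) * dg ω (jk σ) := by
      calc _ = dg ω (jk σ) * (N * N * N + 3 * N) := by
            rw [add_mul, mul_assoc (N * N), e3, ← mul_assoc, e4, mul_assoc 3, e3, mul_add, ← mul_assoc 3, ← c3,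
              mul_assoc, mul_assoc (dg ω _)]
        _ = _ := by
            rw [e5, add_mul, mul_add, mul_assoc 3, e4, one_mul, mul_one, ← mul_assoc (dg ω _), c3, mul_assoc 3]
    have e7 : N * N * N + 3 * N = 0 := by
      ext a b
      have := congrFun (congrFun e6 a) b
      rw [mul_dg, mul_dg] at this
      by_contra h0
      exact wt_jk σ hσ b (h.om_inj (mul_left_cancel₀ h0 this)).symm
    have e8 : 3 * (N * N) + 1 = 0 := e5 ▸ e7
    have e9 : (8 : M8 F) * (N * N) = 0 := by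
      have : (8 : M8 F) * (N * N) = 3 * (N * (N * N * N + 3 * N)) - N * N * (3 * (N * N) + 1) := by noncomm_ring
      rw [this, e7, e8, mul_zero, mul_zero, mul_zero, sub_zero]
    have e10 : (8 : M8 F) = 0 := by
      have : (8 : M8 F) * 1 = 8 * (3 * (N * N) + 1) - 3 * (8 * (N * N)) := by noncomm_ring
      rw [← mul_one (8 : M8 F), this, e8, e9, mul_zero, mul_zero, sub_zero]
    have e11 : (2 : F) = 0 := by
      have := congrFun (congrFun e10 (.inl 0)) (.inl 0)
      rw [show (8 : M8 F) = ((8 : ℕ) : M8 F) by norm_num, Matrix.natCast_apply, if_pos rfl, Matrix.zero_apply] at this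
      exact pow_eq_zero_iff (n := 3) (by norm_num) |>.1 (by rw [← this]; norm_num)
    have e12 : (2 : M8 F) = 0 := by
      rw [show (2 : M8 F) = (2 : F) • (1 : M8 F) by rw [two_smul]; norm_num, e11, zero_smul]
    have : (N - 1) ^ 2 = 3 * (N * N) + 1 - 2 * (N * N + N) := by noncomm_ring
    rw [this, e8, e12, zero_mul, sub_zero]

end Cfsg.Agent.TH.Cl.D4
end

-- part: TH/Cl/D4/Dat
section
/-!
# S3541, `PΩ₈⁺(q)`: the matrix model (helper60)

`Dat T Ω F`: the socle `T` is the image of a group `Ω` of isometries over a field `F` with a primitive cube root of unity.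
`Dat.dg_of_ab`: an elementary abelian group normalised by `3⁴` is centralised by it.
-/

set_option autoImplicit false

namespace Cfsg.Agent.TH.Cl.D4

open Matrix

/-- the model -/
structure Dat {G : Type} [Group G] (T : Subgroup G) (Ω F : Type) [Group Ω] [Field F] where
  ω : F
  R : Subring (F × F)
  ρ : Ω →* M8 F
  π : Ω →* G
  G₀ : Subgroup G
  X : Set G
  om : Om ω
  rw : Rw ω R
  neg : ∃ α β, (α, β) ∈ R ∧ α * β = -1
  inj : Function.Injective ρ
  iso : ∀ g, Iso (ρ g)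
  mem : ∀ g, π g ∈ T
  surj : ∀ t ∈ T, ∃ g, π g = t
  ker : ∀ g, π g = 1 ↔ ρ g = 1 ∨ ρ g = -1
  ex : ∀ N, Iso N → Rl R N → ∃ g, ρ g = N * N
  le : T ≤ G₀
  idx : G₀.index ≤ 3
  inv : ∀ g ∈ G₀, ∀ t ∈ X, g * t * g⁻¹ ∈ X
  xx : ∀ g c, ρ g = dg ω c → (π g ∈ X ↔ ∃ i, ∃ s : ZMod 3, s ≠ 0 ∧ c = s • e3 i)

namespace Dat

variable {G : Type} [Group G] {T : Subgroup G} {Ω F : Type} [Group Ω] [Field F] (D : Dat T Ω F)

theorem ex3 {M : M8 F} (h1 : Iso M) (h2 : Rl D.R M) (h3 : M ^ 3 = 1) : ∃ g, D.ρ g = M := by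
  obtain ⟨g, hg⟩ := D.ex _ (h1.mul h1) (h2.mul h2)
  exact ⟨g, by rw [hg, ← mul_assoc, ← pow_two, ← pow_succ, h3, one_mul]⟩

theorem three_smul (c : W3) : c + (c + c) = 0 := by
  funext j
  simp only [Pi.add_apply, Pi.zero_apply]
  generalize c j = k
  revert k
  decide

theorem exists_x (c : W3) : ∃ g, D.ρ g = dg D.ω c :=
  D.ex3 (D.om.iso_dg c) (D.rw.dg c) (by rw [pow_three, D.om.dg_mul, D.om.dg_mul, three_smul, dg_zero])

/-- the group `3⁴` -/
noncomputable def x (c : W3) : Ω := (D.exists_x c).choose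

theorem ρ_x (c : W3) : D.ρ (D.x c) = dg D.ω c := (D.exists_x c).choose_spec

theorem x_add (c d : W3) : D.x (c + d) = D.x c * D.x d := D.inj (by rw [map_mul, ρ_x, ρ_x, ρ_x, D.om.dg_mul])

theorem x_zero : D.x 0 = 1 := D.inj (by rw [ρ_x, dg_zero, map_one])

theorem x_neg (c : W3) : D.x (-c) = (D.x c)⁻¹ := eq_inv_of_mul_eq_one_left (by rw [← x_add, neg_add_cancel, x_zero])

theorem x_cube (c : W3) : D.x c ^ 3 = 1 := by rw [pow_three, ← x_add, ← x_add, three_smul, x_zero]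

theorem ρ_inv (g : Ω) : D.ρ g⁻¹ = adj (D.ρ g) := by
  rw [← one_mul (D.ρ g⁻¹), ← (D.iso g).adj_mul, mul_assoc, ← map_mul, mul_inv_cancel, map_one, mul_one]

theorem central {z : Ω} (h : D.π z = 1) (g : Ω) : z * g = g * z := D.inj (by
  rw [map_mul, map_mul]
  rcases (D.ker z).1 h with e | e <;> simp [e])

theorem ker_sq {z : Ω} (h : D.π z = 1) : z ^ 2 = 1 := D.inj (by
  rw [map_pow, map_one]
  rcases (D.ker z).1 h with e | e <;> simp only [e, _root_.one_pow, _root_.even_two, _root_.Even.neg_pow])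

theorem eq_of_cube {g h : Ω} (e : D.π g = D.π h) (hg : g ^ 3 = 1) (hh : h ^ 3 = 1) : g = h := by
  have h1 : D.π (g * h⁻¹) = 1 := by rw [map_mul, map_inv, e, mul_inv_cancel]
  have h2 : (g * h⁻¹ * h) ^ 3 = (g * h⁻¹) ^ 3 * h ^ 3 := Commute.mul_pow (D.central h1 h) 3
  rw [inv_mul_cancel_right, hg, hh, mul_one, pow_succ, D.ker_sq h1, one_mul] at h2
  exact mul_inv_eq_one.1 h2.symm

theorem comm3 {g h : Ω} (hg : g ^ 3 = 1) (e : D.π g * D.π h = D.π h * D.π g) : g * h = h * g :=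
  (mul_inv_eq_iff_eq_mul.1 (D.eq_of_cube (g := h * g * h⁻¹)
    (by rw [map_mul, map_mul, map_inv, ← e, mul_inv_cancel_right]) (by rw [conj_pow, hg, mul_one, mul_inv_cancel])
    hg)).symm

theorem lift3 {t : G} (ht : t ∈ T) (h3 : t ^ 3 = 1) : ∃ g, D.π g = t ∧ g ^ 3 = 1 := by
  obtain ⟨g, rfl⟩ := D.surj t ht
  refine ⟨g ^ 4, by rw [map_pow, pow_succ, h3, one_mul], ?_⟩
  rw [← pow_mul, show 4 * 3 = 3 * 2 * 2 from rfl, pow_mul, pow_mul, D.ker_sq (z := g ^ 3) (by rw [map_pow, h3]),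
    one_pow]

/-- the group `3⁴` in `G` -/
noncomputable def y (c : W3) : G := D.π (D.x c)

theorem y_add (c d : W3) : D.y (c + d) = D.y c * D.y d := by rw [y, x_add, map_mul]; rfl

theorem y_zero : D.y 0 = 1 := by rw [y, x_zero, map_one]

theorem y_neg (c : W3) : D.y (-c) = (D.y c)⁻¹ := by rw [y, x_neg, map_inv]; rfl

theorem y_cube (c : W3) : D.y c ^ 3 = 1 := by rw [y, ← map_pow, x_cube, map_one]

theorem y_comm (c d : W3) : D.y c * D.y d = D.y d * D.y c := by rw [← y_add, ← y_add, add_comm]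

theorem y_mem (c : W3) : D.y c ∈ T := D.mem _

theorem y_inj {c d : W3} (h : D.y c = D.y d) : c = d :=
  D.om.dg_inj (by rw [← ρ_x, ← ρ_x, D.eq_of_cube h (D.x_cube c) (D.x_cube d)])

theorem y_X {c : W3} : D.y c ∈ D.X ↔ ∃ i, ∃ s : ZMod 3, s ≠ 0 ∧ c = s • e3 i := D.xx _ c (D.ρ_x c)

theorem y_e3 (i : Fin 4) : D.y (e3 i) ∈ D.X := D.y_X.2 ⟨i, 1, one_ne_zero, (one_smul _ _).symm⟩

theorem y_smul (s : ZMod 3) (c : W3) : D.y (s • c) = D.y c ^ s.val := by
  rcases z3 s with rfl | rfl | rfl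
  · rw [zero_smul, y_zero]; exact (pow_zero _).symm
  · rw [one_smul]; exact (pow_one _).symm
  · rw [neg_one_smul, y_neg, inv_eq_iff_mul_eq_one, ← pow_succ']; exact D.y_cube c

/-- the group `3⁴` as a subgroup of `G` -/
def A : Subgroup G where
  carrier := {g | ∃ c, g = D.y c}
  mul_mem' := by
    rintro _ _ ⟨c, rfl⟩ ⟨d, rfl⟩
    exact ⟨c + d, (D.y_add c d).symm⟩
  one_mem' := ⟨0, D.y_zero.symm⟩
  inv_mem' := by
    rintro _ ⟨c, rfl⟩
    exact ⟨-c, (D.y_neg c).symm⟩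

theorem y_mem_A (c : W3) : D.y c ∈ D.A := ⟨c, rfl⟩

theorem mem_of_e3 {K : Subgroup G} (h : ∀ i, D.y (e3 i) ∈ K) (c : W3) : D.y c ∈ K := by
  have h1 : c = c 0 • e3 0 + c 1 • e3 1 + c 2 • e3 2 + c 3 • e3 3 := by
    funext j
    fin_cases j <;> simp [e3]
  rw [h1, y_add, y_add, y_add, y_smul, y_smul, y_smul, y_smul]
  exact mul_mem (mul_mem (mul_mem (pow_mem (h _) _) (pow_mem (h _) _)) (pow_mem (h _) _)) (pow_mem (h _) _)

theorem tw_iff {g : Ω} {c d : W3} : g * D.x c * g⁻¹ = D.x d ↔ ∀ a b, D.ρ g a b ≠ 0 → wt a d = wt b c := by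
  rw [mul_inv_eq_iff_eq_mul, ← D.inj.eq_iff, map_mul, map_mul, ρ_x, ρ_x, D.om.tw_iff]

theorem comm_iff {g : Ω} {c : W3} : g * D.x c = D.x c * g ↔ ∀ a b, D.ρ g a b ≠ 0 → wt a c = wt b c := by
  rw [← tw_iff, mul_inv_eq_iff_eq_mul]

theorem conj_y {g : Ω} {c d : W3} (h : g * D.x c * g⁻¹ = D.x d) : D.π g * D.y c * (D.π g)⁻¹ = D.y d := by
  rw [y, y, ← h, map_mul, map_mul, map_inv]

theorem of_conj_y {g : Ω} {c d : W3} (h : D.π g * D.y c * (D.π g)⁻¹ = D.y d) : g * D.x c * g⁻¹ = D.x d :=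
  D.eq_of_cube (by rw [map_mul, map_mul, map_inv]; exact h) (by rw [conj_pow, x_cube, mul_one, mul_inv_cancel])
    (D.x_cube d)

theorem dg_of_comm {g : Ω} (h : ∀ i, g * D.x (e3 i) = D.x (e3 i) * g) : Dg (D.ρ g) :=
  fun a b h0 => eq_of_wt fun i => D.comm_iff.1 (h i) a b h0

theorem comm_of_dg {g : Ω} (h : Dg (D.ρ g)) (c : W3) : g * D.x c = D.x c * g :=
  D.comm_iff.2 fun a b h0 => by rw [h a b h0]

theorem exists_x_eq {g : Ω} (h : Dg (D.ρ g)) (h3 : g ^ 3 = 1) : ∃ c, g = D.x c := by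
  obtain ⟨c, hc⟩ := D.om.exists_dg h (D.iso g) (by rw [← map_pow, h3, map_one])
  exact ⟨c, D.inj (by rw [hc, ρ_x])⟩

/-- an element of order three of the socle which centralises `3⁴` -/
theorem mem_A {t : G} (ht : t ∈ T) (h3 : t ^ 3 = 1) (h : ∀ c, t * D.y c = D.y c * t) : t ∈ D.A := by
  obtain ⟨g, rfl, hg⟩ := D.lift3 ht h3
  obtain ⟨c, rfl⟩ := D.exists_x_eq (D.dg_of_comm fun i => D.comm3 hg (h _)) hg
  exact ⟨c, rfl⟩

theorem exists_pm {σ : Equiv.Perm I8} (h1 : Iso (pm F σ)) (h2 : ∀ a, σ a.swap = (σ a).swap) :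
    ∃ g, D.ρ g = pm F (σ * σ) := by
  obtain ⟨g, hg⟩ := D.ex _ h1 (rl_pm D.R h2)
  exact ⟨g, by rw [hg, pm_mul_pm]⟩

theorem exists_sp (s : Equiv.Perm (Fin 4)) : ∃ g, D.ρ g = pm F (sp (s * s)) := by
  rw [← sp_mul]
  exact D.exists_pm (iso_sp s) (sp_swap s)

theorem conj_pm {g : Ω} {σ : Equiv.Perm I8} (hg : D.ρ g = pm F σ) {c d : W3} (h : ∀ a, wt (σ a) d = wt a c) :
    g * D.x c * g⁻¹ = D.x d := D.tw_iff.2 fun a b h0 => by
  rw [hg] at h0
  rw [pm_ne h0, h]

theorem pow_eq_one_of_nil {p : ℕ} [hp : Fact p.Prime] [CharP F p] {g : Ω} {k : ℕ} (h : (D.ρ g - 1) ^ k = 0) :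
    g ^ p ^ k = 1 := D.inj (by
  have h1 := sub_pow_char_pow_of_commute p k (Commute.one_right (D.ρ g))
  rw [pow_eq_zero_of_le (Nat.lt_pow_self hp.1.one_lt).le h, one_pow] at h1
  rw [map_pow, map_one]
  exact sub_eq_zero.1 h1.symm)

/-- **abelian groups normalised by `3⁴`** -/
theorem dg_of_ab {p : ℕ} [hp : Fact p.Prime] [CharP F p] [PerfectField F] {E : Subgroup G} {r : ℕ} (hr : r.Prime)
    (hrp : r ≠ p) (hpow : ∀ e ∈ E, e ^ r = 1) (hc : ∀ a ∈ E, ∀ b ∈ E, a * b = b * a)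
    (hn : ∀ c, ∀ e ∈ E, D.y c * e * (D.y c)⁻¹ ∈ E) {g : Ω} (hg : D.π g ∈ E) : Dg (D.ρ g) := by
  have hr0 : (r : F) ≠ 0 := fun e => hrp ((Nat.prime_dvd_prime_iff_eq hp.1 hr).1 ((CharP.cast_eq_zero_iff F p r).1 e)).symm
  have h1 : ∀ g, D.π g ∈ E → D.π (g ^ r) = 1 := fun g hg => by rw [map_pow, hpow _ hg]
  obtain ⟨n, hn0, hn1⟩ : ∃ n : ℕ, (n : F) ≠ 0 ∧ ∀ g, D.π g ∈ E → D.ρ g ^ n = 1 := by
    by_cases h2 : (2 : F) = 0
    · refine ⟨r, hr0, fun g hg => ?_⟩
      rw [← map_pow]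
      refine ((D.ker _).1 (h1 g hg)).elim id fun e => e.trans ?_
      rw [neg_eq_iff_add_eq_zero, ← two_smul F, h2, zero_smul]
    · refine ⟨r * 2, by push_cast; exact mul_ne_zero hr0 h2, fun g hg => ?_⟩
      rw [← map_pow, pow_mul, D.ker_sq (h1 g hg), map_one]
  have hn' : ∀ c g, D.π g ∈ E → D.π (D.x c * g * (D.x c)⁻¹) ∈ E := fun c g hg => by
    rw [map_mul, map_mul, map_inv]
    exact hn c _ hg
  have hZ : ∀ g, D.π g ∈ E → (∀ h, D.π h ∈ E → g * h = h * g) → Dg (D.ρ g) := fun g hg hg' => by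
    refine dg_of_comm_set D.om (S := D.ρ '' {g | D.π g ∈ E ∧ ∀ h, D.π h ∈ E → g * h = h * g}) ?_ ?_ hn0 ?_
      ⟨g, ⟨hg, hg'⟩, rfl⟩
    · rintro c _ ⟨g, ⟨a1, a2⟩, rfl⟩
      refine ⟨D.x c * g * (D.x c)⁻¹, ⟨hn' c g a1, fun h hh => ?_⟩, by rw [← x_neg, map_mul, map_mul, ρ_x, ρ_x]⟩
      have := a2 _ (hn' (-c) h hh)
      rw [x_neg, inv_inv] at this
      calc _ = D.x c * (g * ((D.x c)⁻¹ * h * D.x c)) * (D.x c)⁻¹ := by group
        _ = _ := by rw [this]; group
    · rintro _ ⟨g, ⟨-, a2⟩, rfl⟩ _ ⟨h, ⟨a3, -⟩, rfl⟩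
      rw [← map_mul, ← map_mul, a2 h a3]
    · rintro _ ⟨g, ⟨a1, -⟩, rfl⟩
      exact hn1 g a1
  have hz : ∀ g h, D.π g ∈ E → D.π h ∈ E → D.π (g * h * g⁻¹ * h⁻¹) = 1 := fun g h hg hh => by
    rw [map_mul, map_mul, map_mul, map_inv, map_inv, hc _ hg _ hh, mul_inv_cancel_right, mul_inv_cancel]
  rcases hr.eq_two_or_odd' with rfl | ⟨k, rfl⟩
  swap
  · refine hZ g hg fun h hh => ?_
    have a1 := hz g h hg hh
    have a2 : (g * h * g⁻¹ * h⁻¹ * h) ^ (2 * k + 1) = (g * h * g⁻¹ * h⁻¹) ^ (2 * k + 1) * h ^ (2 * k + 1) :=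
      Commute.mul_pow (D.central a1 h) _
    rw [inv_mul_cancel_right, conj_pow, ← D.central (h1 h hh), mul_inv_cancel_right, pow_succ (g * h * g⁻¹ * h⁻¹),
      pow_mul, D.ker_sq a1, one_pow, one_mul, right_eq_mul] at a2
    exact mul_inv_eq_iff_eq_mul.1 (mul_inv_eq_one.1 a2)
  · refine D.dg_of_comm fun i => ?_
    have h2 : (2 : F) ≠ 0 := by exact_mod_cast hr0
    set u := D.x (e3 i) with hu
    have a1 : D.π (u⁻¹ * (g * u * g⁻¹)) ∈ E := by
      have := mul_mem (hn' (-e3 i) g hg) (inv_mem hg)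
      rw [x_neg, inv_inv, ← map_inv, ← map_mul] at this
      simpa only [mul_assoc] using this
    have a2 : (u * (u⁻¹ * (g * u * g⁻¹))) ^ 3 = 1 := by
      rw [mul_inv_cancel_left, conj_pow, x_cube, mul_one, mul_inv_cancel]
    have a3 : (u * (u⁻¹ * (g * u * g⁻¹))) * g = g * u := by group
    generalize u⁻¹ * (g * u * g⁻¹) = δ at a1 a2 a3
    have a4 : ∀ h, D.π h ∈ E → δ * h = h * δ := fun h hh => by
      rcases (D.ker _).1 (hz h δ hh a1) with e | e
      · rw [← map_one D.ρ] at e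
        exact (mul_inv_eq_iff_eq_mul.1 (mul_inv_eq_one.1 (D.inj e))).symm
      exfalso
      refine D.om.false_of_trace h2 i (D.iso δ) (by rw [← ρ_x, ← map_mul, ← map_pow, a2, map_one]) ?_
        (by rw [← map_mul, ← pow_two]; exact (D.ker _).1 (h1 δ a1)) ?_
      · rw [← ρ_x, ← map_mul, ← mul_inv_cancel_right (u * δ) g, a3, map_mul, trace_mul_comm, ← map_mul,
          inv_mul_cancel_left]
      · have b1 : D.ρ (h * δ * h⁻¹) = -D.ρ δ := by
          rw [← inv_mul_cancel_right (h * δ * h⁻¹) δ, map_mul, e, neg_one_mul]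
        have b2 := congrArg trace b1
        rw [map_mul, trace_mul_comm, ← map_mul, inv_mul_cancel_left, trace_neg, eq_neg_iff_add_eq_zero,
          ← two_mul] at b2
        exact (mul_eq_zero.1 b2).resolve_left h2
    have a5 := D.comm_of_dg (hZ δ a1 a4) (e3 i)
    rw [Commute.mul_pow a5.symm, x_cube, one_mul, pow_succ] at a2
    have a6 := D.ker_sq (h1 δ a1)
    rw [← pow_mul, show 2 * 2 = 2 + 1 + 1 from rfl, pow_succ, pow_succ, a2, one_mul] at a6
    rw [← a3, a6, mul_one]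

end Dat

end Cfsg.Agent.TH.Cl.D4
end

-- part: TH/Cl/Br/Tr
section
/-!
# S3541, classical socles: transport to the form rings (helper60)

* `lieCtx_map`, `hasOwn_of_map` : invariance of the standing hypotheses under isomorphisms;
* `exists_ctx` : from a model `ModE F X Γ` of the socle to `Ctx F G' H' m p`;
* `cent_U` : the centraliser of `F.S` in `F.Aut` is trivial for the unitary groups of dimension at least three.
-/

set_option autoImplicit false

namespace Cfsg.Agent.TH.Cl.Br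

open Subgroup Cfsg.Agent.DS.Cl Cfsg.Agent.DS.Cl.Fwd Cfsg.Agent.SB.Br

section groups

variable {G G' : Type*} [Group G] [Group G'] {T H : Subgroup G} {m p : ℕ}

theorem lieCtx_map (c : LieCtx T H m p) (e : G ≃* G') : LieCtx (T.map e.toMonoidHom) (H.map e.toMonoidHom) m p where
  as := c.as.map e
  half := c.half.map e
  prime := c.prime
  lie := (CpQuot.Congr.isLieTypeChar_iff (e.subgroupMap T) p).1 c.lie
  notL2 := fun ⟨F, i1, i2, h, ⟨f⟩⟩ => c.notL2 ⟨F, i1, i2, h, ⟨(e.subgroupMap T).trans f⟩⟩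
  notAlt := fun ⟨n, h, ⟨f⟩⟩ => c.notAlt ⟨n, h, ⟨(e.subgroupMap T).trans f⟩⟩

theorem hasOwn_of_equiv {H' : Subgroup G'} (e : H' ≃* H) (h : HasOwn p H') : HasOwn p H := by
  obtain ⟨E, ⟨h1, h2⟩, h3⟩ := h
  exact ⟨E.map e.toMonoidHom, ⟨h1.map e.surjective, (CpQuot.Congr.isQuasisimple_iff (e.subgroupMap E)).1 h2⟩,
    (CpQuot.Congr.isLieTypeChar_iff (CpQuot.Congr.cq (e.subgroupMap E)) p).1 h3⟩

theorem hasOwn_of_map (e : G ≃* G') (h : HasOwn p (H.map e.toMonoidHom)) : HasOwn p H :=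
  hasOwn_of_equiv (e.subgroupMap H).symm h

end groups

section transport

variable {A : Type} [Ring A] [StarRing A]

/-- **transport** from the abstract group to the form ring -/
theorem exists_ctx {F : FR A} {G : Type} [Group G] {T H : Subgroup G} {m p : ℕ} (hK : AllK) (c : LieCtx T H m p)
    (o : ¬ HasOwn p H) {X : Type} [Group X] (e₀ : T ≃* X) {Γ : Set (MulAut X)} (hmod : ModE F X Γ)
    (hΓ : ∀ g, ind c.as.normal e₀ g ∈ Γ)
    (hcent : F.Span → IsSimpleGroup F.S → ¬ IsMulCommutative F.S → ∀ γ ∈ F.Aut, (∀ s ∈ F.S, γ * s = s * γ) → γ = 1)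
    (hp : (p : A) = 0) : Nonempty (F.S ≃* X) ∧ ∃ G' H', Ctx F G' H' m p := by
  obtain ⟨hss, hspan, e, hΓ'⟩ := hmod
  have hT := c.as.normal
  have hTs := c.as.simple
  have hsimple : IsSimpleGroup F.S := (e.trans e₀.symm).isSimpleGroup
  have hnc : ¬ IsMulCommutative F.S := fun h => c.as.nonab ⟨⟨fun a b => (e₀.trans e.symm).injective (by
    rw [map_mul, map_mul, h.1.1])⟩⟩
  have hle : F.Aut ≤ normalizer (F.S : Set (RingAut A)) := fun γ hγ => by
    rw [mem_normalizer_iff]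
    refine fun s => ⟨FR.conj_mem_S hγ, fun h => ?_⟩
    have h1 := FR.conj_mem_S (inv_mem hγ) h
    simpa only [mul_assoc, _root_.inv_mul_cancel_left, _root_.inv_inv, _root_.inv_mul_cancel, _root_.mul_one] using h1
  let θ : F.Aut →* MulAut X :=
    (MulAut.congr e).toMonoidHom.comp (F.S.normalizerMonoidHom.comp (inclusion hle))
  have hθ : ∀ (γ : F.Aut) (s t : F.S), (t : RingAut A) = γ * s * (γ : RingAut A)⁻¹ → θ γ (e s) = e t := by
    intro γ s t h
    change e (F.S.normalizerMonoidHom (inclusion hle γ) (e.symm (e s))) = e t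
    rw [e.symm_apply_apply]
    exact congrArg e (Subtype.ext h.symm)
  have hinj : Function.Injective θ := by
    rw [injective_iff_map_eq_one]
    intro γ hγ
    refine Subtype.ext (hcent hspan hsimple hnc γ γ.2 fun s hs => ?_)
    have h1 := hθ γ ⟨s, hs⟩ ⟨_, FR.conj_mem_S γ.2 hs⟩ rfl
    rw [hγ] at h1
    exact mul_inv_eq_iff_eq_mul.1 (congrArg Subtype.val (e.injective h1)).symm
  have hsub : ∀ s : F.S, θ ⟨s, F.S_le_Aut s.2⟩ = MulAut.conj (e s) := fun s => by
    refine MulEquiv.ext fun x => ?_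
    obtain ⟨t, rfl⟩ := e.surjective x
    rw [hθ ⟨s, F.S_le_Aut s.2⟩ t (s * t * s⁻¹) rfl, map_mul, map_mul, map_inv]
    rfl
  let ι : G →* MulAut X := (MulAut.congr e₀).toMonoidHom.comp (MulAut.conjNormal (H := T))
  have hι : Function.Injective ι := by
    rw [injective_iff_map_eq_one]
    intro g hg
    have h1 : MulAut.conjNormal (H := T) g = 1 := (MulAut.congr e₀).injective (hg.trans (map_one _).symm)
    have h2 : g ∈ centralizer (T : Set G) := fun t ht => by
      have h3 : g * t * g⁻¹ = t := congrArg (fun x : T => (x : G)) (DFunLike.congr_fun h1 (⟨t, ht⟩ : T))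
      exact (mul_inv_eq_iff_eq_mul.1 h3).symm
    rwa [c.as.cent] at h2
  have hιT : ∀ t : T, ι t = MulAut.conj (e₀ t) := fun t => by
    refine MulEquiv.ext fun x => ?_
    obtain ⟨s, rfl⟩ := e₀.surjective x
    change e₀ (MulAut.conjNormal (t : G) (e₀.symm (e₀ s))) = e₀ t * e₀ s * (e₀ t)⁻¹
    rw [e₀.symm_apply_apply, ← map_mul, ← map_inv, ← map_mul]
    rfl
  have hr : ∀ g, ι g ∈ θ.range := fun g => by
    obtain ⟨γ, hγ, h⟩ := hΓ' _ (hΓ g)
    refine ⟨⟨γ, hγ⟩, MulEquiv.ext fun x => ?_⟩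
    obtain ⟨s, rfl⟩ := e.surjective x
    rw [hθ ⟨γ, hγ⟩ s ⟨_, FR.conj_mem_S hγ s.2⟩ rfl]
    exact h s _ rfl
  let ψ₀ : G →* F.Aut := (MonoidHom.ofInjective hinj).symm.toMonoidHom.comp (ι.codRestrict θ.range hr)
  have hψ₀ : ∀ g, θ (ψ₀ g) = ι g := fun g =>
    congrArg Subtype.val ((MonoidHom.ofInjective hinj).apply_symm_apply ⟨ι g, hr g⟩)
  let ψ : G →* RingAut A := F.Aut.subtype.comp ψ₀
  have hψ : Function.Injective ψ := fun a b h => hι (by rw [← hψ₀, ← hψ₀, Subtype.ext (p := (· ∈ F.Aut)) h])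
  have hψT : ∀ t : T, ψ t = e.symm (e₀ t) := fun t => by
    have h1 : ψ₀ t = ⟨e.symm (e₀ t), F.S_le_Aut (e.symm (e₀ t)).2⟩ :=
      hinj (by rw [hψ₀, hιT, hsub, e.apply_symm_apply])
    exact congrArg Subtype.val h1
  have hS : T.map ψ = F.S := by
    ext s
    constructor
    · rintro ⟨t, ht, rfl⟩
      rw [hψT ⟨t, ht⟩]
      exact Subtype.prop _
    · intro hs
      refine ⟨e₀.symm (e ⟨s, hs⟩), Subtype.prop _, ?_⟩
      rw [hψT, e₀.apply_symm_apply, e.symm_apply_apply]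
  let ε : G ≃* ψ.range := MonoidHom.ofInjective hψ
  have hε : ∀ Y : Subgroup G, (Y.map ψ).subgroupOf ψ.range = Y.map ε.toMonoidHom := fun Y => by
    ext x
    obtain ⟨g, rfl⟩ := ε.surjective x
    constructor
    · rintro ⟨y, hy, h⟩
      exact ⟨y, hy, Subtype.ext h⟩
    · rintro ⟨y, hy, h⟩
      exact ⟨y, hy, congrArg (fun x : ψ.range => (x : RingAut A)) h⟩
  refine ⟨⟨e⟩, ψ.range, H.map ψ, hK, hss, hspan, hS ▸ map_le_range ψ T, ?_, map_le_range ψ H, ?_, hp, ?_⟩
  · rintro _ ⟨g, rfl⟩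
    exact (ψ₀ g).2
  · rw [← hS, hε, hε]
    exact lieCtx_map c ε
  · rw [hε]
    exact fun h => o (hasOwn_of_map ε h)

end transport

section unitary

variable {K V : Type} [Field K] [Finite K] [AddCommGroup V] [Module K V] [Finite V] (h : HF K V)

omit [Finite K] [Finite V] in
/-- central elements are scalars -/
theorem exists_scalar [Nontrivial V] {z : h.EB} (hz : z ∈ Subring.center h.EB) : ∃ c : K, ∀ y, h.ap z y = c • y := by
  obtain ⟨e, h0⟩ := exists_ne (0 : V)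
  obtain ⟨x, hx⟩ := h.exists_ne h0
  have h2 : ∀ y, h.b x e • h.ap z y = h.b (h.ap z x) e • y := fun y => by
    have h3 := congrArg (fun a => h.ap a x) (Subring.mem_center_iff.1 hz (h.eb (h.ro y e)))
    simp only [h.ap_mul, h.ap_eb, h.ro_apply, map_smul] at h3
    exact h3.symm
  exact ⟨(h.b x e)⁻¹ * h.b (h.ap z x) e, fun y => by rw [mul_smul, ← h2, smul_smul, inv_mul_cancel₀ hx, one_smul]⟩

/-- the transvections generate the scalars: `e`, `f` isotropic, every scalar is `b z f` for an isotropic `z` with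
`b e z = 1` -/
theorem cent_of_triple (F : FR h.EB) (hL : F.L = Lmax _) (hε : h.ε = 1) (hτ : ∃ c, h.τ c ≠ c) (hsp : F.Span)
    (hs : IsSimpleGroup F.S) (hn : ¬ IsMulCommutative F.S) {e f : V} (hee : h.b e e = 0) (hff : h.b f f = 0)
    (hfe : h.b f e = 1) (hz : ∀ a : K, ∃ z, h.b z z = 0 ∧ h.b e z = 1 ∧ h.b z f = a) :
    ∀ γ ∈ F.Aut, (∀ s ∈ F.S, γ * s = s * γ) → γ = 1 := by
  have h0 : e ≠ 0 := by
    rintro rfl
    exact zero_ne_one ((h.zero_right f).symm.trans hfe)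
  have : Nontrivial V := ⟨e, 0, h0⟩
  intro γ hγ hc
  refine SB.Cl.eq_one_of_cent hsp hs hn ?_ hc
  obtain ⟨c₀, hc₀⟩ := hτ
  have hμ : c₀ - h.τ c₀ ≠ 0 := fun h1 => hc₀ (sub_eq_zero.1 h1).symm
  -- the transvections
  let N : V → h.EB := fun x => h.eb (h.ro (c₀ • x) x) - star (h.eb (h.ro (c₀ • x) x))
  have hN : ∀ x y, h.ap (N x) y = ((c₀ - h.τ c₀) * h.b y x) • x := fun x y => by
    change h.ap (h.eb (h.ro (c₀ • x) x) - star (h.eb (h.ro (c₀ • x) x))) y = _
    rw [h.ap_sub, SB.Cl.ap_star_ro, h.ap_eb, h.ro_apply, h.smul_left, map_mul, h.swap x y, hε, one_mul, smul_smul,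
      ← sub_smul]
    congr 1
    ring
  have hfix : ∀ x, h.b x x = 0 → γ (N x) = N x := fun x hx =>
    (SB.Cl.nil_ro h F (by rw [h.smul_left, h.smul_right, hx, mul_zero, mul_zero]) hx
      (by rw [h.smul_left, hx, mul_zero]) (Or.inl hL)).fix h.ss hsp hs hn hγ hc
  intro c hc'
  obtain ⟨k, hk⟩ := exists_scalar h hc'
  obtain ⟨z, hzz, hez, hzf⟩ := hz (k / (c₀ - h.τ c₀) ^ 3)
  have h1 : c * N e = N e * N f * N z * N e := h.ap_ext fun y => by
    rw [h.ap_mul, h.ap_mul, h.ap_mul, h.ap_mul, hk, hN, hN, hN, hN, h.smul_left, h.smul_left, h.smul_left, hez, hzf,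
      hfe, smul_smul]
    congr 1
    field_simp
  have h2 : (γ c - c) * N e = 0 := by
    rw [sub_mul, sub_eq_zero]
    conv_lhs => rw [← hfix e hee, ← map_mul, h1, map_mul, map_mul, map_mul, hfix e hee, hfix f hff, hfix z hzz, ← h1]
  obtain ⟨k', hk'⟩ := exists_scalar h (sub_mem (map_cen γ hc') hc')
  have h3 : h.ap ((γ c - c) * N e) f = 0 := by rw [h2]; rfl
  rw [h.ap_mul, hk', hN, hfe, mul_one, smul_smul, smul_eq_zero_iff_left h0, mul_eq_zero_iff_right hμ] at h3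
  exact sub_eq_zero.1 (h.ap_ext fun y => by rw [hk', h3, zero_smul]; rfl)

open Cfsg.Agent.LieClassical.HermBasic in
/-- unitary groups of dimension at least three -/
theorem cent_U {F : Type} [Field F] [Fintype F] {n q : ℕ} (hF : Fintype.card F = q ^ 2) (hn3 : 3 ≤ n)
    (R : FR (unH n hF).EB) (hL : R.L = Lmax _) (hsp : R.Span) (hs : IsSimpleGroup R.S)
    (hn : ¬ IsMulCommutative R.S) : ∀ γ ∈ R.Aut, (∀ s ∈ R.S, γ * s = s * γ) → γ = 1 := by
  have h01 : (⟨0, by omega⟩ : Fin n) ≠ ⟨1, by omega⟩ := by simp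
  obtain ⟨e, f, a, b, -, he, hf, hee, hff, hef⟩ := LieClassical.HermGen.exists_hyp_pair hF h01
  have hfe : hermForm n F q f e = 1 := by rw [herm_swap hF e f, hef, one_pow]
  let i : Fin n := ⟨2, by omega⟩
  have he2 : e i = 0 := by
    rw [he]
    simp [i]
  have hf2 : f i = 0 := by
    rw [hf, Pi.add_apply, Pi.smul_apply, he2]
    simp [i]
  refine cent_of_triple (unH n hF) R hL rfl (exists_not_fixed hF) hsp hs hn hee hff hfe fun t => ?_
  obtain ⟨w, hw⟩ := _root_.Cfsg.Agent.LieClassical.HermBasic.exists_norm_eq hF (c := -(t + t ^ q)) (by rw [neg_pow_q hF, trace_pow_q hF])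
  have h1 : ∀ u : Fin n → F, u i = 0 → hermForm n F q u (Pi.single i w) = 0 := fun u hu => by
    rw [herm_single_right hF, hu, zero_mul]
  have h2 : ∀ u : Fin n → F, u i = 0 → hermForm n F q (Pi.single i w) u = 0 := fun u hu =>
    herm_eq_zero_swap hF (h1 u hu)
  have h3 : hermForm n F q (Pi.single i w) (Pi.single i w) = -(t + t ^ q) := by
    rw [herm_single_right hF, Pi.single_eq_same, hw]
  have h4 : hermForm n F q e (t • e + f + Pi.single i w) = 1 := by
    rw [herm_add_right hF, herm_add_right hF, herm_smul_right, hee, hef, h1 e he2, mul_zero, zero_add, add_zero]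
  have h5 : hermForm n F q (t • e + f + Pi.single i w) f = t := by
    rw [herm_add_left, herm_add_left, herm_smul_left, hef, hff, h2 f hf2, mul_one, add_zero, add_zero]
  have h6 : hermForm n F q (t • e + f + Pi.single i w) (t • e + f + Pi.single i w) = 0 := by
    rw [herm_add_left, herm_add_left, herm_smul_left, h4, herm_swap hF _ f, h5, herm_add_right hF, herm_add_right hF,
      herm_smul_right, h2 e he2, h2 f hf2, h3]
    ring
  exact ⟨_, h6, h4, h5⟩

end unitary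

end Cfsg.Agent.TH.Cl.Br
end

private theorem dce_41efcd0fd9f4 : _root_.True := by
  try have : _root_.True := by simp only [_root_.Cfsg.Agent.TH.Cl.D4.bf.eq_1]
  try have : _root_.True := by simp only [_root_.Cfsg.Agent.TH.Cl.D4.cmp.eq_1]
  try have : _root_.True := by simp only [_root_.Cfsg.Agent.TH.Cl.D4.wt.eq_1]
  try have : _root_.True := by simp only [_root_.Cfsg.Agent.TH.Cl.D4.adj.eq_1]
  try have : _root_.True := by simp only [_root_.Cfsg.Agent.TH.Cl.D4.e3.eq_1]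
  try have : _root_.True := by simp only [_root_.Cfsg.Agent.TH.Cl.D4.uU.eq_1]
  try have : _root_.True := by simp only [_root_.Cfsg.Agent.TH.Cl.D4.om.eq_1]
  try have : _root_.True := by simp only [_root_.Cfsg.Agent.TH.Cl.D4.uP.eq_1]
  try have : _root_.True := by simp only [_root_.Cfsg.Agent.TH.Cl.D4.gQ.eq_1]
  try have : _root_.True := by simp only [_root_.Cfsg.Agent.TH.Cl.D4.dg.eq_1]
  try have : _root_.True := by simp only [_root_.Cfsg.Agent.TH.Cl.D4.sp.eq_1]
  try have : _root_.True := by simp only [_root_.Cfsg.Agent.TH.Cl.D4.Dat.y.eq_1]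
  try have : _root_.True := by simp only [_root_.Cfsg.Agent.TH.Cl.D4.qf.eq_1]
  try have : _root_.True := by simp only [_root_.Cfsg.Agent.TH.Cl.D4.uY.eq_1]
  try have : _root_.True := by simp only [_root_.Cfsg.Agent.TH.Cl.D4.gY.eq_1]
  try have : _root_.True := by simp only [_root_.Cfsg.Agent.TH.Cl.D4.uQ.eq_1]
  try have : _root_.True := by simp only [_root_.Cfsg.Agent.TH.Cl.D4.gP.eq_1]
  try have : _root_.True := by simp only [_root_.Cfsg.Agent.TH.Cl.D4.pm.eq_1]
  try have : _root_.True := by simp only [_root_.Cfsg.Agent.TH.Cl.D4.rot.eq_1]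
  exact _root_.True.intro
end

-- part: TH/Cl/Ext/Main
section
prune_inst 0x801010005000120000008510102002245c00043004208000a88001400108030080c2010004801006120a02010005000000100020004000000000000000040020800084000000010c06000f800004000000000000000000000000000000000000000000000
set_option linter.all false
open scoped Cfsg.Agent.FastGrp

-- part: TH/Cl/Ext/Three
section
/-!
# S3541, box `Ext`, `N = 3²`: the matrix model and the end (helper58)
-/

set_option autoImplicit false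
set_option linter.unusedSectionVars false

namespace Cfsg.Agent.TH.Cl.Ext

open Cfsg.Agent.DS.Cl Cfsg.Agent.DS.Cl.Fwd Cfsg.Agent.SB.Cl Matrix

/-- the centre as a ring with involution -/
def Cn (A : Type) [Ring A] : Type := Subring.center A

variable {A : Type} [Ring A] [StarRing A]

instance Cn.instCommRingExt : CommRing (Cn A) := inferInstanceAs (CommRing (Subring.center A))

instance Cn.instStarRingExt : StarRing (Cn A) where
  star c := ⟨star c.1, star_cen c.2⟩
  star_involutive c := Subtype.ext (star_star c.1)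
  star_mul c d := Subtype.ext (star_mul c.1 d.1)
  star_add c d := Subtype.ext (star_add c.1 d.1)

/-- the inclusion -/
def Cn.val : Cn A →+* A := (Subring.center A).subtype

/-- a central element -/
def Cn.mk (c : A) (h : c ∈ Subring.center A) : Cn A := ⟨c, h⟩

omit [StarRing A] in
theorem Cn.val_mk (c : A) (h : c ∈ Subring.center A) : Cn.val (Cn.mk c h) = c := rfl

omit [StarRing A] in
theorem Cn.val_mem (c : Cn A) : Cn.val c ∈ Subring.center A := c.2

omit [StarRing A] in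
theorem Cn.inj : Function.Injective (Cn.val (A := A)) := Subtype.val_injective

theorem Cn.val_star (c : Cn A) : Cn.val (star c) = star (Cn.val c) := rfl

/-- three by three matrices over the centre -/
abbrev M3 (A : Type) [Ring A] : Type := Matrix (Fin 3) (Fin 3) (Cn A)

theorem exists_hom (U : Fin 3 → Fin 3 → A) (h1 : ∀ i j k l, U i j * U k l = if j = k then U i l else 0)
    (h2 : ∑ i, U i i = 1) : ∃ Ψ : M3 A →+* A, ∀ M, Ψ M = ∑ i, ∑ j, Cn.val (M i j) * U i j := by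
  refine ⟨{ toFun := fun M => ∑ i, ∑ j, Cn.val (M i j) * U i j, map_one' := ?_, map_mul' := fun M M' => ?_,
            map_zero' := by simp, map_add' := fun M M' => by simp only [add_mul, Finset.sum_add_distrib, _root_.Matrix.add_apply, _root_.map_add] }, fun _ => rfl⟩
  · rw [← h2]
    refine Finset.sum_congr rfl fun i _ => ?_
    rw [Finset.sum_eq_single i (fun j _ hj => by rw [one_apply_ne hj.symm, map_zero, zero_mul]) (by simp), one_apply_eq,
      map_one, one_mul]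
  · rw [Finset.sum_mul]
    refine Finset.sum_congr rfl fun i _ => ?_
    simp only [mul_apply, map_sum, map_mul, Finset.sum_mul]
    rw [Finset.sum_comm]
    refine Finset.sum_congr rfl fun j _ => ?_
    symm
    rw [Finset.mul_sum, Finset.sum_eq_single j (fun k _ hk => ?_) (by simp only [_root_.Finset.mem_univ, _root_.not_true_eq_false, _root_.IsEmpty.forall_iff]), Finset.mul_sum]
    · exact Finset.sum_congr rfl fun l _ => by rw [cen_mul_mul (Cn.val_mem _), h1, if_pos rfl]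
    · rw [Finset.mul_sum]
      exact Finset.sum_eq_zero fun l _ => by rw [cen_mul_mul (Cn.val_mem _), h1, if_neg hk.symm, mul_zero]

/-- the shift -/
def shM (R : Type) [CommRing R] : Matrix (Fin 3) (Fin 3) R := !![0, 0, 1; 1, 0, 0; 0, 1, 0]

/-- the transposition -/
def swM (R : Type) [CommRing R] : Matrix (Fin 3) (Fin 3) R := !![1, 0, 0; 0, 0, 1; 0, 1, 0]

/-- diagonal matrices -/
def dgM {R : Type} [CommRing R] (a b c : R) : Matrix (Fin 3) (Fin 3) R := !![a, 0, 0; 0, b, 0; 0, 0, c]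

/-- block matrices -/
def blM {R : Type} [CommRing R] (a x y u w : R) : Matrix (Fin 3) (Fin 3) R := !![a, 0, 0; 0, x, y; 0, u, w]

/-- monomial matrices of the reflection `i ↦ k - i` with cube roots of unity -/
def Mono {R : Type} [CommRing R] (T : Matrix (Fin 3) (Fin 3) R) : Prop :=
  ∃ (k : Fin 3) (μ : Fin 3 → R), (∀ i, μ i ^ 3 = 1) ∧ ∀ i j, T i j = if j = k - i then μ i else 0

/-- no reflections of the rows and columns preserve the cubes of the entries -/
def Bad {R : Type} [CommRing R] (M : Matrix (Fin 3) (Fin 3) R) : Prop :=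
  ∀ (k l : Fin 3) (Λ : R), IsUnit Λ → ¬ ∀ i j, M i j ^ 3 = Λ * M (k - i) (l - j) ^ 3

section mat

variable {R : Type} [CommRing R]

theorem star3 [StarRing R] (a b c d e f g h i : R) : star !![a, b, c; d, e, f; g, h, i] =
    !![star a, star d, star g; star b, star e, star h; star c, star f, star i] := by
  ext i j; fin_cases i <;> fin_cases j <;> rfl

omit [CommRing R] in
theorem eq3 {a b c d e f g h i a' b' c' d' e' f' g' h' i' : R} (h1 : a = a') (h2 : b = b') (h3 : c = c') (h4 : d = d')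
    (h5 : e = e') (h6 : f = f') (h7 : g = g') (h8 : h = h') (h9 : i = i') :
    !![a, b, c; d, e, f; g, h, i] = !![a', b', c'; d', e', f'; g', h', i'] := by
  rw [h1, h2, h3, h4, h5, h6, h7, h8, h9]

theorem mono_sw : Mono (swM R) := ⟨0, fun _ => 1, fun _ => one_pow 3, fun i j => by
  (revert i j; simp only [swM, _root_.Fin.forall_fin_succ, _root_.Matrix.of_apply, _root_.Matrix.cons_val', _root_.Matrix.cons_val_fin_one, Fin.isValue, _root_.zero_sub, _root_.Matrix.cons_val_zero, _root_.zero_eq_neg, _root_.Matrix.cons_val_succ, _root_.Fin.succ_zero_eq_one, _root_.Fin.succ_one_eq_two, _root_.IsEmpty.forall_iff, _root_.and_true, ↓reduceIte, _root_.neg_zero, _root_.one_ne_zero, Fin.reduceEq, _root_.and_self, _root_.Fin.succ_ne_zero, _root_.right_eq_ite_iff, _root_.left_eq_ite_iff, _root_.true_and]) <;> (repeat' with_reducible apply And.intro) <;> intro h <;> exact absurd h (by decide)⟩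

theorem Mono.sh {T : Matrix (Fin 3) (Fin 3) R} (h : Mono T) : Mono (shM R * T) := by
  obtain ⟨k, μ, h1, h2⟩ := h
  refine ⟨k + 1, fun i => μ (i - 1), fun i => h1 _, fun i j => ?_⟩
  have h3 : (shM R * T) i j = T (i - 1) j := by
    (revert i; simp only [shM, mul_apply, Fin.sum_univ_three, _root_.Fin.forall_fin_succ, _root_.Matrix.of_apply, _root_.Matrix.cons_val', _root_.Matrix.cons_val_fin_one, Fin.isValue, _root_.Matrix.cons_val_zero, _root_.Matrix.cons_val_one, _root_.Matrix.cons_val, _root_.MulZeroClass.zero_mul, _root_.add_zero, _root_.one_mul, _root_.zero_add, _root_.zero_sub, _root_.Matrix.cons_val_succ, _root_.Fin.succ_zero_eq_one, _root_.sub_self, _root_.Fin.succ_one_eq_two, Fin.reduceSub, _root_.IsEmpty.forall_iff, _root_.and_true, _root_.true_and]) <;> (repeat' with_reducible apply And.intro)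
    rfl
  rw [h3, h2, show k - (i - 1) = k + 1 - i by abel]

theorem Mono.dg {T : Matrix (Fin 3) (Fin 3) R} (h : Mono T) {η : R} (hη : η ^ 3 = 1) : Mono (dgM 1 η (η ^ 2) * T) := by
  obtain ⟨k, μ, h1, h2⟩ := h
  refine ⟨k, fun i => η ^ (i : ℕ) * μ i, fun i => by rw [mul_pow, h1, ← pow_mul, mul_comm _ 3, pow_mul, hη]; simp,
    fun i j => ?_⟩
  have h3 : (dgM 1 η (η ^ 2) * T) i j = η ^ (i : ℕ) * T i j := by
    fin_cases i <;> simp [dgM, mul_apply, Fin.sum_univ_three]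
  rw [h3, h2, mul_ite, mul_zero]

theorem mono_pow {η : R} (hη : η ^ 3 = 1) (i j : ℕ) : Mono (dgM 1 η (η ^ 2) ^ i * shM R ^ j * swM R) := by
  induction i with
  | zero =>
    rw [pow_zero, one_mul]
    induction j with
    | zero => rw [pow_zero, one_mul]; exact mono_sw
    | succ j ih => rw [pow_succ', mul_assoc]; exact ih.sh
  | succ i ih => rw [pow_succ' (dgM 1 η (η ^ 2)), mul_assoc, mul_assoc, ← mul_assoc (_ ^ i)]; exact ih.dg hη

theorem not_bad {M T T' : Matrix (Fin 3) (Fin 3) R} (h : Mono T) (h' : Mono T') {c : R} (hc : IsUnit c)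
    (e : M * T = scalar _ c * (T' * M)) : ¬ Bad M := by
  obtain ⟨l, μ, h1, h2⟩ := h
  obtain ⟨k, μ', h3, h4⟩ := h'
  refine fun hb => hb k l (c ^ 3) (hc.pow 3) fun i j => ?_
  have h5 := congrFun (congrFun e i) (l - j)
  rw [scalar_apply, diagonal_mul, mul_apply, mul_apply, Finset.sum_eq_single j (fun x _ hx => by
    rw [h2, if_neg (by simpa using hx.symm), mul_zero]) (by simp only [_root_.Finset.mem_univ, _root_.not_true_eq_false, _root_.IsEmpty.forall_iff]), Finset.sum_eq_single (k - i) (fun x _ hx => by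
    rw [h4, if_neg hx, zero_mul]) (by simp only [_root_.Finset.mem_univ, _root_.not_true_eq_false, _root_.IsEmpty.forall_iff]), h2, h4, if_pos rfl, if_pos rfl] at h5
  have h6 := congrArg (· ^ 3) h5
  simpa only [mul_pow, h1, h3, mul_one, one_mul] using h6

variable [Nontrivial R]

theorem bad_dg {b c : R} (hb : b * c = 1) (h : b ^ 3 ≠ c ^ 3) : Bad (dgM 1 b c) := by
  intro k l Λ hΛ H
  have h1 : b ^ 3 * c ^ 3 = 1 := by rw [← mul_pow, hb, one_pow]
  have h2 : b ^ 3 ≠ 0 := left_ne_zero_of_mul_eq_one h1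
  have h3 : c ^ 3 ≠ 0 := right_ne_zero_of_mul_eq_one h1
  have a := H 0 0
  have a1 := H 1 1
  have a2 := H 2 2
  fin_cases k <;> fin_cases l <;> simp [dgM] at a a1 a2
  · exact h (by rw [a1, ← a, one_mul])
  · exact h (by linear_combination h1 - (b ^ 3 + 1) * (a2 - c ^ 3 * a1 + h1))
  · exact h (by linear_combination (c ^ 3 + 1) * (a1 - b ^ 3 * a2 + h1) - h1)

theorem bad_tr {y y' : R} (h : y * y' = 0) (h1 : y ^ 6 ≠ 0) (h2 : y' ^ 3 ≠ 0) : Bad (blM 1 1 y (-y') 1) := by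
  intro k l Λ hΛ H
  have h3 : y ^ 3 ≠ 0 := fun h3 => h1 (by linear_combination y ^ 3 * h3)
  have a := H 0 0
  have a1 := H 1 2
  fin_cases k <;> fin_cases l <;> simp only [blM, _root_.Fin.isValue, _root_.Matrix.of_apply, _root_.Matrix.cons_val', _root_.Matrix.cons_val_zero, _root_.Matrix.cons_val_fin_one, _root_.one_pow, _root_.Fin.zero_eta, _root_.sub_self, _root_.mul_one, _root_.Matrix.cons_val, _root_.Matrix.cons_val_one, _root_.zero_sub, _root_.Fin.mk_one, _root_.sub_zero, _root_.ne_eq, _root_.OfNat.ofNat_ne_zero, _root_.not_false_eq_true, _root_.zero_pow, _root_.MulZeroClass.mul_zero, _root_.one_ne_zero, _root_.Fin.reduceFinMk, _root_.Fin.reduceSub] at a a1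
  · exact h1 (by linear_combination y ^ 3 * a1 - Λ * (y * y') ^ 2 * h)
  · exact h3 a1
  · exact h2 (by linear_combination y' ^ 3 * a + Λ * (y * y') ^ 2 * h)
  · exact h3 (by linear_combination y ^ 3 * a - Λ * (y * y') ^ 2 * h)
  · exact h3 a1

theorem bad_odd {x y : R} (hx : IsUnit x) (hy : IsUnit y) (h2 : (2 : R) * x ^ 3 ≠ 0) : Bad (blM (-1) x y (-y) (-x)) := by
  intro k l Λ hΛ H
  have h3 : x ^ 3 ≠ 0 := (hx.pow 3).ne_zero
  have h4 : y ^ 3 ≠ 0 := (hy.pow 3).ne_zero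
  have h5 : ∀ z : R, (-z) ^ 3 = -z ^ 3 := fun z => by ring
  have a := H 0 0
  have a1 := H 1 1
  have a2 := H 1 2
  have a3 := H 2 1
  have a4 := H 2 2
  fin_cases k <;> fin_cases l <;> simp [blM, h3, h4, h5] at a a1 a2 a3 a4
  exact h2 (by linear_combination a1 + x ^ 3 * a)

end mat

variable [Finite A]

/-- the matrix model -/
structure Mod (N : Subgroup (RingAut A)) (Ψ : M3 A →+* A) (η : Cn A) : Prop where
  inj : Function.Injective Ψ
  st : ∀ M, Ψ (star M) = star (Ψ M)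
  sc : ∀ c, Ψ (scalar _ c) = Cn.val c
  eta : η ^ 2 + η + 1 = 0
  eta' : star η = η ^ 2
  lz : Lf N (Ψ (dgM 1 η (η ^ 2)))
  ls : Lf N (Ψ (shM _))
  gen : ∀ u, Lf N u → ∃ i j : ℕ, ad u = ad (Ψ (dgM 1 η (η ^ 2) ^ i * shM _ ^ j))

theorem Mod.un {N : Subgroup (RingAut A)} {Ψ : M3 A →+* A} {η : Cn A} (μ : Mod N Ψ η) {M : M3 A} (h : M * star M = 1) :
    Un (Ψ M) := by rw [Un, ← μ.st, ← map_mul, h, map_one]

theorem Mod.cube {N : Subgroup (RingAut A)} {Ψ : M3 A →+* A} {η : Cn A} (μ : Mod N Ψ η) : η ^ 3 = 1 := by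
  linear_combination (η - 1) * μ.eta

namespace EC

variable {F : FR A} {G H N : Subgroup (RingAut A)} {m p : ℕ} (E : EC F G H N m p 3)
include E

theorem exists_mod : ∃ Ψ η, Mod N Ψ η := by
  obtain ⟨z₀, a1, a2⟩ := E.exists_not_cen
  obtain ⟨s₀, a3, a4⟩ := E.exists_not_comm a2
  obtain ⟨z, s, hz, hs, h1, h1', h2, -⟩ := E.norm_pair (by omega) a1 a3 a4
  obtain ⟨ρ, hρ, hρ'⟩ := E.exists_rho
  obtain ⟨ζ, b1, b2, b3⟩ := E.exists_cm hs hz
  have b4 : ζ ≠ 1 := fun h => h2 (b3.eq h)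
  have hf := (E.σ.fm hρ hρ' b3.1 b1 b2 b4 hz.1 h1 hs.1 b3.2).1
  have hc : ∀ i : ℕ, ζ ^ i ∈ Subring.center A := fun i => Subring.pow_mem _ b3.1 i
  have h5 : ∀ i : ℕ, s ^ i * pr ρ 3 (ζ ^ 0 * z) = pr ρ 3 (ζ ^ i * z) * s ^ i := fun i => comm_pr hρ (by
    rw [pow_zero, one_mul, ← star_star (ζ ^ i), star_pow, mul_assoc]
    exact (((b3.symm b1).pow i).symm (b1.st.pow i)).2)
  have h6 : ∀ i : ℕ, z * pr ρ 3 (ζ ^ i * z) = star ζ ^ i * pr ρ 3 (ζ ^ i * z) := fun i => (b1.pow i).cancel (by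
    rw [← mul_assoc, ← mul_assoc, ← star_pow, (b1.pow i).ms, one_mul, mul_pr hρ]
    rw [Commute.mul_pow (cen_comm (hc i) z).symm, ← pow_mul, mul_comm i, pow_mul, b2, one_pow, h1, mul_one])
  set e : Fin 3 → A := fun i => pr ρ 3 (ζ ^ (i : ℕ) * z)
  have h7 : ∀ i : Fin 3, s ^ (i : ℕ) * e 0 = e i * s ^ (i : ℕ) := fun i => h5 i
  have h8 : ∀ i : Fin 3, e 0 * star s ^ (i : ℕ) = star s ^ (i : ℕ) * e i := fun i => by
    have := congrArg star (h7 i)
    rwa [star_mul, star_mul, hf.symm, hf.symm, star_pow] at this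
  have h9 : ∀ i : ℕ, star s ^ i * s ^ i = 1 := fun i => by rw [← star_pow, (hs.1.pow i).sm]
  have h10 : ∀ i : Fin 3, s ^ (i : ℕ) * e 0 * star s ^ (i : ℕ) = e i := fun i => by
    rw [h7, mul_assoc, ← star_pow, (hs.1.pow i).ms, mul_one]
  obtain ⟨Ψ, hΨ⟩ := exists_hom (fun i j : Fin 3 => s ^ (i : ℕ) * e 0 * star s ^ (j : ℕ)) (fun i j k l => by
    rw [mul_assoc (s ^ (i : ℕ)), h8, h7 k]
    split_ifs with h
    · subst h
      rw [mul_assoc, mul_assoc, ← mul_assoc (e j), ← mul_assoc (e j), hf.idem, ← h7, ← mul_assoc (star s ^ (j : ℕ)),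
        ← mul_assoc (star s ^ (j : ℕ)), h9, one_mul, mul_assoc]
    · rw [mul_assoc, mul_assoc, ← mul_assoc (e j), ← mul_assoc (e j), hf.orth _ _ h]
      simp only [_root_.MulZeroClass.zero_mul, _root_.MulZeroClass.mul_zero]) (by simp only [h10]; exact hf.sum)
  have h11 : Ψ (dgM 1 (Cn.mk _ (star_cen b3.1)) (Cn.mk _ (star_cen b3.1) ^ 2)) = z := by
    rw [hΨ]
    conv_rhs => rw [← mul_one z, ← hf.sum, Finset.mul_sum]
    refine Finset.sum_congr rfl fun i _ => ?_
    rw [show z * e i = star ζ ^ (i : ℕ) * e i from h6 i, ← h10 i]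
    (revert i; simp only [dgM, Fin.sum_univ_three, Cn.val_mk, _root_.Fin.forall_fin_succ, _root_.Finset.mem_univ, _root_.Matrix.of_apply, _root_.Matrix.cons_val', _root_.Matrix.cons_val_fin_one, Fin.isValue, _root_.Matrix.cons_val_zero, _root_.Fin.coe_ofNat_eq_mod, _root_.Nat.zero_mod, _root_.pow_zero, _root_.mul_one, _root_.Matrix.cons_val_one, _root_.Nat.one_mod, _root_.pow_one, _root_.Matrix.cons_val, _root_.Nat.mod_succ, _root_.forall_const, _root_.map_one, _root_.one_mul, _root_.map_zero, _root_.MulZeroClass.zero_mul, _root_.add_zero, _root_.Matrix.cons_val_succ, _root_.Fin.val_succ, _root_.zero_add, _root_.Fin.val_eq_zero, Nat.reduceAdd, _root_.map_pow, _root_.implies_true, _root_.and_self])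
  have h12 : Ψ (shM _) = s := by
    rw [hΨ, Finset.sum_comm]
    conv_rhs => rw [← mul_one s, ← hf.sum, Finset.mul_sum]
    refine Finset.sum_congr rfl fun i _ => ?_
    rw [← h10 i, ← mul_assoc, ← mul_assoc, ← pow_succ']
    (revert i; simp only [shM, Fin.sum_univ_three, h1', _root_.Fin.forall_fin_succ, _root_.Finset.mem_univ, _root_.Matrix.of_apply, _root_.Matrix.cons_val', _root_.Matrix.cons_val_fin_one, Fin.isValue, _root_.Matrix.cons_val_zero, _root_.Fin.coe_ofNat_eq_mod, _root_.Nat.zero_mod, _root_.pow_zero, _root_.one_mul, _root_.Matrix.cons_val_one, _root_.Nat.one_mod, _root_.pow_one, _root_.Matrix.cons_val, _root_.Nat.mod_succ, _root_.forall_const, _root_.map_zero, _root_.mul_one, _root_.MulZeroClass.zero_mul, _root_.map_one, _root_.zero_add, _root_.add_zero, _root_.Matrix.cons_val_succ, _root_.Fin.val_succ, Nat.reduceAdd, _root_.Fin.val_eq_zero, _root_.implies_true, _root_.and_self])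
  refine ⟨Ψ, Cn.mk _ (star_cen b3.1), ?_, fun M => ?_, fun c => ?_, Cn.inj ?_, Cn.inj ?_, by rw [h11]; exact hz, by rw [h12]; exact hs,
    fun u hu => ?_⟩
  · refine (injective_iff_map_eq_zero Ψ).2 fun M hM => Matrix.ext fun i j => Cn.inj ?_
    have h13 := congrArg (fun x => Ψ (single 0 i 1) * x * Ψ (single j 0 1)) hM
    simp only [← map_mul, mul_zero, zero_mul, single_mul_mul_single, one_mul, mul_one] at h13
    rw [hΨ] at h13
    refine (hf.eq_zero (Cn.val_mem _) (i := 0) ?_).trans (map_zero _).symm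
    simpa only [Fin.sum_univ_three, _root_.Fin.isValue, _root_.Fin.coe_ofNat_eq_mod, _root_.Nat.zero_mod, _root_.pow_zero, _root_.mul_one, _root_.zero_ne_one, _root_.and_false, _root_.not_false_eq_true, _root_.Matrix.single_apply_of_ne, _root_.map_zero, _root_.Nat.one_mod, _root_.pow_one, _root_.MulZeroClass.zero_mul, _root_.add_zero, _root_.Fin.reduceEq, _root_.Nat.mod_succ, _root_.Matrix.single_apply_same, _root_.one_mul, _root_.and_true] using h13
  · rw [hΨ, hΨ, star_sum, Finset.sum_comm]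
    refine Finset.sum_congr rfl fun i _ => ?_
    rw [star_sum]
    refine Finset.sum_congr rfl fun j _ => ?_
    rw [star_apply, Cn.val_star, star_mul, cen_comm (star_cen (Cn.val_mem _)), star_mul, star_mul, hf.symm, star_pow,
      star_pow, star_star, mul_assoc (s ^ (j : ℕ))]
  · rw [hΨ]
    conv_rhs => rw [← mul_one (Cn.val c), ← hf.sum, Finset.mul_sum]
    refine Finset.sum_congr rfl fun i _ => ?_
    rw [← h10 i, Finset.sum_eq_single i (fun j _ hj => by rw [scalar_apply, diagonal_apply_ne _ hj.symm]; simp only [_root_.map_zero, _root_.Fin.isValue, _root_.MulZeroClass.zero_mul]) (by simp only [_root_.Finset.mem_univ, _root_.not_true_eq_false, _root_.Matrix.scalar_apply, _root_.Matrix.diagonal_apply_eq, _root_.Fin.isValue, _root_.IsEmpty.forall_iff]),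
      scalar_apply, diagonal_apply_eq]
  · have h13 := E.σ.sub_unit (star_cen b3.1) b1.st (Subring.one_mem _) Un.one (star_root b2 b4).2
    refine (h13.mul_right_eq_zero.1 ?_).trans (map_zero _).symm
    rw [map_add, map_add, map_pow, map_one, Cn.val_mk]
    have h14 := (star_root b2 b4).1
    generalize star ζ = η at h14
    rw [← sub_eq_zero, pow_succ, pow_two] at h14
    rw [← h14, pow_two]
    noncomm_ring
  · rw [Cn.val_star, map_pow, Cn.val_mk]
    exact b1.st.star_eq (by rw [← pow_succ']; exact (star_root b2 b4).1)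
  · obtain ⟨i, -, j, -, e1, e2⟩ := E.split hz hs h2.symm hu.st
    have h13 := ad_cen (E.three hz hs h2 (((hz.pow i).mul (hs.pow j)).mul hu.st) e1 e2)
    rw [ad_mul ((hz.pow i).mul (hs.pow j)).1 hu.1.st, ad_star hu.1, mul_inv_eq_one] at h13
    exact ⟨i, j, by rw [map_mul, map_pow, map_pow, h11, h12, h13]⟩

variable {Ψ : M3 A →+* A} {η : Cn A} (μ : Mod N Ψ η)
include μ

theorem comm_S {X Y M : M3 A} (hX : X * star X = 1) (hY : Y * star Y = 1) (h : X * Y * star X * star Y = M) :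
    ad (Ψ M) ∈ F.S := by
  rw [← h, map_mul, map_mul, map_mul, μ.st, μ.st]
  exact E.σ.comm_mem (μ.un hX) (μ.un hY)

theorem dg_S {u : Cn A} (hu : u * star u = 1) :
    ad (Ψ (dgM u (star u) 1)) ∈ F.S ∧ ad (Ψ (dgM 1 u (star u))) ∈ F.S ∧ ad (Ψ (dgM (star u) 1 u)) ∈ F.S := by
  have h1 : shM (Cn A) * star (shM (Cn A)) = 1 := by
    simp only [shM, star3, mul_fin_three, one_fin_three]
    apply eq3 <;> simp
  refine ⟨E.comm_S μ (X := dgM u 1 1) ?_ h1 ?_, E.comm_S μ (X := dgM 1 u 1) ?_ h1 ?_,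
    E.comm_S μ (X := dgM 1 1 u) ?_ h1 ?_⟩ <;>
  · simp only [shM, dgM, star3, mul_fin_three, one_fin_three]
    apply eq3 <;> simp only [hu, _root_.star_zero, _root_.MulZeroClass.mul_zero, _root_.add_zero, _root_.star_one, _root_.mul_one, _root_.MulZeroClass.zero_mul, _root_.zero_add, _root_.one_mul]

/-- the involutions of `H ⊓ S` -/
theorem form {t : RingAut A} (ht : t ∈ H ⊓ F.S) (h1 : t * t = 1) (h2 : t ≠ 1) :
    ∃ T, Mono T ∧ Un (Ψ T) ∧ t = ad (Ψ T) := by
  have hP : Un (Ψ (swM _)) := μ.un (by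
    simp only [swM, star3, mul_fin_three, one_fin_three]
    apply eq3 <;> simp)
  have h3 : ∀ {X : M3 A}, Lf N (Ψ X) → swM _ * X = star X * swM _ →
      ad (Ψ (swM _)) * ad (Ψ X) * (ad (Ψ (swM _)))⁻¹ = (ad (Ψ X))⁻¹ := fun {X} hX h => by
    rw [← ad_mul hP hX.1, ← map_mul, h, map_mul, μ.st, ad_mul hX.1.st hP, ad_star hX.1, mul_inv_cancel_right]
  have h4 := h3 μ.lz (by
    simp only [swM, dgM, star3, mul_fin_three]
    apply eq3 <;> simp [μ.eta']
    linear_combination (-η) * μ.cube)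
  have h5 := h3 μ.ls (by
    simp only [swM, shM, star3, mul_fin_three]
    apply eq3 <;> simp)
  have h6 : ∀ ν ∈ N, ad (Ψ (swM _)) * ν * (ad (Ψ (swM _)))⁻¹ = ν⁻¹ := fun ν hν => by
    obtain ⟨u, hu, rfl⟩ := E.σ.exists_lf hν
    obtain ⟨i, j, e⟩ := μ.gen u hu
    rw [e, map_mul, map_pow, map_pow, ad_mul (μ.lz.1.pow i) (μ.ls.1.pow j), ad_pow μ.lz.1, ad_pow μ.ls.1, ← conj_mul,
      ← conj_pow, ← conj_pow, h4, h5, inv_pow, inv_pow, ← _root_.mul_inv_rev,
      E.σ.comm _ (N.pow_mem μ.ls.2 j) _ (N.pow_mem μ.lz.2 i)]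
  obtain ⟨τ, hτ, rfl⟩ := exists_of_PI (F.S_le_PI ht.2)
  have h7 := E.σ.cent (hτ.mul hP.st) fun ν hν => by
    have h8 := h6 _ (N.inv_mem hν)
    rw [ad_mul hτ hP.st, ad_star hP]
    calc _ = ad τ * (ad (Ψ (swM _)))⁻¹ * ν⁻¹⁻¹ := by rw [inv_inv]
      _ = ad τ * ν⁻¹ * (ad τ)⁻¹ * (ad τ * (ad (Ψ (swM _)))⁻¹) := by rw [← h8]; group
      _ = _ := by rw [E.inverts ht h1 h2 _ (N.inv_mem hν), inv_inv]
  obtain ⟨i, j, e⟩ := μ.gen _ ⟨hτ.mul hP.st, h7⟩
  have h8 : Un (Ψ (dgM 1 η (η ^ 2) ^ i * shM _ ^ j)) := by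
    rw [map_mul, map_pow, map_pow]
    exact (μ.lz.1.pow i).mul (μ.ls.1.pow j)
  refine ⟨_, mono_pow μ.cube i j, by rw [map_mul]; exact h8.mul hP, ?_⟩
  rw [map_mul, ad_mul h8 hP, ← e, ad_mul hτ hP.st, ad_star hP, inv_mul_cancel_right]

theorem not_bad (hd : ¬ 2 ∣ Nat.card H / m) {M : M3 A} (h1 : M * star M = 1) (h2 : ad (Ψ M) ∈ F.S) : ¬ Bad M := by
  have : Fact (Nat.Prime 2) := ⟨Nat.prime_two⟩
  obtain ⟨t, a1, a2, a3⟩ := E.exists_invol
  have hn : ∀ a ∈ H ⊓ F.S, ∀ x ∈ H ⊓ F.S, a * x * a⁻¹ ∈ H ⊓ F.S := fun a ha x hx => E.c.conj_inf ha.1 hx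
  obtain ⟨b, b1, b2⟩ := E.c.in.uni hd inf_le_left (fun a ha x hx => E.c.conj_inf ha hx) le_rfl hn
    (Y := four a2 (one_mul 1) (Commute.one_right t)) (fun x => ⟨1, Subtype.ext ((pow_two _).trans x.2.1)⟩) (by
      rintro _ ⟨-, i, j, rfl⟩
      exact mul_mem (pow_mem a1 i) (pow_mem (one_mem _) j)) (E.c.S_le h2)
  have b3 := mem_cj.1 (b2 (conj_mem_cj b (x := t) ⟨a2, 1, 0, by simp⟩))
  have c1 := hn b b1 t a1
  have c2 : b * t * b⁻¹ * (b * t * b⁻¹) = 1 := by rw [conj_mul, a2]; group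
  have c3 : b * t * b⁻¹ ≠ 1 := fun h => a3 (by rwa [mul_inv_eq_one, mul_eq_left] at h)
  generalize b * t * b⁻¹ = t' at b3 c1 c2 c3
  obtain ⟨T', d1, d2, d3⟩ := E.form μ c1 c2 c3
  obtain ⟨T, e1, e2, e3⟩ := E.form μ ⟨b3, F.S.mul_mem (F.S.mul_mem (F.S.inv_mem h2) c1.2) h2⟩ (by
    calc _ = (ad (Ψ M))⁻¹ * (t' * t') * ad (Ψ M) := by group
      _ = 1 := by rw [c2]; group) fun h => c3 (by rwa [mul_assoc, inv_mul_eq_one, right_eq_mul] at h)
  have hM := μ.un h1
  obtain ⟨c, f1, f2, f3⟩ := (ad_eq_iff (hM.mul e2) (d2.mul hM)).1 (by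
    rw [ad_mul hM e2, ad_mul d2 hM, ← e3, ← d3]; group)
  refine Ext.not_bad e1 d1 (c := Cn.mk c f1) (IsUnit.of_mul_eq_one (star (Cn.mk c f1)) (Cn.inj f2)) (μ.inj ?_)
  rw [map_mul, map_mul, map_mul, μ.sc, f3, Cn.val_mk]

theorem ne_one {a b c : Cn A} (h : dgM a b c * star (dgM a b c) = 1) (h1 : a ≠ b ∨ b ≠ c) : ad (Ψ (dgM a b c)) ≠ 1 := by
  intro h2
  have h3 := μ.inj ((μ.sc (Cn.mk _ ((ad_eq_one_iff (μ.un h)).1 h2))).trans (Cn.val_mk _ _))
  have h4 := congrFun (congrFun h3 0) 0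
  have h5 := congrFun (congrFun h3 1) 1
  have h6 := congrFun (congrFun h3 2) 2
  simp [dgM] at h4 h5 h6
  exact h1.elim (fun h => h (h4.symm.trans h5)) fun h => h (h5.symm.trans h6)

omit E in
theorem ad_mul_M {X Y Z : M3 A} (hX : X * star X = 1) (hY : Y * star Y = 1) (h : X * Y = Z) :
    ad (Ψ X) * ad (Ψ Y) = ad (Ψ Z) := by rw [← ad_mul (μ.un hX) (μ.un hY), ← map_mul, h]

omit μ in
attribute [-instance] instNoNatZeroDivisorsOfIsAddTorsionFree instIsCharPOfIsLeftCancelAddOfCharP in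
/-- **the case `3²`** -/
theorem not_three (hb : Nat.card N ≤ 9 → (∃ ε : A, Eps ε) ∨ 4 < Nat.card (Subring.center A)) : False := by
  obtain ⟨Ψ, η, μ⟩ := E.exists_mod
  have := E.σ.ss.nontrivial
  have : Nontrivial (Cn A) := inferInstanceAs (Nontrivial (Subring.center A))
  have h1 := μ.eta
  have h2 := μ.eta'
  have h3 := μ.cube
  obtain ⟨ρ', hρ, hρ'⟩ := E.exists_rho
  obtain ⟨ρ, h4⟩ : ∃ ρ : Cn A, ρ * 3 = 1 := ⟨Cn.mk _ hρ, Cn.inj (by rw [map_mul, map_ofNat]; exact hρ')⟩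
  by_cases hp : 2 = p
  · have hd : ¬ 2 ∣ Nat.card H / m := hp ▸ E.c.not_dvd_d
    have h5 : (2 : Cn A) = 0 := Cn.inj (by rw [map_ofNat, map_zero, ← E.c.char, ← hp]; rfl)
    by_cases hε : ∃ ε : A, Eps ε
    · obtain ⟨ε', hε⟩ := hε
      obtain ⟨ε, e1, e2, e3⟩ : ∃ ε : Cn A, ε * star ε = 0 ∧ ε + star ε = 1 ∧ ε ≠ 0 :=
        ⟨Cn.mk _ hε.cen, Cn.inj hε.ms, Cn.inj hε.add, fun h => hε.ne_zero (congrArg Cn.val h)⟩
      have e4 : star ε ≠ 0 := star_ne_zero.2 e3
      have e5 : IsUnit (η - 1) := IsUnit.of_mul_eq_one (-ρ * (η + 2)) (by linear_combination h4 - ρ * h1)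
      have e6 : IsUnit (η ^ 2 - 1) := by simpa [h2] using e5.star
      have e7 : ∀ {x : Cn A}, x * x = x → ∀ k : ℕ, x ^ (k + 1) = x := fun {x} h k => IsIdempotentElem.pow_succ_eq k h
      refine E.not_bad μ hd ?_ (E.comm_S μ (X := dgM 1 η 1) (Y := blM 1 1 ε (-star ε) 1) ?_ ?_ ?_)
        (bad_tr (y := (η - 1) * ε) (y' := (η ^ 2 - 1) * star ε) (by linear_combination (η - 1) * (η ^ 2 - 1) * e1) ?_ ?_)
      · simp only [blM, star3, mul_fin_three, one_fin_three]
        apply eq3 <;> simp only [h2, _root_.star_one, _root_.mul_one, _root_.star_zero, _root_.MulZeroClass.mul_zero, _root_.add_zero, _root_.star_mul', _root_.star_sub, _root_.MulZeroClass.zero_mul, _root_.star_neg, _root_.star_pow, _root_.star_star, _root_.mul_neg, _root_.neg_zero, _root_.zero_add, _root_.add_eq_left, _root_.one_mul, _root_.neg_add_cancel, _root_.neg_mul, _root_.neg_neg, _root_.add_eq_right]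
        all_goals (clear * - h1 h5 e1 e2; grobner)
      · simp only [dgM, star3, mul_fin_three, one_fin_three]
        apply eq3 <;> simp only [h2, _root_.star_one, _root_.mul_one, _root_.star_zero, _root_.MulZeroClass.mul_zero, _root_.add_zero, _root_.MulZeroClass.zero_mul, _root_.zero_add]
        all_goals (clear * - h1 h5; grobner)
      · simp only [blM, star3, mul_fin_three, one_fin_three]
        apply eq3 <;> simp only [_root_.star_one, _root_.mul_one, _root_.star_zero, _root_.MulZeroClass.mul_zero, _root_.add_zero, _root_.MulZeroClass.zero_mul, _root_.star_neg, _root_.star_star, _root_.mul_neg, _root_.neg_zero, _root_.zero_add, _root_.add_eq_left, _root_.one_mul, _root_.neg_add_cancel, _root_.neg_mul, _root_.neg_neg, _root_.add_eq_right]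
        all_goals (clear * - h5 e1 e2; grobner)
      · simp only [blM, dgM, star3, mul_fin_three]
        apply eq3 <;> simp only [h2, _root_.mul_one, _root_.MulZeroClass.mul_zero, _root_.add_zero, _root_.star_one, _root_.mul_neg, _root_.MulZeroClass.zero_mul, _root_.neg_zero, _root_.star_zero, _root_.star_neg, _root_.star_star, _root_.zero_add, _root_.one_mul, _root_.neg_mul, _root_.neg_neg, _root_.add_eq_right]
        all_goals (clear * - h1 h5 e1 e2; grobner)
      · rw [mul_pow, Ne, (e5.pow 6).mul_right_eq_zero, e7 (by linear_combination e1 + ε * e2 - 2 * e1)]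
        exact e3
      · rw [mul_pow, Ne, (e6.pow 3).mul_right_eq_zero, e7 (by linear_combination star ε * e2 - e1)]
        exact e4
    · by_cases hu : ∃ b : Cn A, b * star b = 1 ∧ b ^ 3 ≠ 1
      · obtain ⟨b, e1, e2⟩ := hu
        have e3 : Un (Cn.val b) := congrArg Cn.val e1
        have e4 := E.σ.sub_unit (Subring.pow_mem _ (Cn.val_mem b) 3) (e3.pow 3) (Subring.one_mem _) Un.one
          fun h => e2 (Cn.inj (by rw [map_pow, map_one, h]))
        refine E.not_bad μ hd ?_ (E.dg_S μ e1).2.1 (bad_dg e1 fun h => e2 (Cn.inj ?_))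
        · simp only [dgM, star3, mul_fin_three, one_fin_three]
          apply eq3 <;> simp only [e1, mul_comm (star b), _root_.star_one, _root_.mul_one, _root_.star_zero, _root_.MulZeroClass.mul_zero, _root_.add_zero, _root_.MulZeroClass.zero_mul, _root_.star_star, _root_.zero_add]
        · have e5 : (b ^ 3 - 1) * (b ^ 3 - 1) = 0 := by (clear * - h5 e1 h; grobner)
          have e6 := congrArg Cn.val e5
          rw [map_mul, map_sub, map_pow, map_one, map_zero, e4.mul_right_eq_zero, sub_eq_zero] at e6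
          rw [map_pow, map_one, e6]
      · push Not at hu
        have e0 : ∀ x : Cn A, x ≠ 0 → ∃ y, x * y = 1 := fun x hx => by
          obtain ⟨v, hv⟩ := E.σ.ss.isUnit_of_not_eps hε (Cn.val_mem x) fun h => hx (Cn.inj (h.trans (map_zero _).symm))
          have : ((v⁻¹ : Aˣ) : A) ∈ Subring.center A := Subring.mem_center_iff.2 fun a => by
            rw [Units.mul_inv_eq_iff_eq_mul, mul_assoc, Units.eq_inv_mul_iff_mul_eq, hv]
            exact (cen_comm (Cn.val_mem x) a).symm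
          exact ⟨Cn.mk _ this, Cn.inj (by rw [map_mul, Cn.val_mk, ← hv, map_one, Units.mul_inv])⟩
        have e1 : ∀ x : Cn A, x ^ 3 = star x ^ 3 := fun x => by
          by_cases hx : x = 0
          · rw [hx, star_zero]
          obtain ⟨y, hy⟩ := e0 x hx
          have hy' := congrArg star hy
          rw [star_mul', star_one] at hy'
          have := hu (x * star y) (by rw [star_mul', star_star]; (clear * - h5 hy hy'; grobner))
          (clear * - h5 hy hy' this; grobner)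
        have e2 : ∀ x : Cn A, x = star x ∨ x + star x = 1 := fun x => by
          by_contra hx
          obtain ⟨y, hy⟩ := e0 _ (sub_ne_zero.2 fun h => hx (Or.inl h))
          obtain ⟨y', hy'⟩ := e0 _ (sub_ne_zero.2 fun h => hx (Or.inr h))
          have a1 := e1 x
          have a2 := e1 (x + 1)
          rw [star_add, star_one] at a2
          have a3 : (x - star x) * (x + star x - 1) = 0 := by (clear * - h5 hx hy hy' a1 a2; grobner)
          exact zero_ne_one (α := Cn A) (by (clear * - h5 hx hy hy' a3; grobner))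
        have e3 : ∀ x : Cn A, x = star x → x = 0 ∨ x = 1 := fun x hx => by
          refine (e2 (x * η)).imp (fun h => ?_) fun h => ?_ <;> rw [star_mul', ← hx, h2] at h <;> (clear * - h1 h5 h; grobner)
        refine absurd ((hb E.card_le_nine).resolve_left hε) (not_lt.2 ?_)
        refine (Nat.card_le_card_of_surjective (α := Fin 4) (β := Cn A) ![0, 1, η, η + 1] fun x => ?_).trans (by simp)
        rcases e2 x with h | h
        · rcases e3 x h with h | h
          exacts [⟨0, h.symm⟩, ⟨1, h.symm⟩]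
        · rcases e3 (x + η) (by rw [star_add, h2]; (clear * - h1 h5 h; grobner)) with h' | h'
          exacts [⟨2, show η = x by (clear * - h5 h h'; grobner)⟩, ⟨3, show η + 1 = x by (clear * - h5 h h'; grobner)⟩]
  · obtain ⟨h', a1, a2⟩ := E.exists_inv Nat.prime_two hp
    obtain ⟨h, a3⟩ : ∃ h : Cn A, h * 2 = 1 := ⟨Cn.mk _ a1, Cn.inj (by rw [map_mul, map_ofNat]; exact a2)⟩
    have a4 : star h = h := by
      have := congrArg star a3
      rw [star_mul', star_ofNat, star_one] at this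
      linear_combination h * this - star h * a3
    have a5 : (1 : Cn A) ≠ -1 := fun h => zero_ne_one (α := Cn A) (by (clear * - a3 h; grobner))
    have a6 := E.dg_S μ (u := -1) (by simp)
    rw [star_neg, star_one] at a6
    have a7 : ∀ a b c : Cn A, a * star a = 1 → b * star b = 1 → c * star c = 1 → dgM a b c * star (dgM a b c) = 1 :=
      fun a b c ha hb hc => by
        simp only [dgM, star3, mul_fin_three, one_fin_three]
        apply eq3 <;> simp only [ha, hb, hc, _root_.star_zero, _root_.MulZeroClass.mul_zero, _root_.add_zero, _root_.MulZeroClass.zero_mul, _root_.zero_add]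
    have a8 : ∀ {a b c a' b' c' : Cn A}, dgM a b c * dgM a' b' c' = dgM (a * a') (b * b') (c * c') := by
      intro a b c a' b' c'
      simp only [dgM, mul_fin_three]
      apply eq3 <;> simp
    have a9 : ad (Ψ (dgM 1 1 1)) = 1 := by rw [show dgM (1 : Cn A) 1 1 = 1 from one_fin_three.symm, map_one, ad_one]
    have u1 := a7 (-1) (-1) 1 (by simp) (by simp) (by simp)
    have u2 := a7 1 (-1) (-1) (by simp) (by simp) (by simp)
    have u3 := a7 (-1) 1 (-1) (by simp) (by simp) (by simp)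
    have hd := E.not_two_dvd a6.1 a6.2.1 (by rw [ad_mul_M μ u1 u1 a8, ← a9]; simp)
      (by rw [ad_mul_M μ u2 u2 a8, ← a9]; simp) (by rw [Commute, SemiconjBy, ad_mul_M μ u1 u2 a8, ad_mul_M μ u2 u1 a8]; simp)
      (E.ne_one μ u1 (Or.inr a5.symm)) (E.ne_one μ u2 (Or.inl a5))
      (by rw [ad_mul_M μ u1 u2 a8]; simpa using E.ne_one μ u3 (Or.inl a5.symm))
    have u4 : blM 1 (-h) ((η ^ 2 - η) * h) ((η ^ 2 - η) * h) (-h) *
        star (blM 1 (-h) ((η ^ 2 - η) * h) ((η ^ 2 - η) * h) (-h)) = 1 := by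
      simp only [blM, star3, mul_fin_three, one_fin_three]
      apply eq3 <;> simp only [h2, a4, _root_.star_one, _root_.mul_one, _root_.star_zero, _root_.MulZeroClass.mul_zero, _root_.add_zero, _root_.star_neg, _root_.mul_neg, _root_.MulZeroClass.zero_mul, _root_.neg_zero, _root_.star_mul', _root_.star_sub, _root_.star_pow, _root_.neg_mul, _root_.neg_neg, _root_.zero_add]
      all_goals (clear * - h1 a3; grobner)
    have b1 := E.comm_S μ (X := dgM 1 (-1) 1) (Y := blM 1 ((1 + η) * h) ((η - 1) * h) ((η - 1) * h) ((1 + η) * h))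
      (M := blM 1 (-h) ((η ^ 2 - η) * h) ((η ^ 2 - η) * h) (-h)) (a7 _ _ _ (by simp) (by simp) (by simp)) (by
        simp only [blM, star3, mul_fin_three, one_fin_three]
        apply eq3 <;> simp only [h2, a4, _root_.star_one, _root_.mul_one, _root_.star_zero, _root_.MulZeroClass.mul_zero, _root_.add_zero, _root_.star_mul', _root_.StarAddMonoid.star_add, _root_.MulZeroClass.zero_mul, _root_.star_sub, _root_.zero_add]
        all_goals (clear * - h1 a3; grobner)) (by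
        simp only [blM, dgM, star3, mul_fin_three]
        apply eq3 <;> simp only [h2, a4, _root_.mul_one, _root_.MulZeroClass.mul_zero, _root_.add_zero, _root_.star_one, _root_.MulZeroClass.zero_mul, _root_.star_zero, _root_.star_neg, _root_.mul_neg, _root_.neg_zero, _root_.star_mul', _root_.StarAddMonoid.star_add, _root_.star_sub, _root_.neg_mul, _root_.one_mul, _root_.zero_add, _root_.neg_neg]
        all_goals (clear * - h1 a3; grobner))
    have b2 := F.S.mul_mem a6.2.2 b1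
    rw [ad_mul_M μ u3 u4 (Z := blM (-1) (-h) ((η ^ 2 - η) * h) (-((η ^ 2 - η) * h)) (- -h)) (by
      simp only [blM, dgM, mul_fin_three]
      apply eq3 <;> simp)] at b2
    refine E.not_bad μ hd ?_ b2 (bad_odd (IsUnit.of_mul_eq_one (-2) (by (clear * - a3; grobner)))
      (IsUnit.of_mul_eq_one (-2 * ρ * (η ^ 2 - η)) (by (clear * - h1 h4 a3; grobner))) fun h => zero_ne_one (α := Cn A) (by (clear * - a3 h; grobner)))
    simp only [blM, star3, mul_fin_three, one_fin_three]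
    apply eq3 <;> simp only [h2, a4, _root_.star_neg, _root_.star_one, _root_.mul_neg, _root_.mul_one, _root_.neg_neg, _root_.star_zero, _root_.MulZeroClass.mul_zero, _root_.add_zero, _root_.MulZeroClass.zero_mul, _root_.neg_zero, _root_.star_mul', _root_.star_sub, _root_.star_pow, _root_.neg_mul, _root_.zero_add]
    all_goals (clear * - h1 a3; grobner)

end EC

end Cfsg.Agent.TH.Cl.Ext
end

-- part: TH/Cl/Ext/TwoG
section
/-!
# S3541, box `Ext`, `r = 2`: group lemmas (helper58)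
-/

set_option autoImplicit false
set_option linter.unusedSectionVars false

namespace Cfsg.Agent.TH.Cl.Ext

variable {Γ : Type*} [Group Γ] [Finite Γ]

theorem relIndex_le {C H : Subgroup Γ} (hC : C ≤ H) {g : Γ} (T : Finset Γ)
    (h : ∀ γ ∈ C, ∃ t ∈ T, t⁻¹ * (γ * g * γ⁻¹) ∈ H) : (TH.cj g H).relIndex C ≤ T.card := by
  choose t h1 h2 using h
  rw [← Nat.card_eq_finsetCard T]
  refine Nat.card_le_card_of_injective (fun q : C ⧸ (TH.cj g H).subgroupOf C => (⟨t q.out q.out.2, h1 _ _⟩ : T))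
    fun q q' e => ?_
  have h3 := h2 q.out q.out.2
  rw [show t q.out q.out.2 = t q'.out q'.out.2 from congrArg Subtype.val e] at h3
  have h4 := H.mul_mem (H.mul_mem (H.inv_mem (hC q.out.2)) (H.mul_mem (H.inv_mem h3) (h2 q'.out q'.out.2)))
    (hC q'.out.2)
  rw [← q.out_eq', ← q'.out_eq', QuotientGroup.eq, Subgroup.mem_subgroupOf, mem_cj]
  convert h4 using 1
  push_cast
  group

theorem eight_dvd {K N : Subgroup Γ} (hc : ∀ x ∈ N, ∀ y ∈ N, x * y = y * x) (he : ∀ x ∈ N, x ^ 2 = 1) {z a b : Γ}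
    (hz : z ∈ N) (ha : a ∈ N) (hb : b ∈ N) (h1 : z ∉ K) (h2 : a ∉ K) (h3 : b ∉ K) (h4 : a * b ∉ K) (h5 : z * a ∉ K)
    (h6 : z * b ∉ K) (h7 : z * (a * b) ∉ K) : 8 ∣ K.relIndex N := by
  classical
  have : Fact (Nat.Prime 2) := ⟨Nat.prime_two⟩
  obtain ⟨k, hk⟩ := (show IsPGroup 2 N from fun x => ⟨1, Subtype.ext (he _ x.2)⟩).index (K.subgroupOf N)
  have e : ∀ {x y : Γ} (hx : x ∈ N) (hy : y ∈ N), x * y ∉ K →
      ((⟨x, hx⟩ : N) : N ⧸ K.subgroupOf N) ≠ ((⟨y, hy⟩ : N) : N ⧸ K.subgroupOf N) := fun {x y} hx hy h h' => h (by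
    rw [QuotientGroup.eq, Subgroup.mem_subgroupOf] at h'
    rwa [← inv_eq_of_mul_eq_one_right ((pow_two x).symm.trans (he x hx))])
  have f1 : a * (a * b) = b := by rw [← mul_assoc, ← pow_two, he a ha, one_mul]
  have f2 : b * (a * b) = a := by rw [hc a ha b hb, ← mul_assoc, ← pow_two, he b hb, one_mul]
  have hab := N.mul_mem ha hb
  have := Fintype.ofFinite (N ⧸ K.subgroupOf N)
  have h8 := Finset.card_le_univ ({((⟨1, N.one_mem⟩ : N) : N ⧸ K.subgroupOf N), ((⟨z, hz⟩ : N) : N ⧸ K.subgroupOf N),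
    ((⟨a, ha⟩ : N) : N ⧸ K.subgroupOf N), ((⟨b, hb⟩ : N) : N ⧸ K.subgroupOf N),
    ((⟨a * b, hab⟩ : N) : N ⧸ K.subgroupOf N)} : Finset _)
  rw [Finset.card_insert_of_notMem (by
      simp only [Finset.mem_insert, Finset.mem_singleton, not_or]
      exact ⟨e _ _ (by rwa [one_mul]), e _ _ (by rwa [one_mul]), e _ _ (by rwa [one_mul]), e _ _ (by rwa [one_mul])⟩),
    Finset.card_insert_of_notMem (by
      simp only [Finset.mem_insert, Finset.mem_singleton, not_or]
      exact ⟨e _ _ h5, e _ _ h6, e _ _ h7⟩),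
    Finset.card_insert_of_notMem (by
      simp only [Finset.mem_insert, Finset.mem_singleton, not_or]
      exact ⟨e _ _ h4, e _ _ (by rwa [f1])⟩),
    Finset.card_pair (e _ _ (by rwa [f2])), ← Nat.card_eq_fintype_card, ← Subgroup.index_eq_card, hk] at h8
  rw [Subgroup.relIndex, hk]
  refine pow_dvd_pow 2 (show 3 ≤ k from ?_)
  by_contra h9
  have := Nat.pow_le_pow_right two_pos (show k ≤ 2 by omega)
  omega

theorem exists_syl (H : Subgroup Γ) : ∃ P ≤ H, IsPGroup 2 P ∧ ¬ 2 ∣ P.relIndex H := by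
  have : Fact (Nat.Prime 2) := ⟨Nat.prime_two⟩
  obtain ⟨P⟩ : Nonempty (Sylow 2 H) := inferInstance
  refine ⟨P.1.map H.subtype, Subgroup.map_subtype_le _, P.2.map _, ?_⟩
  rw [Subgroup.relIndex, Subgroup.subgroupOf, Subgroup.comap_map_eq_self_of_injective H.subtype_injective]
  exact P.not_dvd_index

theorem not_eight {G H C P : Subgroup Γ} {m : ℕ} (c : In G H m) {g : Γ} (hg : g ∈ G) (hn : g ∉ H) (hC : C ≤ H)
    (hP : P ≤ C) (h1 : ¬ 2 ∣ P.relIndex H) (h2 : (TH.cj g H).relIndex C ≤ 4) : ¬ 8 ∣ Nat.card H / m := by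
  have h3 := c.half.relIndex_eq (g := ⟨g, hg⟩) hn
  rw [c.card_H, In.cj_sub, Subgroup.relIndex_subgroupOf c.le] at h3
  have h4 := Subgroup.relIndex_dvd_of_le_left H (inf_le_left : TH.cj g H ⊓ C ≤ _)
  rw [h3, ← Subgroup.relIndex_mul_relIndex _ C H inf_le_right hC, Subgroup.inf_relIndex_right] at h4
  intro h5
  have h6 : Nat.Coprime 8 (C.relIndex H) := (((Nat.Prime.coprime_iff_not_dvd Nat.prime_two).2 fun h =>
    h1 (h.trans (Subgroup.relIndex_dvd_of_le_left H hP))).pow_left 3)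
  have h7 := Nat.le_of_dvd (Nat.pos_of_ne_zero Subgroup.index_ne_zero_of_finite) (h6.dvd_of_dvd_mul_right (h5.trans h4))
  change 8 ≤ (TH.cj g H).relIndex C at h7
  omega

omit [Group Γ] in
theorem two_dvd_card {X : Set Γ} (f : Γ → Γ) (h1 : ∀ x ∈ X, f x ∈ X) (h2 : ∀ x ∈ X, f (f x) = x)
    (h3 : ∀ x ∈ X, f x ≠ x) : 2 ∣ Nat.card X := by
  classical
  have := Fintype.ofFinite X
  have : Fact (Nat.Prime 2) := ⟨Nat.prime_two⟩
  have h4 := Equiv.Perm.card_fixedPoints_modEq (α := X) (f := fun x => ⟨f x, h1 x x.2⟩) (p := 2) (n := 1)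
    (funext fun x => Subtype.ext (h2 x x.2))
  rw [Nat.card_eq_fintype_card]
  exact Nat.modEq_zero_iff_dvd.1 (h4.trans (by
    rw [Fintype.card_eq_zero_iff.2 ⟨fun x => h3 x.1 x.1.2 (congrArg Subtype.val x.2)⟩]))

end Cfsg.Agent.TH.Cl.Ext
end

-- part: TH/Cl/Ext/TwoB
section
/-!
# S3541, box `Ext`, `r = 2`: the basic element and the two local arguments (helper58)
-/

set_option autoImplicit false
set_option linter.unusedSectionVars false

namespace Cfsg.Agent.TH.Cl.Ext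

open Cfsg.Agent.DS.Cl Cfsg.Agent.DS.Cl.Fwd Cfsg.Agent.SB.Cl

variable {A : Type} [Ring A] [StarRing A] [Finite A]

/-- a lift of order two with an anticommuting partner -/
structure Hy (N : Subgroup (RingAut A)) (z y : A) : Prop where
  lz : Lf N z
  ly : Lf N y
  zz : z * z = 1
  yz : y * z = -(z * y)

theorem Hy.sz {N : Subgroup (RingAut A)} {z y : A} (k : Hy N z y) : star z = z := k.lz.1.star_eq k.zz

theorem Hy.symm {N : Subgroup (RingAut A)} {z y : A} (k : Hy N z y) (yy : y * y = 1) : Hy N y z :=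
  ⟨k.ly, k.lz, yy, by rw [k.yz, neg_neg]⟩

/-- the same point -/
def Eqv (N : Subgroup (RingAut A)) (g g' : A) : Prop := ∃ x, Un x ∧ Nm N x ∧ g = g' * x

theorem Eqv.rfl {N : Subgroup (RingAut A)} {g : A} : Eqv N g g := ⟨1, Un.one, Nm.cen (Subring.one_mem _), (mul_one g).symm⟩

theorem Eqv.mul {N : Subgroup (RingAut A)} {g g' x : A} (h : Eqv N g g') (h1 : Un x ∧ Nm N x) : Eqv N (g * x) g' := by
  obtain ⟨y, a1, a2, rfl⟩ := h
  exact ⟨y * x, a1.mul h1.1, a2.mul h1.2, mul_assoc _ _ _⟩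

namespace Qz

variable {N : Subgroup (RingAut A)} {z a b h : A} (q : Qz N z a b) (hh : Hf h)
include q hh

theorem un_sg (hz : Un z) (zz : z * z = 1) : Un (sg h z a b) :=
  un_blk hh hz zz (q.z_oo hh) (q.z_soo hh) (q.un_oo hh) (q.un_oo hh).st

theorem star_sg (sz : star z = z) : star (sg h z a b) = blk h z (star (oo h a b)) (oo h a b) := by
  rw [sg, star_blk hh sz (q.z_oo hh) (q.z_soo hh), star_star]

theorem z_sg : z * sg h z a b = sg h z a b * z := z_blk hh (q.z_oo hh) (q.z_soo hh)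

theorem sg_mul (zz : z * z = 1) (P Q : A) :
    sg h z a b * blk h z P Q = blk h z (oo h a b * P) (star (oo h a b) * Q) :=
  blk_mul hh zz (q.z_oo hh) (q.z_soo hh) P Q

theorem sg_cube (zz : z * z = 1) : sg h z a b * (sg h z a b * sg h z a b) = -1 := by
  nth_rw 3 [sg]
  rw [q.sg_mul hh zz, q.sg_mul hh zz, q.oo_cube hh, q.soo_cube hh, blk_same hh]

theorem y_sg {y : A} (k : Hy N z y) (q' : Qz N y a b) : y * sg h z a b = star (sg h z a b) * y := by
  rw [q.star_sg hh k.sz, sg, anti_blk hh k.yz, blk_mul_r, q'.z_oo hh, q'.z_soo hh]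

theorem ssg_sq (hz : Un z) (zz : z * z = 1) : star (sg h z a b) * star (sg h z a b) = -sg h z a b := by
  have h1 := (q.un_sg hh hz zz).star_eq (b := -(sg h z a b * sg h z a b)) (by rw [mul_neg, q.sg_cube hh zz, neg_neg])
  rw [← star_mul, ← neg_neg (_ * _), ← h1, star_neg, star_star]

theorem sg_neg (zz : z * z = 1) : sg h z (-a) b = sg h z a b * blk h z (-(a * b)) a := by
  rw [q.sg_mul hh zz, sg, q.oo_neg, star_mul, star_neg, q.sc, neg_neg, q.soo_a hh]

theorem sg_z (hz : Lf N z) (zz : z * z = 1) : sg h z (z * a) b = sg h z a b * blk h z 1 a := by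
  have h1 : (1 + z) * oo h (z * a) b = (1 + z) * oo h a b := by
    rw [oo, oo, hh.out, hh.out (1 + z)]
    congr 1
    simp only [mul_add, add_mul, one_mul, mul_assoc, ← mul_assoc z z, zz]
    abel
  have h2 : (1 - z) * oo h (z * a) b = (1 - z) * oo h (-a) b := by
    rw [oo, oo, hh.out, hh.out (1 - z)]
    congr 1
    simp only [mul_add, sub_mul, one_mul, mul_assoc, ← mul_assoc z z, zz, mul_neg, neg_mul]
    abel
  rw [q.sg_mul hh zz, sg, blk, blk, mul_one, h1, (q.zmul hz zz).star_oo hh, mul_sub, h2, ← mul_sub, ← q.neg.star_oo hh,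
    q.oo_neg, star_mul, star_neg, q.sc, neg_neg, q.soo_a hh]

theorem sg_negz (zz : z * z = 1) : sg h (-z) a b = sg h z b a * blk h z (-b) a := by
  rw [q.swap.sg_mul hh zz, sg, blk_negz, q.oo_swap hh, star_mul, star_star, q.sb, mul_assoc, mul_neg, q.bb, neg_neg,
    mul_one, mul_assoc, q.oo_a hh, ← mul_assoc, neg_mul, q.bb, neg_neg, one_mul]

theorem sg_a (zz : z * z = 1) : sg h z a b * a = blk h z b (a * b) * sg h z a b := by
  rw [sg, blk_mul hh zz q.zb q.rot.zb, blk_mul_r, q.oo_a hh, q.soo_a hh]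

theorem sg_sg_a (zz : z * z = 1) : sg h z a b * sg h z a b * a = blk h z (a * b) b * (sg h z a b * sg h z a b) := by
  rw [mul_assoc, q.sg_a hh zz, ← mul_assoc, ← mul_assoc, q.sg_mul hh zz, q.oo_b hh, q.soo_c hh, sg,
    blk_mul hh zz q.rot.zb q.zb]

theorem sg_five (zz : z * z = 1) : sg h z a b * (a * (sg h z a b * (a * sg h z a b))) = -(z * a) := by
  nth_rw 3 [sg]
  rw [mul_blk hh q.za, q.sg_mul hh zz, mul_blk hh q.za, q.sg_mul hh zz, ← mul_neg, ← blk_opp hh z]
  congr 1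
  · rw [← mul_assoc, q.oo_a hh, ← mul_assoc _ a, q.oo_a hh, mul_assoc, mul_assoc, ← mul_assoc _ b, q.oo_b hh,
      mul_assoc _ (oo h a b), q.oo_cube hh, mul_neg, mul_one, mul_neg, q.bab]
  · rw [← mul_assoc, q.soo_a hh, ← mul_assoc _ a, q.soo_a hh, mul_assoc, mul_assoc _ (star _), ← mul_assoc (star _) (a * b),
      q.soo_c hh, mul_assoc b, q.soo_cube hh, mul_neg, mul_one, mul_neg, mul_assoc, q.bb, mul_neg, mul_one]

end Qz

namespace EC

variable {F : FR A} {G H N : Subgroup (RingAut A)} {m p : ℕ} (E : EC F G H N m p 2)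
include E

theorem exists_hf : ∃ h : A, Hf h := by
  obtain ⟨h, h1, h2⟩ := E.exists_rho
  exact ⟨h, h1, by simpa only [_root_.Nat.cast_ofNat] using h2⟩

theorem pm {κ : A} (h1 : κ ∈ Subring.center A) (h2 : Un κ) (h3 : κ * κ = 1) : κ = 1 ∨ κ = -1 :=
  or_iff_not_imp_left.2 (SB.C2.sq_eq_neg E.σ.ss h1 h2 h3)

theorem ca {u v : A} (hu : Lf N u) (hv : Lf N v) : u * v = v * u ∨ u * v = -(v * u) := by
  obtain ⟨κ, h1, h2, h3, h4⟩ := E.σ.exists_kap hu hv
  rcases E.pm h1 h2 ((pow_two κ).symm.trans h3) with rfl | rfl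
  · exact Or.inl (by rw [h4, one_mul])
  · exact Or.inr (by rw [h4, neg_one_mul])

theorem anti {u v : A} (hu : Lf N u) (hv : Lf N v) (h : u * v ≠ v * u) : u * v = -(v * u) :=
  (E.ca hu hv).resolve_left h

theorem nm_tau {w : A} (hw : Lf N w) (h : w * w = -1) : Nm N (1 + w) := fun u hu => by
  rcases E.ca hw hu with e | e
  · exact ⟨u, hu, by rw [add_mul, mul_add, e, one_mul, mul_one]⟩
  · exact ⟨w * u, hw.mul hu, by
      rw [add_mul, mul_add, one_mul, mul_one, add_comm, mul_assoc, ← neg_neg (u * w), ← e, mul_neg, ← mul_assoc, h,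
        neg_one_mul, neg_neg]⟩

variable {h z y a b : A} (hh : Hf h)
include hh

theorem nm_blk₁ (hz : Lf N z) (zz : z * z = 1) {w : A} (hw : Lf N w) (ww : w * w = -1) (e : z * w = w * z) :
    Un (blk h z w 1) ∧ Nm N (blk h z w 1) := by
  refine ⟨un_blk hh hz.1 zz e (by rw [mul_one, one_mul]) hw.1 Un.one, ?_⟩
  have h1 : (1 + z) * w + (1 - z) * 1 = (1 + w) * (1 + z * w) := by
    simp only [add_mul, mul_add, mul_one, one_mul, ← mul_assoc w z, ← e, mul_assoc z w, ww, mul_neg]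
    abel
  rw [blk, h1]
  exact (Nm.cen hh.cen).mul ((E.nm_tau hw ww).mul (E.nm_tau (hz.mul hw) (by
    rw [mul_assoc, ← mul_assoc w, ← e, mul_assoc, ww, ← mul_assoc, zz, one_mul])))

theorem nm_blk₂ (hz : Lf N z) (zz : z * z = 1) {w : A} (hw : Lf N w) (ww : w * w = -1) (e : z * w = w * z) :
    Un (blk h z 1 w) ∧ Nm N (blk h z 1 w) := by
  rw [← blk_negz]
  exact E.nm_blk₁ hh hz.neg (by rw [neg_mul_neg, zz]) hw ww (by rw [neg_mul, mul_neg, e])

theorem nm_blk (hz : Lf N z) (zz : z * z = 1) (q : Qz N z a b) : Un (blk h z a b) ∧ Nm N (blk h z a b) := by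
  have h1 := E.nm_blk₁ hh hz zz q.la q.aa q.za
  have h2 := E.nm_blk₂ hh hz zz q.lb q.bb q.zb
  rw [← mul_one a, ← one_mul b, ← blk_mul hh zz q.za (by rw [mul_one, one_mul])]
  exact ⟨h1.1.mul h2.1, h1.2.mul h2.2⟩

/-- **test** -/
theorem test (k : Hy N z y) {P Q : A} (h1 : y * P = P * y) (h2 : y * Q = Q * y) (h3 : Lf N (blk h z P Q)) :
    Q = P ∨ Q = -P := by
  have h4 : y * blk h z P Q = blk h z Q P * y := by rw [anti_blk hh k.yz, blk_mul_r, h1, h2]
  refine (E.ca k.ly h3).imp (fun e => ?_) fun e => ?_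
  · have h5 := add_neg_eq_zero.2 (k.ly.1.cancel' (h4.symm.trans e))
    rw [blk_neg, blk_add, add_comm P, ← neg_neg (-Q + P), neg_add_rev, neg_neg, add_comm (-P), blk_opp hh,
      k.lz.1.isUnit.mul_right_eq_zero] at h5
    exact add_neg_eq_zero.1 h5
  · have h5 := add_eq_zero_iff_eq_neg.2 (k.ly.1.cancel' (h4.symm.trans (e.trans (neg_mul _ _).symm)))
    rw [blk_add, add_comm P, blk_same hh] at h5
    exact add_eq_zero_iff_eq_neg.1 h5

theorem sg_S (k : Hy N z y) (q : Qz N z a b) (q' : Qz N y a b) : ad (sg h z a b) ∈ F.S := by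
  have h0 : z * 1 = 1 * z := by rw [mul_one, one_mul]
  have h1 := E.σ.comm_mem (un_blk hh k.lz.1 k.zz (q.z_oo hh) h0 (q.un_oo hh) Un.one) k.ly.1
  rwa [star_blk hh k.sz (q.z_oo hh) h0, mul_assoc _ y, anti_blk hh k.yz, mul_assoc, q'.z_soo hh, star_one, mul_one,
    blk_mul_r h z y, mul_assoc, k.ly.1.ms, blk_mul hh k.zz (q.z_oo hh) h0, mul_one, mul_one, one_mul] at h1

theorem not_nm (k : Hy N z y) (q : Qz N z a b) (q' : Qz N y a b) : ¬ Nm N (sg h z a b * sg h z a b) := fun h1 => by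
  have := E.σ.ss.nontrivial
  obtain ⟨v, hv, e⟩ := h1 a q.la
  rw [← ((q.un_sg hh k.lz.1 k.zz).mul (q.un_sg hh k.lz.1 k.zz)).cancel' ((q.sg_sg_a hh k.zz).symm.trans e)] at hv
  exact q.rot.swap.ne_pm hh (E.test hh k q'.rot.zb q'.zb hv)

omit hh in
theorem nm_of_mem {x : A} (hx : Un x) (h1 : ad x ∈ H) : Nm N x := fun u hu =>
  ⟨_, E.lf_conj hx h1 hu, by rw [mul_assoc, hx.sm, mul_one]⟩

theorem cls (hz : Lf N z) (zz : z * z = 1) (q : Qz N z a b) {a' b' : A} (q' : Qz N z a' b') (ha : Tz z a b a')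
    (hb : Tz z a b b') : Eqv N (sg h z a' b') (sg h z a b) ∨ Eqv N (sg h z a' b') (sg h z b a) := by
  have := E.σ.ss.nontrivial
  refine q.ind hz zz (P := fun x y => Eqv N (sg h z x y) (sg h z a b) ∨ Eqv N (sg h z x y) (sg h z b a))
    (Or.inl Eqv.rfl) (Or.inr Eqv.rfl) (fun x y r h1 => ?_) (fun x y r h1 => ?_) (fun x y r h1 => ?_) (q'.ne_comm hh) ha hb
  · rwa [sg, r.oo_rot]
  · have h2 : Qz N z (-(x * y)) x := by
      have := r.rot.rot.neg
      rwa [r.bab] at this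
    rw [r.sg_neg hh zz]
    exact h1.imp (·.mul (E.nm_blk hh hz zz h2)) (·.mul (E.nm_blk hh hz zz h2))
  · rw [r.sg_z hh hz zz]
    exact h1.imp (·.mul (E.nm_blk₂ hh hz zz r.la r.aa r.za)) (·.mul (E.nm_blk₂ hh hz zz r.la r.aa r.za))

/-- **the near point** -/
theorem near (k : Hy N z y) {P : Subgroup (RingAut A)} (hP : P ≤ H) (h1 : ¬ 2 ∣ P.relIndex H)
    (h2 : ∀ γ ∈ P, γ * ad z = ad z * γ) {a₂ b₂ : A} (q : Qz N z a b) (q' : Qz N y a b) (r : Qz N z a₂ b₂)
    (r' : Qz N y a₂ b₂) (loc : ∀ a' b', Qz N z a' b' → (Tz z a b a' ∧ Tz z a b b') ∨ (Tz z a₂ b₂ a' ∧ Tz z a₂ b₂ b')) :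
    ¬ 8 ∣ Nat.card H / m := by
  classical
  have hu := q.un_sg hh k.lz.1 k.zz
  refine not_eight (C := H ⊓ Subgroup.centralizer {ad z}) E.c.in (E.c.S_le (E.sg_S hh k q q'))
    (fun h3 => E.not_nm hh k q q' ((E.nm_of_mem hu h3).mul (E.nm_of_mem hu h3))) inf_le_left
    (fun γ hγ => ⟨hP hγ, Subgroup.mem_centralizer_singleton_iff.2 (h2 γ hγ)⟩) h1
    ((relIndex_le inf_le_left {ad (sg h z a b), ad (sg h z b a), ad (sg h z a₂ b₂), ad (sg h z b₂ a₂)}
      fun γ hγ => ?_).trans Finset.card_le_four)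
  have hS := FR.conj_mem_S (E.c.H_le_Aut hγ.1) (E.sg_S hh k q q')
  have hs := E.c.le_SAut hγ.1
  have hu' := hu.map hs
  rw [conj_ad γ hu] at hS ⊢
  rw [map_sg hh hs] at hS hu' ⊢
  have pt : ∀ {x y' : A}, Qz N z x y' → Qz N y x y' → Eqv N (sg h (γ z) (γ a) (γ b)) (sg h z x y') →
      (ad (sg h z x y'))⁻¹ * ad (sg h (γ z) (γ a) (γ b)) ∈ H := fun {x y'} s s' ⟨t, t1, t2, t3⟩ => by
    have h4 := F.S.mul_mem (F.S.inv_mem (E.sg_S hh k s s')) hS
    rw [t3, ad_mul (s.un_sg hh k.lz.1 k.zz) t1, inv_mul_cancel_left] at h4 ⊢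
    exact E.mem_H t1 h4 t2
  have h3 : Qz N (γ z) (γ a) (γ b) := ⟨E.lf_map hγ.1 q.la, E.lf_map hγ.1 q.lb, by rw [← map_mul, q.aa, map_neg, map_one],
    by rw [← map_mul, q.bb, map_neg, map_one], by rw [← map_mul, q.ba, map_neg, map_mul], by
    rw [← map_mul, q.za, map_mul], by rw [← map_mul, q.zb, map_mul]⟩
  have h4 : ∃ a' b', Qz N z a' b' ∧ ∀ t, Eqv N (sg h z a' b') t → Eqv N (sg h (γ z) (γ a) (γ b)) t := by
    obtain ⟨κ, c1, c2, c3⟩ := (ad_eq_iff (k.lz.1.map hs) k.lz.1).1 (by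
      rw [← conj_ad γ k.lz.1, Subgroup.mem_centralizer_singleton_iff.1 hγ.2, mul_inv_cancel_right])
    rcases E.pm c1 c2 (by
      have := congrArg γ k.zz
      rwa [map_mul, map_one, c3, cen_mul_mul c1, k.zz, mul_one] at this) with rfl | rfl
    · rw [c3, one_mul] at h3 ⊢
      exact ⟨_, _, h3, fun _ h => h⟩
    · rw [c3, neg_one_mul] at h3 ⊢
      have h4 := h3.negz
      rw [neg_neg] at h4
      refine ⟨_, _, h4.swap, fun t h => ?_⟩
      rw [h4.sg_negz hh k.zz]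
      exact h.mul (E.nm_blk hh k.lz k.zz h4.swap.neg)
  obtain ⟨a', b', c1, c2⟩ := h4
  simp only [Finset.mem_insert, Finset.mem_singleton, exists_eq_or_imp, exists_eq_left]
  rcases loc a' b' c1 with ⟨d1, d2⟩ | ⟨d1, d2⟩
  · exact (E.cls hh k.lz k.zz q c1 d1 d2).elim (fun e => Or.inl (pt q q' (c2 _ e)))
      fun e => Or.inr (Or.inl (pt q.swap q'.swap (c2 _ e)))
  · exact Or.inr (Or.inr ((E.cls hh k.lz k.zz r c1 d1 d2).imp (fun e => pt r r' (c2 _ e))
      fun e => pt r.swap r'.swap (c2 _ e)))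

theorem far₀ {g ν : A} (hg : Un g) (hν : Un ν) (h1 : ad ν ∈ TH.cj (ad g) H) : ad (star g * ν * g) ∈ H := by
  rw [ad_mul (hg.st.mul hν) hg, ad_mul hg.st hν, ad_star hg]
  exact mem_cj.1 h1

theorem far₁ (k : Hy N z y) (yy : y * y = 1) (q : Qz N z a b) (q' : Qz N y a b) :
    ad a ∉ TH.cj (ad (sg h z a b * sg h y a b)) H ∧ ad z * ad a ∉ TH.cj (ad (sg h z a b * sg h y a b)) H := by
  have k' := k.symm yy
  have u1 := q.un_sg hh k.lz.1 k.zz
  have u2 := q'.un_sg hh k.ly.1 yy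
  have h1 : sg h z a b * sg h y a b * y * star (sg h z a b * sg h y a b) = -(y * sg h z a b) := by
    rw [star_mul, mul_assoc _ _ y, ← q'.z_sg hh, mul_assoc, mul_assoc, ← mul_assoc (sg h y a b), u2.ms, one_mul]
    refine u1.st.cancel ?_
    rw [← mul_assoc, u1.sm, one_mul, mul_neg, q.y_sg hh k q', ← mul_assoc, q.ssg_sq hh k.lz.1 k.zz, neg_mul, neg_neg]
    refine u1.cancel' ?_
    rw [mul_assoc, u1.sm, mul_one, mul_assoc, q.y_sg hh k q', ← mul_assoc, u1.ms, one_mul]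
  have h2 : star (sg h z a b * sg h y a b) * (y * (a * (sg h z a b * a))) * (sg h z a b * sg h y a b) =
      -(y * (z * (sg h y a b * a * sg h y a b))) := by
    have h3 : y * star (sg h y a b) = star (sg h y a b) * y := (star_comm_of (k.ly.1.star_eq yy) (q'.z_sg hh).symm).symm
    rw [star_mul, mul_assoc (star _), ← mul_assoc (star _) y, ← q.y_sg hh k q', ← mul_assoc _ (sg h z a b)]
    simp only [mul_assoc]
    rw [← mul_assoc (star _), ← h3, ← mul_assoc a (sg h z a b) (sg h y a b), ← mul_assoc (sg h z a b) (a * _),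
      ← mul_assoc a (_ * _), ← mul_assoc (sg h z a b) (a * _), q.sg_five hh k.zz, neg_mul, mul_assoc, mul_neg, mul_neg,
      mul_assoc z, ← mul_assoc (star _), ← q'.y_sg hh k' q, mul_assoc]
  have h3 : ∀ {ν}, Un ν → ad ν ∈ TH.cj (ad (sg h z a b * sg h y a b)) H → ∀ s, s * s = 1 → s ∈ Subring.center A → Un s →
      ν * -(y * sg h z a b) * star ν ≠ s * (y * (a * (sg h z a b * a))) := fun {ν} hν c1 s c2 c3 c4 c5 => by
    have h4 := E.lf_conj (((u1.mul u2).st.mul hν).mul (u1.mul u2)) (E.far₀ hh (u1.mul u2) hν c1) k.ly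
    rw [← h1] at c5
    generalize sg h z a b * sg h y a b = g at h2 h4 c5
    have h5 : star g * ν * g * y * star (star g * ν * g) = star g * (ν * (g * y * star g) * star ν) * g := by
      simp only [star_mul, star_star, mul_assoc]
    rw [h5, c5, ← mul_assoc (star g), cen_comm c3, mul_assoc s, mul_assoc s, h2] at h4
    have h6 := k.lz.mul (k.ly.mul ((Lf.cen c3 c4).mul h4).neg)
    rw [← mul_assoc s, c2, one_mul, neg_neg, ← mul_assoc y, yy, one_mul, ← mul_assoc z, k.zz, one_mul,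
      q'.sg_a hh yy, mul_assoc] at h6
    have h7 := (E.nm_blk hh k.ly yy q'.rot.neg.swap.neg.swap).2.mul (E.σ.nm_lf h6)
    rw [← mul_assoc, blk_mul hh yy q'.rot.neg.za q'.rot.swap.neg.za, neg_mul, neg_mul, q.bb, q.rot.bb, blk_same hh,
      neg_neg, one_mul] at h7
    exact E.not_nm hh k' q' q h7
  have h4 : a * -(y * sg h z a b) * star a = y * (a * (sg h z a b * a)) := by
    rw [q.sa, mul_neg, mul_neg, neg_mul, neg_neg, ← mul_assoc a, ← q'.za, mul_assoc, mul_assoc]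
  refine ⟨fun c => h3 q.la.1 c 1 (one_mul 1) (Subring.one_mem _) Un.one (by rw [h4, one_mul]), fun c => ?_⟩
  rw [← ad_mul k.lz.1 q.la.1] at c
  refine h3 (k.lz.1.mul q.la.1) c (-1) (by simp) (Subring.neg_mem _ (Subring.one_mem _)) Un.one.neg ?_
  rw [star_mul, mul_assoc z, mul_assoc z, ← mul_assoc _ (star a), h4, k.sz, mul_assoc y, mul_assoc a, mul_assoc _ a,
    ← q.za, ← mul_assoc _ z, ← q.z_sg hh, mul_assoc z, ← mul_assoc a, ← q.za, mul_assoc z, ← mul_assoc y, k.yz, neg_mul,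
    mul_neg, mul_assoc, ← mul_assoc z, k.zz, one_mul, neg_one_mul]

/-- **the far point** -/
theorem far (k : Hy N z y) (yy : y * y = 1) (q : Qz N z a b) (q' : Qz N y a b) : 8 ∣ Nat.card H / m := by
  have k' := k.symm yy
  have u1 := q.un_sg hh k.lz.1 k.zz
  have u2 := q'.un_sg hh k.ly.1 yy
  have hg := F.S.mul_mem (E.sg_S hh k q q') (E.sg_S hh k' q' q)
  rw [← ad_mul u1 u2] at hg
  have h2 := E.far₁ hh k yy q q'
  have h3 := E.far₁ hh k yy q.rot q'.rot
  have h4 := E.far₁ hh k yy q.rot.rot q'.rot.rot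
  rw [sg, sg, q.rot.oo_rot, q.oo_rot, ad_mul q.la.1 q.lb.1] at h4
  rw [sg, sg, q.oo_rot] at h3
  refine (eight_dvd E.σ.comm E.σ.exp k.lz.2 q.la.2 q.lb.2 (fun h5 => E.not_nm hh k' q' q ?_) h2.1 h3.1 h4.1 h2.2 h3.2
    h4.2).trans (E.c.in.relIndex_dvd_d₂ E.le E.min.nrm le_rfl (fun a ha => E.min.nrm a (E.le ha)) (E.c.S_le hg))
  have h6 := (E.σ.nm_lf k.lz).mul (E.nm_of_mem (((u1.mul u2).st.mul k.lz.1).mul (u1.mul u2))
    (E.far₀ hh (u1.mul u2) k.lz.1 h5))
  rwa [star_mul, mul_assoc, mul_assoc, ← mul_assoc z (sg h z a b), q.z_sg hh, mul_assoc, ← mul_assoc (star _) (sg h z a b),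
    u1.sm, one_mul, ← mul_assoc (star _), ← q'.y_sg hh k' q, mul_assoc, ← mul_assoc, k.zz, one_mul] at h6

end EC

end Cfsg.Agent.TH.Cl.Ext
end

-- part: TH/Cl/Ext/TwoC
section
/-!
# S3541, box `Ext`, `r = 2`: normal forms, the large case, the enumeration of quaternion pairs (helper58)
-/

set_option autoImplicit false
set_option linter.unusedSectionVars false

namespace Cfsg.Agent.TH.Cl.Ext

open Cfsg.Agent.DS.Cl Cfsg.Agent.DS.Cl.Fwd Cfsg.Agent.SB.Cl

variable {A : Type} [Ring A] [StarRing A] [Finite A]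

/-- no central isometry of order four -/
def NoI (A : Type) [Ring A] [StarRing A] : Prop := ∀ c ∈ Subring.center A, Un c → c * c ≠ -1

/-- `1, u, v, u v` -/
def T1 (u v t : A) : Prop := t = 1 ∨ t = u ∨ t = v ∨ t = u * v

theorem T1.lf {N : Subgroup (RingAut A)} {u v t : A} (h : T1 u v t) (hu : Lf N u) (hv : Lf N v) : Lf N t := by
  rcases h with rfl | rfl | rfl | rfl
  exacts [Lf.one, hu, hv, hu.mul hv]

theorem T1.comm {u v t x : A} (h : T1 u v t) (h1 : Commute x u) (h2 : Commute x v) : Commute x t := by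
  rcases h with rfl | rfl | rfl | rfl
  exacts [Commute.one_right x, h1, h2, h1.mul_right h2]

theorem T1.sq {N : Subgroup (RingAut A)} {z u v t : A} (h : T1 u v t) (q : Qz N z u v) (h1 : t ≠ 1) : t * t = -1 := by
  rcases h with rfl | rfl | rfl | rfl
  exacts [absurd rfl h1, q.aa, q.bb, q.rot.bb]

theorem cm_of_ad {u v x : A} (hu : Un u) (hv : Un v) (e : ad v = ad u) (h : Commute x u) : Commute x v :=
  ((ad_fix hv).1 (e ▸ (ad_fix hu).2 h.symm)).symm

theorem Un.cm {u w x : A} (hu : Un u) (h1 : Commute x u) (h2 : Commute x (u * w)) : Commute x w :=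
  hu.cancel (by rw [← mul_assoc, ← h1.eq, mul_assoc, h2.eq, mul_assoc])

theorem Tz.lift {z a b s w : A} (zz : z * z = 1) (hs : s = 1 ∨ s = z) (h : Tz 1 a b (s * w)) : Tz z a b w := by
  obtain ⟨t, ht, h⟩ := h
  have h1 : w = s * (s * w) := by rcases hs with rfl | rfl <;> simp [← mul_assoc, zz]
  refine ⟨s * t, ?_, by simpa only [mul_assoc, ← h1] using h.imp (congrArg (s * ·)) (Or.imp (congrArg (s * ·))
    (congrArg (s * ·)))⟩
  rcases hs with rfl | rfl <;> rcases ht with rfl | rfl | rfl | rfl <;> simp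

theorem Tz.cross {N : Subgroup (RingAut A)} {z a b a₂ b₂ x y : A} (r : Qz N z a₂ b₂) (h1 : Commute a₂ a)
    (h2 : Commute a₂ b) (h3 : Commute b₂ a) (h4 : Commute b₂ b) (hx : Tz z a b x) (hy : Tz z a₂ b₂ y) (h : z * x = x * z) :
    x * y = y * x :=
  hy.comm h.symm (hx.comm r.za.symm h1 h2).symm (hx.comm r.zb.symm h3 h4).symm

theorem Hy.qz {N : Subgroup (RingAut A)} {z y z' y' : A} (k : Hy N z y) (yy : y * y = 1) (k' : Hy N z' y')
    (yy' : y' * y' = 1) (h1 : Commute z z') (h2 : Commute z y') (h3 : Commute y z') (h4 : Commute y y') :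
    Qz N 1 (z * y) (z * (z' * y')) := by
  have a1 : ∀ {z y : A}, Hy N z y → y * y = 1 → z * y * (z * y) = -1 := fun {z y} k yy => by
    rw [mul_assoc, ← mul_assoc y, k.yz, neg_mul, mul_assoc, yy, mul_one, mul_neg, k.zz]
  refine ⟨k.lz.mul k.ly, k.lz.mul (k'.lz.mul k'.ly), a1 k yy, ?_, ?_, by rw [mul_one, one_mul], by rw [mul_one, one_mul]⟩
  · rw [(h1.mul_right h2).symm.mul_mul_mul_comm, k.zz, a1 k' yy', one_mul]
  · rw [mul_assoc, ((h1.mul_right h2).symm.mul_right (h3.mul_right h4).symm).eq, mul_assoc z y, mul_assoc z y,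
      ← mul_assoc y z, k.yz, neg_mul, mul_neg, neg_neg, mul_assoc z y]

namespace EC

variable {F : FR A} {G H N : Subgroup (RingAut A)} {m p : ℕ} (E : EC F G H N m p 2)
include E

open DS.Cl.Ext in
theorem norm {u : A} (hu : Lf N u) : ∃ v, Lf N v ∧ ad v = ad u ∧ (v * v = 1 ∨ v * v = -1) := by
  have h0 : ∀ c ∈ Subring.center A, Un c → Lf N (c * u) ∧ ad (c * u) = ad u := fun c h1 h2 =>
    ⟨(Lf.cen h1 h2).mul hu, by rw [ad_mul h2 hu.1, ad_cen h1, one_mul]⟩
  rcases E.root with h | ⟨-, h⟩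
  · obtain ⟨c, h1, h2, h3⟩ := h u hu
    exact ⟨_, (h0 c h1 h2).1, (h0 c h1 h2).2, Or.inl ((pow_two _).symm.trans h3)⟩
  · have h1 := E.σ.pow_cen hu
    have h2 := hu.pow 2
    let c : Uh F N := ⟨⟨mkU _ h2.1, by
      change DS.Cl.cj A _ ∈ N
      rw [← ad_val]
      exact h2.2, E.σ.mem_Iso h2.1⟩, h1⟩
    have h3 : (u ^ 2) ^ Nat.card (Uh F N) = 1 :=
      congrArg (fun x : Uh F N => (((x : Nh F N) : Aˣ) : A)) (pow_card_eq_one' (x := c))
    obtain ⟨j, hj⟩ : ∃ j, Nat.card (Uh F N) ∣ (2 * j + 1) * 2 := by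
      generalize Nat.card (Uh F N) = n at h
      rcases Nat.even_or_odd' n with ⟨k, rfl | rfl⟩
      · exact ⟨k / 2, Dvd.intro 1 (by omega)⟩
      · exact ⟨k, dvd_mul_right _ _⟩
    have h4 : (u ^ 2) ^ j * u * ((u ^ 2) ^ j * u) = (u ^ 2) ^ (2 * j + 1) := by
      simp only [← pow_mul, ← pow_succ, ← pow_add]
      congr 1
      omega
    refine ⟨_, (h0 _ (Subring.pow_mem _ h1 j) (h2.1.pow j)).1, (h0 _ (Subring.pow_mem _ h1 j) (h2.1.pow j)).2, ?_⟩
    rw [h4]
    exact E.pm (Subring.pow_mem _ h1 _) (h2.1.pow _) (by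
      obtain ⟨k, hk⟩ := hj
      rw [← pow_two, ← pow_mul, hk, pow_mul, h3, one_pow])

theorem norm_i (hi : ¬ NoI A) {u : A} (hu : Lf N u) :
    (∃ v, Lf N v ∧ ad v = ad u ∧ v * v = 1) ∧ ∃ v, Lf N v ∧ ad v = ad u ∧ v * v = -1 := by
  obtain ⟨v, h1, h2, h3⟩ := E.norm hu
  rw [NoI] at hi
  push Not at hi
  obtain ⟨c, c1, c2, c3⟩ := hi
  have h4 := (Lf.cen c1 c2).mul h1
  have h5 : ad (c * v) = ad u := by rw [ad_mul c2 h1.1, ad_cen c1, one_mul, h2]
  have h6 : c * v * (c * v) = -(v * v) := by rw [cen_mul_mul c1, c3, neg_one_mul]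
  rcases h3 with h3 | h3
  · exact ⟨⟨v, h1, h2, h3⟩, _, h4, h5, by rw [h6, h3]⟩
  · exact ⟨⟨_, h4, h5, by rw [h6, h3, neg_neg]⟩, v, h1, h2, h3⟩

theorem exists_hy {z s : A} (hz : Lf N z) (zz : z * z = 1) (hs : Lf N s) (h : ¬ Commute s z) :
    ∃ y, Hy N z y ∧ y * y = 1 ∧ ∀ x, Commute x z → Commute x s → Commute x y := by
  obtain ⟨v, h1, h2, h3⟩ := E.norm hs
  have h4 := E.anti h1 hz fun e => h (cm_of_ad h1.1 hs.1 h2.symm (Eq.symm e)).symm
  rcases h3 with h3 | h3
  · exact ⟨v, ⟨hz, h1, zz, h4⟩, h3, fun x _ c => cm_of_ad hs.1 h1.1 h2 c⟩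
  · exact ⟨z * v, ⟨hz, hz.mul h1, zz, by rw [mul_assoc, h4, mul_neg]⟩, by
      rw [mul_assoc, ← mul_assoc v, h4, neg_mul, mul_assoc, h3, mul_neg, mul_neg, mul_neg, neg_neg, mul_one, zz],
      fun x c c' => c.mul_right (cm_of_ad hs.1 h1.1 h2 c')⟩

theorem pair {u v : A} (hu : Lf N u) (hv : Lf N v) (h : ¬ Commute v u) :
    ∃ a b, (Qz N 1 a b ∨ Hy N a b ∧ b * b = 1) ∧ ∀ x, Commute x u → Commute x v → Commute x a ∧ Commute x b := by
  obtain ⟨a, a1, a2, a3⟩ := E.norm hu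
  obtain ⟨b, b1, b2, b3⟩ := E.norm hv
  have h1 : ¬ Commute b a := fun e => h (cm_of_ad a1.1 hu.1 a2.symm (cm_of_ad b1.1 hv.1 b2.symm e.symm).symm)
  have h2 : ∀ x, Commute x u → Commute x v → Commute x a ∧ Commute x b := fun x c c' =>
    ⟨cm_of_ad hu.1 a1.1 a2 c, cm_of_ad hv.1 b1.1 b2 c'⟩
  rcases a3 with a3 | a3
  · obtain ⟨y, c1, c2, c3⟩ := E.exists_hy a1 a3 b1 h1
    exact ⟨a, y, Or.inr ⟨c1, c2⟩, fun x c c' => ⟨(h2 x c c').1, c3 x (h2 x c c').1 (h2 x c c').2⟩⟩
  rcases b3 with b3 | b3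
  · obtain ⟨y, c1, c2, c3⟩ := E.exists_hy b1 b3 a1 fun e => h1 e.symm
    exact ⟨b, y, Or.inr ⟨c1, c2⟩, fun x c c' => ⟨(h2 x c c').2, c3 x (h2 x c c').2 (h2 x c c').1⟩⟩
  · exact ⟨a, b, Or.inl ⟨a1, b1, a3, b3, E.anti b1 a1 h1, by rw [mul_one, one_mul], by rw [mul_one, one_mul]⟩, h2⟩

theorem split' {u v w : A} (hu : Lf N u) (hv : Lf N v) (h : u * v ≠ v * u) (hw : Lf N w) :
    ∃ t, T1 u v t ∧ Commute u (t * w) ∧ Commute v (t * w) := by
  obtain ⟨i, hi, j, hj, h1, h2⟩ := E.split hu hv h hw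
  refine ⟨_, ?_, h1, h2⟩
  interval_cases i <;> interval_cases j <;> simp only [T1, _root_.pow_zero, _root_.mul_one, _root_.true_or, _root_.pow_one, _root_.one_mul, _root_.or_true]

theorem partner₂ {z y a b u : A} (hz : Lf N z) (hy : Lf N y) (h : z * y ≠ y * z) (ha : Lf N a) (hb : Lf N b)
    (h' : a * b ≠ b * a) (c1 : Commute z a) (c2 : Commute z b) (c3 : Commute y a) (c4 : Commute y b)
    (h0 : u ∉ Subring.center A) (d1 : Commute z u) (d2 : Commute y u) (d3 : Commute a u) (d4 : Commute b u) :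
    ∃ v, Lf N v ∧ ¬ Commute v u ∧ Commute z v ∧ Commute y v ∧ Commute a v ∧ Commute b v := by
  obtain ⟨s, e1, e2, e3, e4⟩ := E.exists_partner hz hy h h0 d1 d2
  obtain ⟨t, f1, f2, f3⟩ := E.split' ha hb h' e1
  exact ⟨t * s, (f1.lf ha hb).mul e1, fun e => e2 ((f1.lf ha hb).1.cm (f1.comm d3.symm d4.symm) e.symm).symm,
    (f1.comm c1 c2).mul_right e3, (f1.comm c3 c4).mul_right e4, f2, f3⟩

theorem fin₁ {z a b t w : A} (q : Qz N z a b) (ht : T1 a b t) (hw : Un w) (ww : w * w = -1)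
    (h0 : w ∉ Subring.center A) (h : t * w ∈ Subring.center A) : Tz 1 a b w := by
  have h1 : t ≠ 1 := fun e => h0 (by rwa [e, one_mul] at h)
  have h2 := ht.sq q h1
  have h3 : w = -(t * w) * t := by rw [neg_mul, ← cen_comm h, ← mul_assoc, h2, neg_one_mul, neg_neg]
  have h4 := E.pm (Subring.neg_mem _ h) ((ht.lf q.la q.lb).1.mul hw).neg (by
    rw [h3, cen_mul_mul (Subring.neg_mem _ h), h2, mul_neg, mul_one, neg_inj] at ww
    exact ww)
  generalize -(t * w) = κ at h3 h4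
  refine ⟨κ, h4.imp_right Or.inl, ?_⟩
  rcases ht with rfl | rfl | rfl | rfl
  exacts [absurd rfl h1, Or.inl h3, Or.inr (Or.inl h3), Or.inr (Or.inr h3)]

theorem strip {z y a' b' : A} (k : Hy N z y) (q : Qz N z a' b') : ∃ s, (s = 1 ∨ s = z) ∧ Lf N (s * a') ∧
    s * a' * (s * a') = -1 ∧ s * a' ∉ Subring.center A ∧ Commute z (s * a') ∧ Commute y (s * a') := by
  obtain ⟨h, hh⟩ := E.exists_hf
  have := E.σ.ss.nontrivial
  have h1 : ∀ {a}, Qz N z a b' → a ∉ Subring.center A := fun q h => q.ne_comm hh (cen_comm h _).symm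
  rcases E.ca k.ly q.la with e | e
  · exact ⟨1, Or.inl rfl, by simpa only [one_mul] using ⟨q.la, q.aa, h1 q, q.za, e⟩⟩
  · have q' := q.zmul k.lz k.zz
    exact ⟨z, Or.inr rfl, q'.la, q'.aa, h1 q', q'.za, by
      rw [Commute, SemiconjBy, ← mul_assoc, k.yz, neg_mul, mul_assoc, e, mul_neg, neg_neg, mul_assoc]⟩

theorem enum₁ {z y a b a' b' : A} (k : Hy N z y) (q : Qz N z a b) (q' : Qz N y a b)
    (hc : ∀ w, Lf N w → Commute z w → Commute y w → Commute a w → Commute b w → w ∈ Subring.center A)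
    (r : Qz N z a' b') : Tz z a b a' := by
  obtain ⟨h, hh⟩ := E.exists_hf
  have := E.σ.ss.nontrivial
  obtain ⟨s, a1, a2, a3, a4, a5, a6⟩ := E.strip k r
  obtain ⟨t, b1, b2, b3⟩ := E.split' q.la q.lb (q.ne_comm hh) a2
  exact (E.fin₁ q b1 a2.1 a3 a4 (hc _ ((b1.lf q.la q.lb).mul a2) ((b1.comm q.za q.zb).mul_right a5)
    ((b1.comm q'.za q'.zb).mul_right a6) b2 b3)).lift k.zz a1

section

variable {z y a b a₂ b₂ : A} (q : Qz N z a b) (q' : Qz N y a b) (r : Qz N z a₂ b₂) (r' : Qz N y a₂ b₂)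
  (h1 : Commute a₂ a) (h2 : Commute a₂ b) (h3 : Commute b₂ a) (h4 : Commute b₂ b)
  (hc : ∀ w, Lf N w → Commute z w → Commute y w → Commute a w → Commute b w → Commute a₂ w → Commute b₂ w →
    w ∈ Subring.center A)
include q q' r r' h1 h2 h3 h4 hc

theorem dec₂ {w : A} (hw : Lf N w) (c1 : Commute z w) (c2 : Commute y w) :
    ∃ t t', T1 a b t ∧ T1 a₂ b₂ t' ∧ t' * (t * w) ∈ Subring.center A := by
  obtain ⟨h, hh⟩ := E.exists_hf
  have := E.σ.ss.nontrivial
  obtain ⟨t, b1, b2, b3⟩ := E.split' q.la q.lb (q.ne_comm hh) hw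
  obtain ⟨t', d1, d2, d3⟩ := E.split' r.la r.lb (r.ne_comm hh) ((b1.lf q.la q.lb).mul hw)
  exact ⟨t, t', b1, d1, hc _ ((d1.lf r.la r.lb).mul ((b1.lf q.la q.lb).mul hw))
    ((d1.comm r.za r.zb).mul_right ((b1.comm q.za q.zb).mul_right c1))
    ((d1.comm r'.za r'.zb).mul_right ((b1.comm q'.za q'.zb).mul_right c2)) ((d1.comm h1.symm h3.symm).mul_right b2)
    ((d1.comm h2.symm h4.symm).mul_right b3) d2 d3⟩

theorem fin₂ (hi : NoI A) {w : A} (hw : Lf N w) (ww : w * w = -1) (h0 : w ∉ Subring.center A) (c1 : Commute z w)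
    (c2 : Commute y w) : Tz 1 a b w ∨ Tz 1 a₂ b₂ w := by
  obtain ⟨t, t', b1, d1, e⟩ := E.dec₂ q q' r r' h1 h2 h3 h4 hc hw c1 c2
  by_cases f1 : t' = 1
  · exact Or.inl (E.fin₁ q b1 hw.1 ww h0 (by rwa [f1, one_mul] at e))
  by_cases f2 : t = 1
  · exact Or.inr (E.fin₁ r d1 hw.1 ww h0 (by rwa [f2, one_mul] at e))
  have u1 := (b1.lf q.la q.lb).1
  have u2 := (d1.lf r.la r.lb).1
  have g1 : Commute t t' := d1.comm (b1.comm h1 h2).symm (b1.comm h3 h4).symm
  have g2 : Commute t' (t * w) := u2.cm (Commute.refl _) (cen_comm e _)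
  have g3 : Commute t w := u1.cm (Commute.refl _) (u2.cm g1 (cen_comm e _))
  refine absurd ?_ (hi _ e (u2.mul (u1.mul hw.1)))
  rw [g2.symm.mul_mul_mul_comm, g3.symm.mul_mul_mul_comm, d1.sq r f1, b1.sq q f2, ww]
  simp

theorem enum₂ (k : Hy N z y) (hi : NoI A) (a' b' : A) (s : Qz N z a' b') :
    (Tz z a b a' ∧ Tz z a b b') ∨ (Tz z a₂ b₂ a' ∧ Tz z a₂ b₂ b') := by
  obtain ⟨h, hh⟩ := E.exists_hf
  have := E.σ.ss.nontrivial
  have e : ∀ {a' b'}, Qz N z a' b' → Tz z a b a' ∨ Tz z a₂ b₂ a' := fun s => by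
    obtain ⟨t, a1, a2, a3, a4, a5, a6⟩ := E.strip k s
    exact (E.fin₂ q q' r r' h1 h2 h3 h4 hc hi a2 a3 a4 a5 a6).imp (·.lift k.zz a1) (·.lift k.zz a1)
  rcases e s with e1 | e1 <;> rcases e s.swap with e2 | e2
  · exact Or.inl ⟨e1, e2⟩
  · exact absurd (e1.cross r h1 h2 h3 h4 e2 s.za) (s.ne_comm hh)
  · exact absurd (e2.cross r h1 h2 h3 h4 e1 s.zb) (s.swap.ne_comm hh)
  · exact Or.inr ⟨e1, e2⟩

end

/-- **the large case** -/
theorem big {z y a b u : A} (k : Hy N z y) (q : Qz N z a b) (hu : Lf N u) (uu : u * u = 1) (c1 : Commute z u)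
    (c2 : Commute y u) (c3 : Commute a u) (c4 : Commute b u) : u ∈ Subring.center A := by
  by_contra h0
  obtain ⟨h, hh⟩ := E.exists_hf
  have := E.σ.ss.nontrivial
  have n1 : (-1 : A) ≠ 1 := fun e => one_ne_zero (hh.eq_zero e.symm)
  have n2 : (-1 : A) ∈ Subring.center A := Subring.neg_mem _ (Subring.one_mem _)
  obtain ⟨s, e1, e2, e3, -⟩ := E.exists_partner k.lz k.ly (fun e =>
    (k.lz.mul k.ly).1.isUnit.ne_zero (hh.eq_zero (e.trans k.yz))) h0 c1 c2
  obtain ⟨e, hf, h1⟩ : ∃ e : Fin 2 × Fin 2 → A, Fm e ∧ ∀ {x}, Commute x z → Commute x u → Commute x (e 0) :=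
    ⟨_, E.fm_two (ρ := h) (ζ := -1) (ζ' := -1) hh.cen (by simpa only [_root_.Nat.cast_ofNat] using hh.two) Un.one.neg (by simp only [_root_.even_two, _root_.Even.neg_pow, _root_.one_pow]) n1
      ⟨n2, by rw [k.yz, neg_one_mul]⟩ Un.one.neg (by simp only [_root_.even_two, _root_.Even.neg_pow, _root_.one_pow]) n1 ⟨n2, by rw [E.anti e1 hu e2, neg_one_mul]⟩ k.lz.1 hu.1
      k.ly.1 e1.1 ((pow_two z).trans k.zz) ((pow_two u).trans uu) c1 c2 e3.symm, fun {x} d1 d2 =>
      Commute.mul_right (comm_pr hh.cen (by simpa only [_root_.Prod.fst_zero, _root_.Fin.isValue, _root_.Fin.coe_ofNat_eq_mod, _root_.Nat.zero_mod, _root_.pow_zero, _root_.one_mul] using d1.eq)) (comm_pr hh.cen (by simpa using d2.eq))⟩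
  have ha := h1 q.za.symm c3
  have hb := h1 q.zb.symm c4
  have hc := (ha.mul_left hb).eq
  have ho := (q.comm_oo hh ha.symm hb.symm).symm
  have i0 := hf.idem 0
  have s0 := hf.symm 0
  have hS := E.σ.comm_mem (un_hm i0 s0 ho (q.un_oo hh)) (un_hm i0 s0 ha q.la.1)
  rw [star_hm s0 ho, star_hm s0 ha, hm_mul i0 ha, hm_mul i0 (star_comm_of s0 ho), hm_mul i0 (star_comm_of s0 ha),
    q.oo_a hh, mul_assoc b, (q.un_oo hh).ms, mul_one, q.sa, mul_neg, q.ba, neg_neg] at hS
  have h2 : (a * b) ^ 2 = -1 := (pow_two _).trans q.rot.bb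
  have h3 := E.bound_four hf (un_hm i0 s0 hc q.rot.lb.1) hS (by
      rw [hm_pow i0 hc, show 4 = 2 * 2 from rfl, pow_mul, h2, neg_one_sq, hm_one]) (fun h3 => by
      rw [hm_pow i0 hc, h2] at h3
      have h4 := sub_eq_zero.1 (hf.eq_zero (Subring.sub_mem _ h3 (Subring.one_mem _)) (i := 1) (by
        rw [sub_mul, hm_mul_orth (hf.orth _ _ (by decide)), one_mul, sub_self]))
      have h5 := hm_mul_self (a := -1) i0
      rw [h4, neg_one_mul] at h5
      exact one_ne_zero (hf.eq_zero (Subring.one_mem _) (i := 0) (by rw [hh.eq_zero ((one_mul _).symm.trans h5), mul_zero])))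
    ((Finset.univ.erase 0) ×ˢ (Finset.univ.erase 0)) (fun r hr => ⟨1, Subring.one_mem _, by
      rw [hm_mul_orth (hf.orth _ _ (Finset.ne_of_mem_erase (Finset.mem_product.1 hr).1).symm), one_mul], by
      rw [orth_mul_hm (hf.orth _ _ (Finset.ne_of_mem_erase (Finset.mem_product.1 hr).2)) hc, one_mul]⟩) 0
  simp only [_root_.Finset.card_product, _root_.Finset.mem_univ, _root_.Finset.card_erase_of_mem, _root_.Finset.card_univ, _root_.Fintype.card_prod, _root_.Fintype.card_fin, _root_.Nat.reduceMul, _root_.Nat.add_one_sub_one, _root_.Nat.reducePow, _root_.Nat.reduceLeDiff] at h3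

end EC

end Cfsg.Agent.TH.Cl.Ext
end

-- part: TH/Cl/Ext/TwoD
section
/-!
# S3541, box `Ext`, `r = 2`: the end (helper58)
-/

set_option autoImplicit false
set_option linter.unusedSectionVars false

namespace Cfsg.Agent.TH.Cl.Ext

open Cfsg.Agent.DS.Cl Cfsg.Agent.DS.Cl.Fwd Cfsg.Agent.SB.Cl

variable {A : Type} [Ring A] [StarRing A] [Finite A]

/-- the algebra of a pair -/
def Bc (a b : A) : Subring A := Subring.closure ((Subring.center A : Set A) ∪ {a, b})

theorem Bc.cen (a b : A) : Subring.center A ≤ Bc a b := fun _ h => Subring.subset_closure (Or.inl h)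

theorem Bc.l (a b : A) : a ∈ Bc a b := Subring.subset_closure (Or.inr (Or.inl rfl))

theorem Bc.r (a b : A) : b ∈ Bc a b := Subring.subset_closure (Or.inr (Or.inr rfl))

theorem Bc.le {a b : A} {B : Subring A} (h : Subring.center A ≤ B) (ha : a ∈ B) (hb : b ∈ B) : Bc a b ≤ B :=
  Subring.closure_le.2 (by
    rintro x (h1 | rfl | rfl)
    exacts [h h1, ha, hb])

theorem Bc.comm {a b x y : A} (h1 : Commute x a) (h2 : Commute x b) (hy : y ∈ Bc a b) : Commute x y :=
  Bc.le (B := Subring.centralizer {x}) (Subring.center_le_centralizer _) (fun _ h => h ▸ h1) (fun _ h => h ▸ h2) hy x rfl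

theorem Bc.map (γ : RingAut A) {a b x : A} (hx : x ∈ Bc a b) : γ x ∈ Bc (γ a) (γ b) :=
  Bc.le (B := (Bc (γ a) (γ b)).comap (γ : A →+* A)) (fun _ h => Bc.cen _ _ (map_cen γ h)) (Bc.l _ _) (Bc.r _ _) hx

theorem Bc.st {N : Subgroup (RingAut A)} {z a b x : A} (q : Qz N z a b) (hx : x ∈ Bc a b) : star x ∈ Bc a b := by
  induction hx using Subring.closure_induction with
  | mem x h =>
    rcases h with h | rfl | rfl
    · exact Bc.cen _ _ (star_cen h)
    · rw [q.sa]; exact neg_mem (Bc.l _ _)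
    · rw [q.sb]; exact neg_mem (Bc.r _ _)
  | zero => rw [star_zero]; exact zero_mem _
  | one => rw [star_one]; exact one_mem _
  | add x y _ _ hx hy => rw [star_add]; exact add_mem hx hy
  | neg x _ hx => rw [star_neg]; exact neg_mem hx
  | mul x y _ _ hx hy => rw [star_mul]; exact mul_mem hy hx

theorem T1.mem {a b t : A} (h : T1 a b t) : t ∈ Bc a b := by
  rcases h with rfl | rfl | rfl | rfl
  exacts [one_mem _, Bc.l _ _, Bc.r _ _, mul_mem (Bc.l _ _) (Bc.r _ _)]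

theorem Bc.eq {N : Subgroup (RingAut A)} {a b a' b' : A} (q : Qz N 1 a b) (e : a' * b' ≠ b' * a') (ha : Tz 1 a b a')
    (hb : Tz 1 a b b') : Bc a' b' = Bc a b := by
  refine q.ind Lf.one (one_mul 1) (P := fun x y => Bc x y = Bc a b) rfl
    (le_antisymm (Bc.le (Bc.cen _ _) (Bc.r _ _) (Bc.l _ _)) (Bc.le (Bc.cen _ _) (Bc.r _ _) (Bc.l _ _)))
    (fun x y r h => h ▸ le_antisymm (Bc.le (Bc.cen _ _) (Bc.r _ _) (mul_mem (Bc.l _ _) (Bc.r _ _)))
      (Bc.le (Bc.cen _ _) ?_ (Bc.l _ _)))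
    (fun x y r h => h ▸ le_antisymm (Bc.le (Bc.cen _ _) (neg_mem (Bc.l _ _)) (Bc.r _ _))
      (Bc.le (Bc.cen _ _) (neg_mem_iff.1 (Bc.l _ _)) (Bc.r _ _))) (fun x y r h => by rwa [one_mul]) e ha hb
  have h1 := mul_mem (Bc.l y (x * y)) (Bc.r y (x * y))
  rwa [r.bab] at h1

theorem Hy.ne_comm [Nontrivial A] {N : Subgroup (RingAut A)} {h z y : A} (k : Hy N z y) (hh : Hf h) : z * y ≠ y * z :=
  fun e => (k.lz.mul k.ly).1.isUnit.ne_zero (hh.eq_zero (e.trans k.yz))

namespace EC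

variable {F : FR A} {G H N : Subgroup (RingAut A)} {m p : ℕ} (E : EC F G H N m p 2)
include E

theorem qz_map {γ : RingAut A} (hγ : γ ∈ H) {z a b : A} (q : Qz N z a b) : Qz N (γ z) (γ a) (γ b) :=
  ⟨E.lf_map hγ q.la, E.lf_map hγ q.lb, by rw [← map_mul, q.aa, map_neg, map_one],
    by rw [← map_mul, q.bb, map_neg, map_one], by rw [← map_mul, q.ba, map_neg, map_mul], by
    rw [← map_mul, q.za, map_mul], by rw [← map_mul, q.zb, map_mul]⟩

/-- **the tensor case** -/
theorem ten (hI : Irr2 H) {a b a₂ b₂ : A} (q : Qz N 1 a b) (r : Qz N 1 a₂ b₂) (h1 : Commute a₂ a) (h2 : Commute a₂ b)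
    (h3 : Commute b₂ a) (h4 : Commute b₂ b)
    (hc : ∀ w, Lf N w → Commute a w → Commute b w → Commute a₂ w → Commute b₂ w → w ∈ Subring.center A) (hi : NoI A) :
    TenD H := by
  obtain ⟨h, hh⟩ := E.exists_hf
  have := E.σ.ss.nontrivial
  have c0 : ∀ {x y}, Qz N 1 x y → x ∉ Subring.center A := fun s e => s.ne_comm hh (cen_comm e _).symm
  have c1 : ∀ {x y}, Qz N 1 x y → Tz 1 a b x ∨ Tz 1 a₂ b₂ x := fun s =>
    E.fin₂ q q r r h1 h2 h3 h4 (fun w hw _ _ => hc w hw) hi s.la s.aa (c0 s) s.za s.za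
  have c2 : ∀ {x y}, Qz N 1 x y → Bc x y = Bc a b ∨ Bc x y = Bc a₂ b₂ := fun s => by
    rcases c1 s with e1 | e1 <;> rcases c1 s.swap with e2 | e2
    · exact Or.inl (Bc.eq q (s.ne_comm hh) e1 e2)
    · exact absurd (e1.cross r h1 h2 h3 h4 e2 s.za) (s.ne_comm hh)
    · exact absurd (e2.cross r h1 h2 h3 h4 e1 s.zb) (s.swap.ne_comm hh)
    · exact Or.inr (Bc.eq r (s.ne_comm hh) e1 e2)
  have c3 : ∀ x ∈ Bc a b, ∀ y ∈ Bc a₂ b₂, x * y = y * x := fun x hx y hy =>
    Bc.comm (Bc.comm h1 h2 hx).symm (Bc.comm h3 h4 hx).symm hy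
  refine ⟨hI, {B | ∃ x y, Qz N 1 x y ∧ B = Bc x y}, ⟨_, ⟨a, b, q, rfl⟩, _, ⟨a₂, b₂, r, rfl⟩, fun e =>
    q.ne_comm hh (c3 _ (Bc.l _ _) _ (e ▸ Bc.r _ _))⟩, ?_, ?_, ?_, ?_, ?_, ?_⟩
  · rintro _ ⟨x, y, -, rfl⟩
    exact Bc.cen x y
  · rintro _ ⟨x, y, s, rfl⟩ e
    exact c0 s (e (Bc.l x y))
  · rintro _ ⟨x, y, s, rfl⟩ w hw
    exact Bc.st s hw
  · rintro _ ⟨x, y, s, rfl⟩ _ ⟨x', y', s', rfl⟩ e
    rcases c2 s with e1 | e1 <;> rcases c2 s' with e2 | e2 <;> rw [e1, e2] at e ⊢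
    exacts [absurd rfl e, c3, fun x hx y hy => (c3 y hy x hx).symm, absurd rfl e]
  · have d : ∀ {x y w}, Qz N 1 x y → w ∈ Bc x y →
        w ∈ Subring.closure (⋃ B ∈ {B | ∃ x y, Qz N 1 x y ∧ B = Bc x y}, (B : Set A)) := fun {x y w} s hw =>
      Subring.subset_closure (Set.mem_biUnion (⟨x, y, s, rfl⟩ : _ ∈ {B | ∃ x y, Qz N 1 x y ∧ B = Bc x y}) hw)
    refine eq_top_iff.2 fun w _ => E.σ.ind (fun c hc' u hu => mul_mem (d q (Bc.cen _ _ hc')) ?_) (fun _ _ => add_mem) w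
    obtain ⟨t, t', d1, d2, d3⟩ := E.dec₂ q q r r h1 h2 h3 h4 (fun w hw _ _ => hc w hw) hu (Commute.one_left u)
      (Commute.one_left u)
    have d4 := mul_mem (d q (Bc.st q d1.mem)) (mul_mem (d r (Bc.st r d2.mem)) (d q (Bc.cen _ _ d3)))
    rwa [← mul_assoc (star t'), (d2.lf r.la r.lb).1.sm, one_mul, ← mul_assoc, (d1.lf q.la q.lb).1.sm, one_mul] at d4
  · rintro γ hγ _ ⟨x, y, s, rfl⟩
    refine ⟨γ x, γ y, by simpa only [map_one] using E.qz_map hγ s, Main.map_eq_of (fun _ => Bc.map γ) fun w hw => ?_⟩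
    have d := Bc.map γ⁻¹ hw
    rwa [show γ⁻¹ (γ x) = x from γ.symm_apply_apply x, show γ⁻¹ (γ y) = y from γ.symm_apply_apply y] at d

theorem exists_third (hN : 4 < Nat.card N) {u v : A} (hu : Lf N u) (hv : Lf N v) (h : u * v ≠ v * u) :
    ∃ w, Lf N w ∧ Commute u w ∧ Commute v w ∧ w ∉ Subring.center A := by
  by_contra h1
  push Not at h1
  exact absurd (E.card_le hu hv h h1) (by omega)

theorem exists_z (hN : 4 < Nat.card N) {P : Subgroup (RingAut A)} (hP : P ≤ H) (hp : IsPGroup 2 P) :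
    ∃ z, Lf N z ∧ z * z = 1 ∧ z ∉ Subring.center A ∧ ∀ γ ∈ P, γ * ad z = ad z * γ := by
  classical
  have : Fact (Nat.Prime 2) := ⟨Nat.prime_two⟩
  obtain ⟨ν, a1, a2, a3⟩ := exists_fix Nat.prime_two hp (X := N) N.one_mem (fun γ hγ => E.min.nrm γ (hP hγ))
    (E.σ.isPGroup.card_eq_or_dvd.resolve_left (by omega))
  obtain ⟨u, hu, rfl⟩ := E.σ.exists_lf a1
  have h0 : ∀ {z}, Lf N z → z * z = 1 → ad z ≠ 1 → (∀ γ ∈ P, γ * ad z = ad z * γ) →
      ∃ z, Lf N z ∧ z * z = 1 ∧ z ∉ Subring.center A ∧ ∀ γ ∈ P, γ * ad z = ad z * γ :=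
    fun {z} h1 h2 h3 h4 => ⟨z, h1, h2, fun e => h3 (ad_cen e), h4⟩
  by_cases hi : ¬ NoI A
  · obtain ⟨z, b1, b2, b3⟩ := (E.norm_i hi hu).1
    exact h0 b1 b3 (b2 ▸ a2) (b2 ▸ a3)
  rw [not_not] at hi
  obtain ⟨j, hj, b2, jj⟩ := E.norm hu
  rw [← b2] at a2 a3
  refine jj.elim (fun jj => h0 hj jj a2 a3) fun jj => ?_
  obtain ⟨s, hs, b3⟩ := E.exists_not_comm fun e => a2 (ad_cen e)
  obtain ⟨w, hw, b4, b5, b6⟩ := E.exists_third hN hs hj b3
  have ww : ad w * ad w = 1 := (pow_two _).symm.trans (E.σ.exp _ hw.2)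
  obtain ⟨X, hX⟩ : ∃ X : Set (RingAut A), ∀ ν, ν ∈ X ↔ ∃ u, Lf N u ∧ ad u = ν ∧ u * u = 1 ∧ Commute j u :=
    ⟨{ν | _}, fun _ => Iff.rfl⟩
  obtain ⟨ν, c1, c2, c3⟩ := exists_fix Nat.prime_two hp (X := X) ((hX _).2 ⟨1, Lf.one, ad_one, one_mul 1, Commute.one_right j⟩)
    (fun γ hγ ν hν => by
      obtain ⟨u, d1, rfl, d2, d3⟩ := (hX _).1 hν
      have hs := E.c.le_SAut (hP hγ)
      exact (hX _).2 ⟨γ u, E.lf_map (hP hγ) d1, (conj_ad γ d1.1).symm, by rw [← map_mul, d2, map_one],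
        (cm_of_ad (hj.1.map hs) hj.1 (by rw [← conj_ad γ hj.1, a3 γ hγ, mul_inv_cancel_right]) (d3.symm.map γ)).symm⟩)
    (two_dvd_card (fun ν => if ν * ad w ∈ X then ν * ad w else ν * ad w * ad j) (fun ν hν => by
      split_ifs with h
      · exact h
      obtain ⟨u, d1, rfl, d2, d3⟩ := (hX _).1 hν
      obtain ⟨v, e1, e2, e3⟩ := E.norm (d1.mul hw)
      have e4 := (cm_of_ad (d1.mul hw).1 e1.1 e2 (d3.mul_right b5))
      rw [ad_mul d1.1 hw.1] at e2
      exact (hX _).2 ⟨v * j, e1.mul hj, by rw [ad_mul e1.1 hj.1, e2], by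
        rw [e4.mul_mul_mul_comm, jj, e3.resolve_left fun e => h ((hX _).2 ⟨v, e1, e2, e, e4⟩), neg_mul_neg, one_mul],
        e4.mul_right (Commute.refl j)⟩) (fun ν hν => by
      by_cases h : ν * ad w ∈ X
      · simp only [if_pos h, mul_assoc ν, ww, mul_one, if_pos hν]
      have e1 : ν * ad w * ad j * ad w = ν * ad j := by
        rw [mul_assoc _ (ad j), E.σ.comm _ hj.2 _ hw.2, ← mul_assoc, mul_assoc ν, ww, mul_one]
      simp only [if_neg h, e1]
      rw [if_neg, mul_assoc, ← pow_two, E.σ.exp _ hj.2, mul_one]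
      intro h'
      obtain ⟨u, d1, rfl, d2, d3⟩ := (hX _).1 hν
      obtain ⟨u', f1, f2, f3, -⟩ := (hX _).1 h'
      obtain ⟨κ, g1, g2, rfl⟩ := (ad_eq_iff f1.1 (d1.mul hj).1).1 (by rw [f2, ad_mul d1.1 hj.1])
      rw [cen_mul_mul g1, d3.mul_mul_mul_comm, d2, jj, one_mul, mul_neg, mul_one, neg_eq_iff_eq_neg] at f3
      exact hi κ g1 g2 f3) fun ν hν => by
      split_ifs with h
      · exact fun e => b6 ((ad_eq_one_iff hw.1).1 (mul_eq_left.1 e))
      · intro e
        rw [mul_assoc, mul_eq_left, ← ad_mul hw.1 hj.1, ad_eq_one_iff (hw.mul hj).1] at e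
        exact b3 (hw.1.cm b4 (cen_comm e s)))
  obtain ⟨z, d1, rfl, d2, -⟩ := (hX _).1 c1
  exact h0 d1 d2 c2 c3

theorem caseQ {z y a b : A} (k : Hy N z y) (yy : y * y = 1) {P : Subgroup (RingAut A)} (hP : P ≤ H)
    (h1 : ¬ 2 ∣ P.relIndex H) (h2 : ∀ γ ∈ P, γ * ad z = ad z * γ) (q : Qz N z a b) (q' : Qz N y a b) : False := by
  obtain ⟨h, hh⟩ := E.exists_hf
  have := E.σ.ss.nontrivial
  by_cases hc : ∀ w, Lf N w → Commute z w → Commute y w → Commute a w → Commute b w → w ∈ Subring.center A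
  · exact E.near hh k hP h1 h2 q q' q q' (fun a' b' r => Or.inl ⟨E.enum₁ k q q' hc r, E.enum₁ k q q' hc r.swap⟩)
      (E.far hh k yy q q')
  push Not at hc
  obtain ⟨u, hu, c1, c2, c3, c4, c5⟩ := hc
  have h0 : ∀ {u v}, Lf N u → Lf N v → ad v = ad u → v * v = 1 → Commute z u → Commute y u → Commute a u → Commute b u →
      u ∈ Subring.center A := fun {u v} hu hv e vv d1 d2 d3 d4 => (ad_eq_one_iff hu.1).1 (e ▸ ad_cen (E.big k q hv vv
    (cm_of_ad hu.1 hv.1 e d1) (cm_of_ad hu.1 hv.1 e d2) (cm_of_ad hu.1 hv.1 e d3) (cm_of_ad hu.1 hv.1 e d4)))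
  have hi : NoI A := by
    by_contra hi
    obtain ⟨v, d1, d2, d3⟩ := (E.norm_i hi hu).1
    exact c5 (h0 hu d1 d2 d3 c1 c2 c3 c4)
  obtain ⟨v, hv, d0, d1, d2, d3, d4⟩ := E.partner₂ k.lz k.ly (k.ne_comm hh) q.la q.lb (q.ne_comm hh) q.za q.zb q'.za q'.zb
    c5 c1 c2 c3 c4
  obtain ⟨a₂, b₂, e1, e2⟩ := E.pair hu hv d0
  rcases e1 with r | ⟨k', -⟩
  swap
  · exact k'.ne_comm hh (cen_comm (E.big k q k'.lz k'.zz (e2 _ c1 d1).1 (e2 _ c2 d2).1 (e2 _ c3 d3).1 (e2 _ c4 d4).1) _).symm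
  refine E.near hh k hP h1 h2 q q' (r.of (e2 _ c1 d1).1 (e2 _ c1 d1).2) (r.of (e2 _ c2 d2).1 (e2 _ c2 d2).2)
    (E.enum₂ q q' (r.of (e2 _ c1 d1).1 (e2 _ c1 d1).2) (r.of (e2 _ c2 d2).1 (e2 _ c2 d2).2) (e2 _ c3 d3).1.symm
      (e2 _ c4 d4).1.symm (e2 _ c3 d3).2.symm (e2 _ c4 d4).2.symm (fun w hw f1 f2 f3 f4 f5 f6 => ?_) k hi)
    (E.far hh k yy q q')
  obtain ⟨w', g1, g2, g3⟩ := E.norm hw
  refine g3.elim (fun g3 => h0 hw g1 g2 g3 f1 f2 f3 f4) fun g3 => absurd ?_ (r.swap.ne_comm hh)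
  have g4 := fun {x} => cm_of_ad (x := x) hw.1 g1.1 g2
  exact g1.1.cm (g4 f6) (cen_comm (E.big k q (g1.mul r.la) (by
    rw [(g4 f5).mul_mul_mul_comm, g3, r.aa, neg_mul_neg, one_mul]) ((g4 f1).mul_right (e2 _ c1 d1).1)
    ((g4 f2).mul_right (e2 _ c2 d2).1) ((g4 f3).mul_right (e2 _ c3 d3).1) ((g4 f4).mul_right (e2 _ c4 d4).1)) _)

/-- **the case `r = 2`** -/
theorem two (hI : Irr2 H) (hN : 4 < Nat.card N) : TenD H := by
  obtain ⟨h, hh⟩ := E.exists_hf
  have := E.σ.ss.nontrivial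
  obtain ⟨P, hP, hp, h1⟩ := exists_syl H
  obtain ⟨z, hz, zz, a1, h2⟩ := E.exists_z hN hP hp
  obtain ⟨s, hs, a2⟩ := E.exists_not_comm a1
  obtain ⟨y, k, yy, -⟩ := E.exists_hy hz zz hs a2
  have hQ : ∀ {a b}, Qz N 1 a b → Commute z a → Commute z b → Commute y a → Commute y b → False :=
    fun q c1 c2 c3 c4 => E.caseQ k yy hP h1 h2 (q.of c1 c2) (q.of c3 c4)
  obtain ⟨u, hu, c1, c2, c3⟩ := E.exists_third hN k.lz k.ly (k.ne_comm hh)
  obtain ⟨v, hv, d0, d1, d2⟩ := E.exists_partner k.lz k.ly (k.ne_comm hh) c3 c1 c2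
  obtain ⟨z₁, y₁, e1, e2⟩ := E.pair hu hv d0
  obtain ⟨f1, f2⟩ := e2 z c1 d1
  obtain ⟨f3, f4⟩ := e2 y c2 d2
  obtain ⟨k₁, yy₁⟩ := e1.resolve_left fun q => hQ q f1 f2 f3 f4
  refine E.ten hI (k.qz yy k₁ yy₁ f1 f2 f3 f4) (k₁.qz yy₁ k yy f1.symm f3.symm f2.symm f4.symm)
    ((f1.mul_right f2).mul_left (f3.mul_right f4)).symm ((f1.mul_right f2).symm.mul_right (Commute.refl _))
    ((f1.mul_left f3).symm.mul_left (Commute.refl _)) ?_ (fun w hw g1 g2 g3 g4 => ?_) fun c i1 i2 i3 => ?_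
  · have j1 : ∀ {z y : A}, Hy N z y → z * y * z = -(z * (z * y)) := fun k => by rw [mul_assoc, k.yz, mul_neg]
    rw [Commute, SemiconjBy, mul_assoc, ← mul_assoc (z * y), j1 k, mul_assoc z (z₁ * y₁), ← mul_assoc (z₁ * y₁), j1 k₁,
      neg_mul, neg_mul, mul_neg, mul_neg, neg_inj, ← mul_assoc z₁, ← mul_assoc z₁, ← f1.eq, mul_assoc z (z₁),
      mul_assoc z, mul_assoc z₁, mul_assoc z₁, ((f1.mul_right f2).mul_left (f3.mul_right f4)).eq]
  · by_contra h0
    have g5 : ∀ {u w x : A}, Un w → Commute x w → Commute x (u * w) → Commute x u := fun hw h1 h2 =>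
      hw.cancel' (by rw [mul_assoc, h2.eq, mul_assoc, mul_assoc, h1.eq])
    have g6 := g5 (k₁.lz.mul k₁.ly).1 g3.symm g2.symm
    have g7 := g5 (k.lz.mul k.ly).1 g1.symm g4.symm
    have g8 := k.lz.1.cm g6 g1.symm
    have g9 := k₁.lz.1.cm g7 g3.symm
    obtain ⟨v, hv, d0, d1, d2, d3, d4⟩ := E.partner₂ k.lz k.ly (k.ne_comm hh) k₁.lz k₁.ly (k₁.ne_comm hh) f1 f2 f3 f4 h0
      g6.symm g8.symm g7.symm g9.symm
    obtain ⟨z₂, y₂, e1, e2⟩ := E.pair hw hv d0
    obtain ⟨l1, l2⟩ := e2 z g6.symm d1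
    obtain ⟨l3, l4⟩ := e2 y g8.symm d2
    obtain ⟨k₂, yy₂⟩ := e1.resolve_left fun q => hQ q l1 l2 l3 l4
    exact hQ (k₁.qz yy₁ k₂ yy₂ (e2 _ g7.symm d3).1 (e2 _ g7.symm d3).2 (e2 _ g9.symm d4).1 (e2 _ g9.symm d4).2)
      (f1.mul_right f2) (f1.mul_right (l1.mul_right l2)) (f3.mul_right f4) (f3.mul_right (l3.mul_right l4))
  · have j : ∀ x, Commute x c := cen_comm i1
    exact hQ (a := c * z₁) (b := c * y₁) ⟨(Lf.cen i1 i2).mul k₁.lz, (Lf.cen i1 i2).mul k₁.ly, by
      rw [cen_mul_mul i1, i3, k₁.zz, mul_one], by rw [cen_mul_mul i1, i3, yy₁, mul_one], by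
      rw [cen_mul_mul i1, cen_mul_mul i1, k₁.yz, mul_neg], by rw [mul_one, one_mul], by rw [mul_one, one_mul]⟩
      ((j z).mul_right f1) ((j z).mul_right f2) ((j y).mul_right f3) ((j y).mul_right f4)

end EC

end Cfsg.Agent.TH.Cl.Ext
end

-- part: TH/Cl/Ext/Main
section
/-!
# S3541, box `Ext` (helper58)
-/

set_option autoImplicit false

namespace Cfsg.Agent.TH.Cl

open Cfsg.Agent.DS.Cl Cfsg.Agent.DS.Cl.Fwd Cfsg.Agent.SB.Cl Module

theorem Ext.core {A : Type} [Ring A] [StarRing A] [Finite A] {F : FR A} {G H : Subgroup (RingAut A)} {m p : ℕ}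
    (c : Ctx F G H m p) (h : ExD F H) {n : ℕ} (hn : Nat.card A = Nat.card (Subring.center A) ^ n ^ 2) (h3 : 3 ≤ n)
    (hb : n = 3 → (∃ ε : A, Eps ε) ∨ 4 < Nat.card (Subring.center A)) : TenD H := by
  obtain ⟨hI, N, h1, h2, h4, h5⟩ := h
  obtain ⟨r, hr, he⟩ := DS.Cl.Ext.exists_exp h2.ne h4 h2.nrm h2.min
  have E : Ext.EC F G H N m p r := ⟨c, ⟨c.ss, h1.trans inf_le_right, h2.ne, h4, hr, he, h5⟩, h1.trans inf_le_left, h2⟩
  have h6 : Nat.card N = n ^ 2 := Nat.pow_right_injective E.σ.two_le (E.σ.card_eq.symm.trans hn)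
  by_cases h7 : r = 2
  · subst h7
    exact E.two hI (by nlinarith only [h3, h6])
  by_cases h8 : r = 3
  · subst h8
    exact (E.not_three fun h9 => hb (by nlinarith only [h3, h6, h9])).elim
  · exact (E.not_five (hr.five_le_of_ne_two_of_ne_three h7 h8)).elim

/-- **box `Ext`** -/
theorem Ext.boxExt (b : BoxTen) : BoxExt := by
  refine ⟨fun K _ _ n F G H m p k c h => b.l K n F G H m p k c ?_,
    fun K V _ _ _ _ _ f F q G H m p k c h => b.u K V f F q G H m p k c ?_,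
    fun K V _ _ _ _ _ f F j G H m p k c h => b.sp K V f F j G H m p k c ?_,
    fun K V _ _ _ _ _ f F Q G H m p k c h => b.o K V f F Q G H m p k c ?_⟩
  · have : Nonempty (Fin n) := ⟨⟨0, by have := k.dim; omega⟩⟩
    obtain ⟨ε, hε, -⟩ := SB.C2.L_eps (SB.C2.prL_bij (n := n) (K := K))
    refine Ext.core c h ?_ k.dim fun _ => Or.inl ⟨ε, hε⟩
    rw [SB.C2.L_card (by exact SB.C2.prL_bij), SB.C2.L_card_center (by exact SB.C2.prL_bij), SB.C2.card_end, finrank_fin_fun, ← pow_mul,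
      ← pow_mul, mul_comm]
  · have : Nontrivial V := nontrivial_of_finrank_pos (R := K) (by have := k.dim; omega)
    refine Ext.core c h (SB.C2.card_EB f) k.dim fun h3 => Or.inr ?_
    have h1 := Fintype.one_lt_card (α := K)
    have h2 : q ≠ 2 := fun e => k.ne ⟨h3, e⟩
    rw [SB.C2.card_center (SB.C2.ebE f), Nat.card_eq_fintype_card]
    rw [k.card] at h1 ⊢
    obtain _ | _ | _ | q := q
    · omega
    · omega
    · omega
    · exact lt_of_lt_of_le (by norm_num) (Nat.pow_le_pow_left (show 3 ≤ q + 1 + 1 + 1 by omega) 2)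
  · have h1 := k.dim
    have h2 := k.two
    have : Nontrivial V := nontrivial_of_finrank_pos (R := K) (by omega)
    exact Ext.core c h (SB.C2.card_EB f) (by omega) (by omega)
  · have h1 := k.dim
    have : Nontrivial V := nontrivial_of_finrank_pos (R := K) (by omega)
    exact Ext.core c h (SB.C2.card_EB f) (by omega) (by omega)

theorem boxExt (h : BoxTen) : BoxExt := Ext.boxExt h

end Cfsg.Agent.TH.Cl
end

private theorem dce_76f65eb4a5d7 : _root_.True := by
  try have : _root_.True := by simp only [_root_.Cfsg.Agent.TH.Cl.Ext.Cn.mk.congr_simp]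
  try have : _root_.True := by simp only [_root_.Cfsg.Agent.TH.Cl.Ext.swM.eq_1]
  try have : _root_.True := by simp only [_root_.Cfsg.Agent.TH.Cl.Ext.shM.eq_1]
  try have : _root_.True := by simp only [_root_.Cfsg.Agent.TH.Cl.Ext.T1.eq_1]
  try have : _root_.True := by simp only [_root_.Cfsg.Agent.TH.Cl.Ext.NoI.eq_1]
  try have : _root_.True := by simp only [_root_.Cfsg.Agent.TH.Cl.Ext.dgM.eq_1]
  try have : _root_.True := by simp only [_root_.Cfsg.Agent.TH.Cl.Ext.blM.eq_1]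
  exact _root_.True.intro
end

-- part: TH/Ex/Ab/MaxDefs
section
set_option linter.all false

/-!
# S3541, `BoxMax` : the sub-boxes (helper10)

`BoxComp2` (`BoxComp` with a sharper exception), `BoxOrd` (prime divisors of the order of a small group), `BoxPos` (the number
of positive roots), `BoxFX` (facts on the root systems), `BoxNum` (the numerical end).
-/

set_option autoImplicit false
set_option linter.unusedSectionVars false

namespace Cfsg.Agent.TH.Ab

open CoxeterSystem Cfsg Cfsg.Lie Cfsg.Lie.ChevalleyDatum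
open Cfsg.Agent.ChevalleyStructure Cfsg.Agent.ChevalleyStructure.CoxeterGeom
  Cfsg.Agent.ChevalleyStructure.CoxeterGeomTypes
open Cfsg.Agent.Tits.Roots Cfsg.Agent.Nodes Cfsg.Agent.Nodes.Reps Cfsg.Agent.Nodes.BNOf
  Cfsg.Agent.Nodes.RGDChev Cfsg.Agent.Nodes.Coroot Cfsg.Agent.BpExc.Zc Cfsg.Agent.DS.Ex
open Cfsg.Agent.SB.Exc.Max (HE DC Shp Iso)

/-- [COMP2] `BoxComp`; in the exceptional case the double bond spans a component of the subsystem -/
def BoxComp2 : Prop := ∀ (p : ℕ) [Fact p.Prime] (k : Type) [Field k] [CharP k p] [IsAlgClosed k] (Y : Type) [Group Y]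
  (N : Type) [Fintype N] [DecidableEq N] (ρ : Y →* GL N k) (σ : MulAut Y) (G : Subgroup Y) (D : DL.Datum p ρ σ G) (e : ℕ)
  (Z : Set Y), 0 < e → (∀ a, D.Rt a → D.ex a = e) → CommZ D.cs D.h D.X → Z ⊆ D.T → (∀ a ∈ D.Sz Z, D.g a ∈ D.Sz Z) →
    (∀ a ∈ D.Sz Z, ∀ b ∈ D.Sz Z, cpr D.cs D.h a b ≤ 2) →
    ∀ E : Subgroup ↥(PE p σ (D.S (D.Sz Z))), IsComponent E →
      FixBN.HasSplit p (↥E ⧸ Subgroup.center ↥E) ∨
      (p ^ e = 2 ∧ ∃ a ∈ D.Sz Z, ∃ b ∈ D.Sz Z, a ≠ b ∧ cpr D.cs D.h a b = 2 ∧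
        ∀ c ∈ D.Sz Z, (cpr D.cs D.h c a = 0 ∧ cpr D.cs D.h c b = 0) ∨ ∃ i j : ℤ, c = i • a + j • b)

/-- [ORD] a rational element of prime order `s ∤ p (p² - 1)` of a group of type `A₁ ^ a (²A₂) ^ b` over `𝔽_p` is central -/
def BoxOrd : Prop := ∀ (p : ℕ) [Fact p.Prime] (k : Type) [Field k] [CharP k p] [IsAlgClosed k] (Y : Type) [Group Y]
  (N : Type) [Fintype N] [DecidableEq N] (ρ : Y →* GL N k) (σ : MulAut Y) (G : Subgroup Y) (D : DL.Datum p ρ σ G),
    (∀ a, D.Rt a → D.ex a = 1) → CommZ D.cs D.h D.X → DC D.cs D.h D.X → HE p σ (D.S {a | D.Rt a}) →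
    ∀ y ∈ G, σ y = y → ∀ s : ℕ, s.Prime → s ≠ p → ¬ s ∣ p ^ 2 - 1 → y ^ s = 1 → y ∈ D.T ∧ ∀ a, D.Rt a → D.χ a y = 1

/-- [POS] the number of positive roots of a subsystem of type `A₁ ^ a A₂ ^ b` -/
def BoxPos : Prop := ∀ (p : ℕ) [Fact p.Prime] (k : Type) [Field k] [CharP k p] [IsAlgClosed k] (Y : Type) [Group Y]
  (N : Type) [Fintype N] [DecidableEq N] (ρ : Y →* GL N k) (σ : MulAut Y) (G : Subgroup Y) (D : DL.Datum p ρ σ G)
  (Z : Set Y), Z ⊆ D.T → (∀ a ∈ D.Sz Z, D.g a ∈ D.Sz Z) → Shp D.cs D.h (D.Sz Z) →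
    2 * (RGD.Pos D.cs D.h ∩ D.Sz Z).ncard ≤ 3 * Fintype.card D.I ∧
    (Iso D.cs D.h (D.Sz Z) → (RGD.Pos D.cs D.h ∩ D.Sz Z).ncard ≤ Fintype.card D.I)

/-- no triple bond; the roots orthogonal to a double bond (this is vacuous in the simply laced case) -/
structure FX {I W : Type*} [Fintype I] [DecidableEq I] [Group W] {M : CoxeterMatrix I} (cs : CoxeterSystem M W)
    {A : I → I → ℤ} (h : IsCartan M A) : Prop where
  le_two : ∀ a b, IsRoot cs h a → IsRoot cs h b → cpr cs h a b ≤ 2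
  ext : ∀ a b c, IsRoot cs h a → IsRoot cs h b → IsRoot cs h c → a ≠ b → cpr cs h a b = 2 → cpr cs h c a = 0 →
    cpr cs h c b = 0 → ∃ r, IsRoot cs h r ∧ (cpr cs h r a ≠ 0 ∨ cpr cs h r b ≠ 0) ∧ cpr cs h r c ≠ 0 ∧
      ∃ i j m : ℤ, (2 : ℤ) • r = i • a + j • b + m • c
  perp : ∀ a b, IsRoot cs h a → IsRoot cs h b → a ≠ b → cpr cs h a b = 2 → ∃ a' b', IsRoot cs h a' ∧ IsRoot cs h b' ∧
    a' ≠ b' ∧ cpr cs h a' b' = 2 ∧ cpr cs h a' a = 0 ∧ cpr cs h a' b = 0 ∧ cpr cs h b' a = 0 ∧ cpr cs h b' b = 0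

/-- [FX] -/
def BoxFX : Prop := ∀ (D : ChevalleyDatum) (l : ℕ) (M : CoxeterMatrix (Fin l)) (hp : IsType D l M), Typ D →
  FX M.toCoxeterSystem hp.isCartan

/-- the order of the Weyl group -/
def cW (l : ℕ) : ℕ := if l = 4 then 1152 else if l = 6 then 51840 else if l = 7 then 2903040 else 696729600

/-- [NUM] the numerical end: `q = p`, `X₀ ⊴ H` of index dividing `|W|` in `H ⊓ T` -/
def BoxNum : Prop := ∀ (D : ChevalleyDatum) (l : ℕ) (M : CoxeterMatrix (Fin l)), IsType D l M →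
  ∀ (tw : Bool) (p : ℕ) (G : Type) [Group G] [Finite G] (T H E : Subgroup G) (m r : ℕ), XC D tw T H E m p 1 r →
    ∀ X₀ : Subgroup G, X₀ ≤ H ⊓ T → (∀ h ∈ H, ∀ x ∈ X₀, h * x * h⁻¹ ∈ X₀) → X₀.relIndex (H ⊓ T) ∣ cW l →
      p ∣ Nat.card X₀ → (∀ s : ℕ, s.Prime → s ∣ Nat.card X₀ → s = p ∨ s ∣ p ^ 2 - 1) →
      ¬ p ^ (3 * l / 2 + 1) ∣ Nat.card X₀ → (p ≠ 2 → Nat.card (Sylow p X₀) ≤ (p + 1) ^ l) → False

end Cfsg.Agent.TH.Ab
end
end
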