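import Cfsg.Agent.TH.Sim.SporRowA_m3
import Cfsg.Agent.TH.Ex.Mu.Main_m3
import Cfsg.Agent.TH.Sim.LieRunB_m3
import Cfsg.Agent.TH.Alt.Base_m3
import Cfsg.Agent.OrdDiv.Table
import Cfsg.Agent.TH.Ex1.TF_m3
import Cfsg.Agent.TH.Spor.EngC
import Cfsg.Agent.TH.Cl.B2.Main_m3
import Cfsg.Agent.TAB.Sm2.M11_m3
import Cfsg.Agent.TAB.Sm2.M24_m3
import Cfsg.Agent.TH.Spor.EngB_m3
import Cfsg.Agent.TH.Spor.J3Tab
import Cfsg.Agent.TAB.F24C.E74_m3
import Cfsg.Agent.TAB.ON.Main
import Cfsg.Agent.TAB.F22.FxC_m3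
import Cfsg.Agent.TH.Spor.InA_m3
import Cfsg.Agent.TH.Spor.InB
import Cfsg.Agent.TH.Spor.InD
import Cfsg.Agent.TH.Spor.InE
import Cfsg.Agent.TAB.F23C.Main
import Cfsg.Agent.TAB.F24.Use_m3
import Cfsg.Agent.Prune
set_option linter.all false

section
prune_inst 0x7f00000000000000000000000000000000000000000000000000000000000000000000000000000000000000000000000000000000000000000000000000000000000000000000000000000000000000003fffffffffffffffffffffffffffbeffbdffffffff

-- part: TH/Sim/Spor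
section
set_option linter.all false

/-!
# S3541, box `BoxSimSpor` (helper67)
-/

set_option autoImplicit false

namespace Cfsg.Agent.TH.Sim

open Cfsg.Agent.TH.Sv Cfsg.Agent.H940.Eng Cfsg.Agent.TH.Sim.SpR

/-- **[S-Spor]** classical `T`, `N` sporadic or the Tits group -/
theorem boxSimSpor (hC : BoxClDat) (hN : BoxNec) : BoxSimSpor := by
  intro hK G _ _ T H N m p hL _ hS hP hQ
  have B : Base := ⟨OrdDiv.table, fun S _ _ _ => hK S⟩
  have h : ∀ {X : Type} [Group X], SpR.Row X → Nonempty (N ≃* X) → False := fun h ⟨e⟩ => h G T H N m p hL hS hP e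
  rcases hQ with (q | q | q | q | q | q | q | ⟨F, _, _, ω, hF, hω, q⟩ | q | q | q | q | q | q | q | q | q | q | q | q | q |
    q | q | q | q | q) | q
  exacts [h (row_m11 hC hN B) q, h (row_m12 hC hN B) q, h (row_m22 hC hN B) q, h (row_m23 hC hN B) q,
    h (row_m24 hC hN B) q, h (row_j1 hC hN B) q, h (row_j2 hC hN B) q, h (row_j3 hC hN B hF hω) q, h (row_j4 hC hN B) q,
    h (row_co1 hC hN B) q, h (row_co2 hC hN B) q, h (row_co3 hC hN B) q, h (row_mcl hC hN B) q, h (row_hs hC hN B) q,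
    h (row_suz hC hN B) q, h (row_he hC hN B) q, h (row_ru hC hN B) q, h (row_on hC hN B) q, h (row_ly hC hN B) q,
    h (row_fi22 hC hN B) q, h (row_fi23 hC hN B) q, h (row_fi24 hC hN B) q, h (row_hn hC hN B) q, h (row_th hC hN B) q,
    h (row_b hC hN B) q, h (row_m hC hN B) q, h (row_tits hC hN B) q]

end Cfsg.Agent.TH.Sim
end

-- part: TH/Spor/NSuz_mg
section

end

-- part: TH/Spor/Main
section
set_option linter.all false

-- part: TH/Spor/NM11
section
/-!
# S3541, sporadic rows: M11 (helper26; generated by notes/TH/spor26/gen.py.txt)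
-/

set_option autoImplicit false
set_option Elab.async false

namespace Cfsg.Agent.TH.Spor.NM11

open Cfsg Cfsg.Agent.TAB.Eng Cfsg.Agent.H940.Eng

/-- the types of prime order -/
def P : St :=
  [(11, [(7, 1440, 0)]), (5, [(4, 1584, 0)]), (3, [(2, 440, 0)]), (2, [(1, 165, 0)])]

/-- the types -/
def Z : List Ze :=
  [(1, 2, 165, [1]), (2, 3, 440, [2]), (3, 4, 990, [1]), (4, 5, 1584, [4]), (5, 6, 1320, [2, 1]), (6, 8, 1980, [1]),
  (7, 11, 1440, [7])]

/-- local data, large primes -/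
def big : List LD :=
  []

/-- local data, the other primes -/
def sm : List LD :=
  [⟨11, 11, [(5, 1), (11, 1)]⟩, ⟨5, 5, [(2, 2), (5, 1)]⟩]

/-- the candidates -/
def SV : List (ℕ × ℕ) :=
  [(16, 2), (120, 5), (144, 3), (144, 6), (144, 9), (144, 18), (720, 5)]

/-- the data -/
def E : En :=
  ⟨7920, 2, P, Z, [(11, 1), (5, 1), (3, 2), (2, 4)], H940.Eng.D.o_m11, big ++ sm, SV⟩

theorem ok1 : okEn TAB.Sm2.M11.dat (TAB.Sm2.mkRows TAB.Sm2.M11.rA TAB.Sm2.M11.rB) [] E = true := by decide +kernel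

theorem okA : ∀ a ∈ divsT [], allA (leaf E) [(11, 1), (5, 1), (3, 2), (2, 4)] a = true :=
  Fast.allA_fast (L := sm) (fun _ h => List.mem_append_right _ h) [(2, 4, 48), (3, 2, 18), (5, 1, 5), (11, 1,
    5)] [(11, 5), (5, 5), (3, 18), (2, 48)] (by decide +kernel)

open Fast in
/-- candidates -/
noncomputable def CL0 : List (ℕ × ℕ × List Step) :=
  [cd 16 2 [st 0 0 (.ofNat 0) 0 17 1
      15],
  cd 120 5 [st 2 15 (.ofNat 0) 0 527 1
      526],
  cd 144 3 [st 0 0 (.ofNat 1) 0 521 3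
      3799656],
  cd 144 6 [st 0 0 (.ofNat 1) 0 527 3
      146089659],
  cd 144 9 [st 0 0 (.ofNat 0) 0 15 2
      202],
  cd 144 18 [st 0 0 (.ofNat 0) 0 9 1
      7],
  cd 720 5 [st 0 0 (.ofNat 1) 0 521 3
      3799656]]

theorem okC : ∀ x ∈ E.SV, ∃ CL, okL TAB.Sm2.M11.dat (TAB.Sm2.mkRows TAB.Sm2.M11.rA TAB.Sm2.M11.rB) E.j E.P E.Z CL = true ∧
    x ∈ CL.map fun x => (x.1, x.2.1) :=
  Fast.okC_of (CL0) (by decide +kernel) (by decide +kernel)

theorem okB : ∀ ld ∈ big, bigE E ld = true :=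
  fa_nil

/-- **no configuration** -/
theorem noW {K : Type} [Group K] [Finite K] (h : In K TAB.Sm2.M11.dat (TAB.Sm2.mkRows TAB.Sm2.M11.rA TAB.Sm2.M11.rB)) : NoW K 2 :=
  noW_of (E := E) boxCH h.inC ok1 (H940.Eng.D.ords_m11 base)
    (fun ld h => ⟨List.mem_append_left _ h, okB ld h⟩) (by decide +kernel) okA okC

end Cfsg.Agent.TH.Spor.NM11
end

-- part: TH/Spor/NM12
section
/-!
# S3541, sporadic rows: M12 (helper26; generated by notes/TH/spor26/gen.py.txt)
-/

set_option autoImplicit false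
set_option Elab.async false

namespace Cfsg.Agent.TH.Spor.NM12

open Cfsg Cfsg.Agent.TAB.Eng Cfsg.Agent.H940.Eng

/-- the types of prime order -/
def P : St :=
  [(11, [(13, 17280, 0)]), (5, [(7, 9504, 0)]), (3, [(3, 2640, 0), (4, 1760, 0)]), (2, [(1, 396, 0), (2, 495, 0)])]

/-- the types -/
def Z : List Ze :=
  [(1, 2, 396, [1]), (2, 2, 495, [2]), (3, 3, 2640, [3]), (4, 3, 1760, [4]), (5, 4, 2970, [2]), (6, 4, 2970, [2]),
  (7, 5, 9504, [7]), (8, 6, 7920, [3, 1]), (9, 6, 15840, [4, 2]), (10, 8, 11880, [2]), (11, 8, 11880, [2]), (12, 10,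
  9504, [7, 1]), (13, 11, 17280, [13])]

/-- local data, large primes -/
def big : List LD :=
  []

/-- local data, the other primes -/
def sm : List LD :=
  [⟨11, 11, [(5, 1), (11, 1)]⟩, ⟨5, 40, [(2, 3), (5, 1)]⟩]

/-- the candidates -/
def SV : List (ℕ × ℕ) :=
  [(64, 2), (64, 4), (432, 3), (576, 4), (1440, 5), (1728, 2), (1728, 3), (1728, 6), (1728, 9), (1728, 18), (1728,
  27), (2880, 4), (2880, 8), (2880, 16)]

/-- the data -/
def E : En :=
  ⟨95040, 2, P, Z, [(11, 1), (5, 1), (3, 3), (2, 6)], H940.Eng.D.o_m12, big ++ sm, SV⟩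

theorem ok1 : okEn TAB.Sm2.M12.dat (TAB.Sm2.mkRows TAB.Sm2.M12.rA TAB.Sm2.M12.rB) [] E = true := by decide +kernel

theorem okA : ∀ a ∈ divsT [], allA (leaf E) [(11, 1), (5, 1), (3, 3), (2, 6)] a = true :=
  Fast.allA_fast (L := sm) (fun _ h => List.mem_append_right _ h) [(2, 6, 240), (3, 3, 54), (5, 1, 10), (11, 1,
    5)] [(11, 5), (5, 10), (3, 54), (2, 240)] (by decide +kernel)

open Fast in
/-- candidates -/
noncomputable def CL0 : List (ℕ × ℕ × List Step) :=
  [cd 64 2 [st 0 0 (.ofNat 0) 0 27 2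
      698],
  cd 64 4 [st 0 0 (.ofNat 0) 0 27 2
      698],
  cd 432 3 [st 0 0 (.ofNat 3) 0 1049 5
      33903548475315],
  cd 576 4 [st 0 0 (.ofNat 0) 0 25 1
      23],
  cd 1440 5 [st 0 0 (.ofNat 9) 0 4119 5
      450198254869925030],
  cd 1728 2 [st 0 0 (.ofNat 9) 0 4119 5
      450198254869925030],
  cd 1728 3 [st 0 0 (.ofNat 9) 0 4119 5
      450198254869925030],
  cd 1728 6 [st 0 0 (.ofNat 9) 0 4119 5
      450198254869925030],
  cd 1728 9 [st 0 0 (.ofNat 3) 0 1559 5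
      165401413302863],
  cd 1728 18 [st 0 0 (.ofNat 3) 0 1559 5
      165401413302863],
  cd 1728 27 [st 0 0 (.ofNat 1) 0 519 2
      5189],
  cd 2880 4 [st 0 0 (.ofNat 9) 0 4631 5
      719342742037396559],
  cd 2880 8 [st 0 0 (.ofNat 9) 0 4631 5
      719342742037396559],
  cd 2880 16 [st 0 0 (.ofNat 9) 0 13847 9
      13874089403762261769187103455936613110]]

theorem okC : ∀ x ∈ E.SV, ∃ CL, okL TAB.Sm2.M12.dat (TAB.Sm2.mkRows TAB.Sm2.M12.rA TAB.Sm2.M12.rB) E.j E.P E.Z CL = true ∧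
    x ∈ CL.map fun x => (x.1, x.2.1) :=
  Fast.okC_of (CL0) (by decide +kernel) (by decide +kernel)

theorem okB : ∀ ld ∈ big, bigE E ld = true :=
  fa_nil

/-- **no configuration** -/
theorem noW {K : Type} [Group K] [Finite K] (h : In K TAB.Sm2.M12.dat (TAB.Sm2.mkRows TAB.Sm2.M12.rA TAB.Sm2.M12.rB)) : NoW K 2 :=
  noW_of (E := E) boxCH h.inC ok1 (H940.Eng.D.ords_m12 base)
    (fun ld h => ⟨List.mem_append_left _ h, okB ld h⟩) (by decide +kernel) okA okC

end Cfsg.Agent.TH.Spor.NM12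
end

-- part: TH/Spor/NM22
section
/-!
# S3541, sporadic rows: M22 (helper26; generated by notes/TH/spor26/gen.py.txt)
-/

set_option autoImplicit false
set_option Elab.async false

namespace Cfsg.Agent.TH.Spor.NM22

open Cfsg Cfsg.Agent.TAB.Eng Cfsg.Agent.H940.Eng

/-- the types of prime order -/
def P : St :=
  [(11, [(9, 80640, 0)]), (7, [(7, 126720, 0)]), (5, [(5, 88704, 0)]), (3, [(2, 12320, 36)]), (2, [(1, 1155, 0)])]

/-- the types -/
def Z : List Ze :=
  [(1, 2, 1155, [1]), (2, 3, 12320, [2]), (3, 4, 27720, [1]), (4, 4, 13860, [1]), (5, 5, 88704, [5]), (6, 6, 36960,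
  [2, 1]), (7, 7, 126720, [7]), (8, 8, 55440, [1]), (9, 11, 80640, [9])]

/-- local data, large primes -/
def big : List LD :=
  []

/-- local data, the other primes -/
def sm : List LD :=
  [⟨11, 11, [(5, 1), (11, 1)]⟩, ⟨7, 7, [(3, 1), (7, 1)]⟩, ⟨5, 5, [(2, 2), (5, 1)]⟩]

/-- the candidates -/
def SV : List (ℕ × ℕ) :=
  [(128, 2), (128, 4), (128, 8), (288, 9), (320, 5), (1152, 16), (1152, 32), (1152, 64), (1152, 128), (1920, 10),
  (2520, 35), (20160, 7)]

/-- the data -/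
def E : En :=
  ⟨443520, 2, P, Z, [(11, 1), (7, 1), (5, 1), (3, 2), (2, 7)], H940.Eng.D.o_m22, big ++ sm, SV⟩

theorem ok1 : okEn TAB.Sm2.M22.dat (TAB.Sm2.mkRows TAB.Sm2.M22.rA TAB.Sm2.M22.rB) [(2, 36)] E = true := by decide +kernel

theorem okA : ∀ a ∈ divsT [], allA (leaf E) [(11, 1), (7, 1), (5, 1), (3, 2), (2, 7)] a = true :=
  Fast.allA_fast (L := sm) (fun _ h => List.mem_append_right _ h) [(2, 7, 384), (3, 2, 36), (5, 1, 5), (7, 1,
    3), (11, 1, 5)] [(7, 3), (11, 5), (5, 5), (3, 36), (2, 384)] (by decide +kernel)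

open Fast in
/-- candidates -/
noncomputable def CL0 : List (ℕ × ℕ × List Step) :=
  [cd 128 2 [st 0 0 (.negSucc 242) 1 3 0
      0],
  cd 128 4 [st 0 0 (.negSucc 242) 1 3 0
      0],
  cd 128 8 [st 0 0 (.negSucc 6560) 17 3 0
      0],
  cd 288 9 [st 1 172 (.ofNat 0) 0 531 1
      530],
  cd 320 5 [st 1 282 (.ofNat 0) 0 531 1
      530],
  cd 1152 16 [st 0 0 (.ofNat 27) 0 13835 5
      375763923852193412087],
  cd 1152 32 [st 0 0 (.ofNat 27) 0 13835 5
      375763923852193412087],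
  cd 1152 64 [st 0 0 (.ofNat 27) 0 7183 3
      370606690023],
  cd 1152 128 [st 0 0 (.ofNat 1) 0 527 2
      277209],
  cd 1920 10 [st 2 24 (.ofNat 0) 0 531 3
      149719160],
  cd 2520 35 [st 0 0 (.ofNat 0) 0 4101 4
      248323252120906],
  cd 20160 7 [st 0 0 (.ofNat 1) 0 529 4
      2960714080]]

theorem okC : ∀ x ∈ E.SV, ∃ CL, okL TAB.Sm2.M22.dat (TAB.Sm2.mkRows TAB.Sm2.M22.rA TAB.Sm2.M22.rB) E.j E.P E.Z CL = true ∧
    x ∈ CL.map fun x => (x.1, x.2.1) :=
  Fast.okC_of (CL0) (by decide +kernel) (by decide +kernel)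

theorem okB : ∀ ld ∈ big, bigE E ld = true :=
  fa_nil

/-- **no configuration** -/
theorem noW {K : Type} [Group K] [Finite K] (h : InC K TAB.Sm2.M22.dat (TAB.Sm2.mkRows TAB.Sm2.M22.rA TAB.Sm2.M22.rB) [(2, 36)]) : NoW K 2 :=
  noW_of (E := E) boxCH h ok1 (H940.Eng.D.ords_m22 base)
    (fun ld h => ⟨List.mem_append_left _ h, okB ld h⟩) (by decide +kernel) okA okC

end Cfsg.Agent.TH.Spor.NM22
end

-- part: TH/Spor/NM23
section
/-!
# S3541, sporadic rows: M23 (helper26; generated by notes/TH/spor26/gen.py.txt)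
-/

set_option autoImplicit false
set_option Elab.async false

namespace Cfsg.Agent.TH.Spor.NM23

open Cfsg Cfsg.Agent.TAB.Eng Cfsg.Agent.H940.Eng

/-- the types of prime order -/
def P : St :=
  [(23, [(11, 887040, 0)]), (11, [(8, 1854720, 0)]), (7, [(6, 1457280, 0)]), (5, [(4, 680064, 0)]), (3, [(2, 56672,
  0)]), (2, [(1, 3795, 0)])]

/-- the types -/
def Z : List Ze :=
  [(1, 2, 3795, [1]), (2, 3, 56672, [2]), (3, 4, 318780, [1]), (4, 5, 680064, [4]), (5, 6, 850080, [2, 1]), (6, 7,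
  1457280, [6]), (7, 8, 1275120, [1]), (8, 11, 1854720, [8]), (9, 14, 1457280, [6, 1]), (10, 15, 1360128, [4, 2]),
  (11, 23, 887040, [11])]

/-- local data, large primes -/
def big : List LD :=
  []

/-- local data, the other primes -/
def sm : List LD :=
  [⟨23, 23, [(11, 1), (23, 1)]⟩, ⟨11, 11, [(5, 1), (11, 1)]⟩, ⟨7, 14, [(2, 1), (3, 1), (7, 1)]⟩, ⟨5, 15, [(2, 2), (3,
  1), (5, 1)]⟩]

/-- the candidates -/
def SV : List (ℕ × ℕ) :=
  [(128, 2), (360, 15), (5760, 10), (5760, 15), (5760, 30), (7920, 99), (40320, 21), (40320, 28), (40320, 42),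
  (40320, 63), (40320, 84), (40320, 126), (443520, 11)]

/-- the data -/
def E : En :=
  ⟨10200960, 2, P, Z, [(23, 1), (11, 1), (7, 1), (5, 1), (3, 2), (2, 7)], H940.Eng.D.o_m23, big ++ sm, SV⟩

theorem ok1 : okEn TAB.Sm2.M23.dat (TAB.Sm2.mkRows TAB.Sm2.M23.rA TAB.Sm2.M23.rB) [] E = true := by decide +kernel

theorem okA : ∀ a ∈ divsT [], allA (leaf E) [(23, 1), (11, 1), (7, 1), (5, 1), (3, 2), (2, 7)] a = true :=
  Fast.allA_fast (L := sm) (fun _ h => List.mem_append_right _ h) [(2, 7, 2688), (3, 2, 180), (5, 1, 15), (7, 1,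
    7), (11, 1, 5), (23, 1, 11)] [(11, 5), (7, 7), (23, 11), (5, 15), (3, 180), (2, 2688)] (by decide +kernel)

open Fast in
/-- candidates -/
noncomputable def CL0 : List (ℕ × ℕ × List Step) :=
  [cd 128 2 [st 0 0 (.ofNat 0) 0 23 1
      21],
  cd 360 15 [st 0 0 (.ofNat 0) 0 1037 2
      555830],
  cd 5760 10 [st 0 0 (.ofNat 3) 0 1549 3
      57585110],
  cd 5760 15 [st 0 0 (.ofNat 1) 0 13 2
      148],
  cd 5760 30 [st 0 0 (.ofNat 3) 0 1549 3
      57585110],
  cd 7920 99 [st 0 0 (.ofNat 3) 0 1037 3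
      575876171],
  cd 40320 21 [st 0 0 (.ofNat 9) 0 4103 3
      26219950700],
  cd 40320 28 [st 0 0 (.ofNat 9) 0 4103 3
      26219950700],
  cd 40320 42 [st 0 0 (.ofNat 9) 0 4103 3
      26219950700],
  cd 40320 63 [st 0 0 (.ofNat 3) 0 1047 3
      1146616820],
  cd 40320 84 [st 0 0 (.ofNat 9) 0 4103 3
      26219950700],
  cd 40320 126 [st 0 0 (.ofNat 3) 0 1047 3
      1146616820],
  cd 443520 11 [st 0 0 (.ofNat 3) 0 1559 7
      22378499018948236383464]]

theorem okC : ∀ x ∈ E.SV, ∃ CL, okL TAB.Sm2.M23.dat (TAB.Sm2.mkRows TAB.Sm2.M23.rA TAB.Sm2.M23.rB) E.j E.P E.Z CL = true ∧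
    x ∈ CL.map fun x => (x.1, x.2.1) :=
  Fast.okC_of (CL0) (by decide +kernel) (by decide +kernel)

theorem okB : ∀ ld ∈ big, bigE E ld = true :=
  fa_nil

/-- **no configuration** -/
theorem noW {K : Type} [Group K] [Finite K] (h : In K TAB.Sm2.M23.dat (TAB.Sm2.mkRows TAB.Sm2.M23.rA TAB.Sm2.M23.rB)) : NoW K 2 :=
  noW_of (E := E) boxCH h.inC ok1 (H940.Eng.D.ords_m23 base)
    (fun ld h => ⟨List.mem_append_left _ h, okB ld h⟩) (by decide +kernel) okA okC

end Cfsg.Agent.TH.Spor.NM23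
end

-- part: TH/Spor/NM24
section
/-!
# S3541, sporadic rows: M24 (helper26; generated by notes/TH/spor26/gen.py.txt)
-/

set_option autoImplicit false
set_option Elab.async false

namespace Cfsg.Agent.TH.Spor.NM24

open Cfsg Cfsg.Agent.TAB.Eng Cfsg.Agent.H940.Eng

/-- the types of prime order -/
def P : St :=
  [(23, [(20, 21288960, 0)]), (11, [(14, 22256640, 0)]), (7, [(11, 11658240, 0)]), (5, [(8, 4080384, 0)]), (3, [(3,
  226688, 0), (4, 485760, 0)]), (2, [(1, 11385, 0), (2, 31878, 0)])]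

/-- the types -/
def Z : List Ze :=
  [(1, 2, 11385, [1]), (2, 2, 31878, [2]), (3, 3, 226688, [3]), (4, 3, 485760, [4]), (5, 4, 637560, [1]), (6, 4,
  1912680, [1]), (7, 4, 2550240, [2]), (8, 5, 4080384, [8]), (9, 6, 10200960, [3, 1]), (10, 6, 10200960, [4, 2]),
  (11, 7, 11658240, [11]), (12, 8, 15301440, [1]), (13, 10, 12241152, [8, 2]), (14, 11, 22256640, [14]), (15, 12,
  20401920, [3, 1]), (16, 12, 20401920, [4, 2]), (17, 14, 34974720, [11, 1]), (18, 15, 32643072, [8, 3]), (19, 21,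
  23316480, [11, 4]), (20, 23, 21288960, [20])]

/-- local data, large primes -/
def big : List LD :=
  []

/-- local data, the other primes -/
def sm : List LD :=
  [⟨23, 23, [(11, 1), (23, 1)]⟩, ⟨11, 11, [(2, 1), (5, 1), (11, 1)]⟩, ⟨7, 126, [(2, 1), (3, 2), (7, 1)]⟩, ⟨5, 240,
  [(2, 4), (3, 1), (5, 1)]⟩]

/-- the candidates -/
def SV : List (ℕ × ℕ) :=
  [(1024, 2), (1024, 4), (3456, 9), (8640, 15), (13824, 3), (15840, 55), (64512, 14), (138240, 5), (138240, 10),
  (138240, 15), (138240, 30), (190080, 33), (190080, 99), (887040, 55), (967680, 7), (967680, 14), (967680, 18),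
  (967680, 21), (967680, 28), (967680, 36), (967680, 42), (967680, 63), (967680, 84), (967680, 126)]

/-- the data -/
def E : En :=
  ⟨244823040, 2, P, Z, [(23, 1), (11, 1), (7, 1), (5, 1), (3, 3), (2, 10)], H940.Eng.D.o_m24, big ++ sm, SV⟩

theorem ok1 : okEn TAB.Sm2.M24.dat (TAB.Sm2.mkRows TAB.Sm2.M24.rA TAB.Sm2.M24.rB) [] E = true := by decide +kernel

theorem okA : ∀ a ∈ divsT [], allA (leaf E) [(23, 1), (11, 1), (7, 1), (5, 1), (3, 3), (2, 10)] a = true :=
  Fast.allA_fast (L := sm) (fun _ h => List.mem_append_right _ h) [(2, 10, 21504), (3, 3, 1080), (5, 1, 60), (7,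
    1, 21), (11, 1, 11), (23, 1, 11)] [(23, 11), (11, 11), (7, 21), (5, 60), (3, 1080), (2, 21504)]
    (by decide +kernel)

open Fast in
/-- candidates -/
noncomputable def CL0 : List (ℕ × ℕ × List Step) :=
  [cd 1024 2 [st 0 0 (.ofNat 0) 0 1055 3
      1172038009],
  cd 1024 4 [st 0 0 (.ofNat 0) 0 23 1
      21],
  cd 3456 9 [st 0 0 (.negSucc 3) 0 4129 4
      38646183438991],
  cd 8640 15 [st 0 0 (.ofNat 0) 0 1057 5
      1317537728831841],
  cd 13824 3 [st 0 0 (.ofNat 1) 0 33 3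
      34127],
  cd 15840 55 [st 0 0 (.ofNat 0) 0 1057 5
      1316933098804279],
  cd 64512 14 [st 0 0 (.ofNat 1) 0 527 4
      3956804541],
  cd 138240 5 [st 0 0 (.ofNat 9) 0 4625 3
      44663624482],
  cd 138240 10 [st 0 0 (.ofNat 9) 0 4625 3
      44663624482],
  cd 138240 15 [st 0 0 (.ofNat 9) 0 4625 3
      44663624482],
  cd 138240 30 [st 0 0 (.ofNat 9) 0 4625 3
      44663624482],
  cd 190080 33 [st 0 0 (.ofNat 27) 0 13841 3
      1184689169186],
  cd 190080 99 [st 0 0 (.ofNat 27) 0 13841 3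
      1184689169186],
  cd 887040 55 [st 0 0 (.ofNat 9) 0 4647 8
      217430053920741274889886634896],
  cd 967680 7 [st 0 0 (.ofNat 8) 0 4103 12
      14426964211273304236353789701873094113013290],
  cd 967680 14 [st 0 0 (.ofNat 8) 0 4103 12
      14426964211273304236353789701873094113013290],
  cd 967680 18 [st 0 0 (.ofNat 8) 0 4103 14
      242883955906678505424358280014259267208112700167801],
  cd 967680 21 [st 0 0 (.ofNat 9) 0 4647 8
      217430053920741274889886634896],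
  cd 967680 28 [st 0 0 (.ofNat 8) 0 4103 12
      14426964211273304236353789701873094113013290],
  cd 967680 36 [st 0 0 (.ofNat 8) 0 4103 14
      242883955906678505424358280014259267208112700167801],
  cd 967680 42 [st 0 0 (.ofNat 9) 0 4647 8
      217430053920741274889886634896],
  cd 967680 63 [st 0 0 (.ofNat 9) 0 4647 8
      217430053920741274889886634896],
  cd 967680 84 [st 0 0 (.ofNat 9) 0 4647 8
      217430053920741274889886634896],
  cd 967680 126 [st 0 0 (.ofNat 9) 0 4647 8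
      217430053920741274889886634896]]

theorem okC : ∀ x ∈ E.SV, ∃ CL, okL TAB.Sm2.M24.dat (TAB.Sm2.mkRows TAB.Sm2.M24.rA TAB.Sm2.M24.rB) E.j E.P E.Z CL = true ∧
    x ∈ CL.map fun x => (x.1, x.2.1) :=
  Fast.okC_of (CL0) (by decide +kernel) (by decide +kernel)

theorem okB : ∀ ld ∈ big, bigE E ld = true :=
  fa_nil

/-- **no configuration** -/
theorem noW {K : Type} [Group K] [Finite K] (h : In K TAB.Sm2.M24.dat (TAB.Sm2.mkRows TAB.Sm2.M24.rA TAB.Sm2.M24.rB)) : NoW K 2 :=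
  noW_of (E := E) boxCH h.inC ok1 (H940.Eng.D.ords_m24 base)
    (fun ld h => ⟨List.mem_append_left _ h, okB ld h⟩) (by decide +kernel) okA okC

end Cfsg.Agent.TH.Spor.NM24
end

-- part: TH/Spor/NJ1
section
/-!
# S3541, sporadic rows: J1 (helper26; generated by notes/TH/spor26/gen.py.txt)
-/

set_option autoImplicit false
set_option Elab.async false

namespace Cfsg.Agent.TH.Spor.NJ1

open Cfsg Cfsg.Agent.TAB.Eng Cfsg.Agent.H940.Eng

/-- the types of prime order -/
def P : St :=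
  [(19, [(9, 27720, 0)]), (11, [(7, 15960, 0)]), (7, [(5, 25080, 0)]), (5, [(3, 11704, 0)]), (3, [(2, 5852, 0)]), (2,
  [(1, 1463, 0)])]

/-- the types -/
def Z : List Ze :=
  [(1, 2, 1463, [1]), (2, 3, 5852, [2]), (3, 5, 11704, [3]), (4, 6, 29260, [2, 1]), (5, 7, 25080, [5]), (6, 10,
  35112, [3, 1]), (7, 11, 15960, [7]), (8, 15, 23408, [3, 2]), (9, 19, 27720, [9])]

/-- local data, large primes -/
def big : List LD :=
  []

/-- local data, the other primes -/
def sm : List LD :=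
  [⟨19, 19, [(2, 1), (3, 1), (19, 1)]⟩, ⟨11, 11, [(2, 1), (5, 1), (11, 1)]⟩, ⟨7, 7, [(2, 1), (3, 1), (7, 1)]⟩, ⟨5,
  60, [(2, 2), (3, 1), (5, 1)]⟩, ⟨3, 60, [(2, 2), (3, 1), (5, 1)]⟩]

/-- the candidates -/
def SV : List (ℕ × ℕ) :=
  [(1320, 11), (1320, 22), (1320, 33), (1320, 44), (1320, 66)]

/-- the data -/
def E : En :=
  ⟨175560, 1, P, Z, [(19, 1), (11, 1), (7, 1), (5, 1), (3, 1), (2, 3)], H940.Eng.D.o_j1, big ++ sm, SV⟩

theorem ok1 : okEn TH.Spor.J1.dat TH.Spor.J1.tab [] E = true := by decide +kernel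

theorem okA : ∀ a ∈ divsT [], allA (leaf E) [(19, 1), (11, 1), (7, 1), (5, 1), (3, 1), (2, 3)] a = true :=
  Fast.allA_fast (L := sm) (fun _ h => List.mem_append_right _ h) [(2, 3, 120), (3, 1, 30), (5, 1, 15), (7, 1,
    7), (11, 1, 11), (19, 1, 6)] [(19, 6), (7, 7), (11, 11), (5, 15), (3, 30), (2, 120)] (by decide +kernel)

open Fast in
/-- candidates -/
noncomputable def CL0 : List (ℕ × ℕ × List Step) :=
  [cd 1320 11 [st 0 0 (.ofNat 1) 0 523 3
      143054101],
  cd 1320 22 [st 0 0 (.ofNat 1) 0 523 3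
      143054101],
  cd 1320 33 [st 0 0 (.ofNat 1) 0 523 2
      273013],
  cd 1320 44 [st 0 0 (.ofNat 1) 0 523 3
      143054101],
  cd 1320 66 [st 0 0 (.ofNat 1) 0 523 2
      273013]]

theorem okC : ∀ x ∈ E.SV, ∃ CL, okL TH.Spor.J1.dat TH.Spor.J1.tab E.j E.P E.Z CL = true ∧
    x ∈ CL.map fun x => (x.1, x.2.1) :=
  Fast.okC_of (CL0) (by decide +kernel) (by decide +kernel)

theorem okB : ∀ ld ∈ big, bigE E ld = true :=
  fa_nil

/-- **no configuration** -/
theorem noW {K : Type} [Group K] [Finite K] (h : In K TH.Spor.J1.dat TH.Spor.J1.tab) : NoW K 1 :=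
  noW_of (E := E) boxCH h.inC ok1 (H940.Eng.D.ords_j1 base)
    (fun ld h => ⟨List.mem_append_left _ h, okB ld h⟩) (by decide +kernel) okA okC

end Cfsg.Agent.TH.Spor.NJ1
end

-- part: TH/Spor/NJ3
section
/-!
# S3541, sporadic rows: J3 (helper26; generated by notes/TH/spor26/gen.py.txt)
-/

set_option autoImplicit false
set_option Elab.async false

namespace Cfsg.Agent.TH.Spor.NJ3

open Cfsg Cfsg.Agent.TAB.Eng Cfsg.Agent.H940.Eng

/-- the types of prime order -/
def P : St :=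
  [(19, [(13, 5287680, 0)]), (17, [(12, 5909760, 0)]), (5, [(5, 3348864, 0)]), (3, [(2, 46512, 0), (3, 206720, 0)]),
  (2, [(1, 26163, 0)])]

/-- the types -/
def Z : List Ze :=
  [(1, 2, 26163, [1]), (2, 3, 46512, [2]), (3, 3, 206720, [3]), (4, 4, 523260, [1]), (5, 5, 3348864, [5]), (6, 6,
  2093040, [2, 1]), (7, 8, 6279120, [1]), (8, 9, 5581440, [3]), (9, 10, 10046592, [5, 1]), (10, 12, 4186080, [2, 1]),
  (11, 15, 6697728, [5, 2]), (12, 17, 5909760, [12]), (13, 19, 5287680, [13])]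

/-- local data, large primes -/
def big : List LD :=
  []

/-- local data, the other primes -/
def sm : List LD :=
  [⟨19, 19, [(3, 2), (19, 1)]⟩, ⟨17, 17, [(2, 3), (17, 1)]⟩, ⟨5, 60, [(2, 2), (3, 1), (5, 1)]⟩]

/-- the candidates -/
def SV : List (ℕ × ℕ) :=
  [(1944, 27), (1944, 81), (4860, 15), (5760, 10), (5760, 20), (5760, 40), (5760, 80), (12960, 5), (31104, 2),
  (31104, 3), (31104, 6), (77760, 5), (77760, 15)]

/-- the data -/
def E : En :=
  ⟨50232960, 2, P, Z, [(19, 1), (17, 1), (5, 1), (3, 5), (2, 7)], H940.Eng.D.o_j3, big ++ sm, SV⟩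

theorem ok1 : okEn TH.Spor.J3.dat TH.Spor.J3.tab [] E = true := by decide +kernel

theorem okA : ∀ a ∈ divsT [], allA (leaf E) [(19, 1), (17, 1), (5, 1), (3, 5), (2, 7)] a = true :=
  Fast.allA_fast (L := sm) (fun _ h => List.mem_append_right _ h) [(2, 7, 1920), (3, 5, 1080), (5, 1, 15), (17,
    1, 8), (19, 1, 9)] [(17, 8), (19, 9), (5, 15), (3, 1080), (2, 1920)] (by decide +kernel)

open Fast in
/-- candidates -/
noncomputable def CL0 : List (ℕ × ℕ × List Step) :=
  [cd 1944 27 [st 0 0 (.ofNat 0) 0 21 1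
      19],
  cd 1944 81 [st 0 0 (.ofNat 0) 0 21 1
      19],
  cd 4860 15 [st 0 0 (.ofNat 0) 0 21 1
      19],
  cd 5760 10 [st 0 0 (.ofNat 0) 0 21 1
      19],
  cd 5760 20 [st 0 0 (.ofNat 0) 0 21 1
      19],
  cd 5760 40 [st 0 0 (.ofNat 0) 0 21 1
      19],
  cd 5760 80 [st 0 0 (.ofNat 0) 0 21 1
      19],
  cd 12960 5 [st 0 0 (.ofNat 0) 0 21 1
      19],
  cd 31104 2 [st 0 0 (.ofNat 0) 0 21 1
      19],
  cd 31104 3 [st 0 0 (.ofNat 3) 0 1033 2
      1065539],
  cd 31104 6 [st 0 0 (.ofNat 3) 0 1033 2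
      1065539],
  cd 77760 5 [st 0 0 (.ofNat 3) 0 1559 4
      3978573472617],
  cd 77760 15 [st 0 0 (.ofNat 3) 0 1559 4
      3978573472617]]

theorem okC : ∀ x ∈ E.SV, ∃ CL, okL TH.Spor.J3.dat TH.Spor.J3.tab E.j E.P E.Z CL = true ∧
    x ∈ CL.map fun x => (x.1, x.2.1) :=
  Fast.okC_of (CL0) (by decide +kernel) (by decide +kernel)

theorem okB : ∀ ld ∈ big, bigE E ld = true :=
  fa_nil

/-- **no configuration** -/
theorem noW {K : Type} [Group K] [Finite K] (h : In K TH.Spor.J3.dat TH.Spor.J3.tab) : NoW K 2 :=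
  noW_of (E := E) boxCH h.inC ok1 (H940.Eng.D.ords_j3 base)
    (fun ld h => ⟨List.mem_append_left _ h, okB ld h⟩) (by decide +kernel) okA okC

end Cfsg.Agent.TH.Spor.NJ3
end

-- part: TH/Spor/NJ4
section
/-!
# S3541, sporadic rows: J4 (helper26; generated by notes/TH/spor26/gen.py.txt)
-/

set_option autoImplicit false
set_option Elab.async false

namespace Cfsg.Agent.TH.Spor.NJ4

open Cfsg Cfsg.Agent.TAB.Eng Cfsg.Agent.H940.Eng

/-- the types of prime order -/
def P : St :=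
  [(43, [(41, 6054109607865876480, 0)]), (37, [(38, 7035857111844126720, 0)]), (31, [(35, 8397635907684925440, 0)]),
  (29, [(33, 2992261070554398720, 0)]), (23, [(30, 3772850915046850560, 0)]), (11, [(17, 2716490453483520, 0), (18,
  358576739859824640, 0)]), (7, [(11, 206608502490660864, 0)]), (5, [(7, 12913031405666304, 0)]), (3, [(3,
  32608665165824, 0)]), (2, [(1, 3980549947, 0), (2, 47766599364, 0)])]

/-- the types -/
def Z : List Ze :=
  [(1, 2, 3980549947, [1]), (2, 2, 47766599364, [2]), (3, 3, 32608665165824, [3]), (4, 4, 16049577386304, [1]), (5,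
  4, 882726756246720, [1]), (6, 4, 2017661157135360, [2]), (7, 5, 12913031405666304, [7]), (8, 6, 32608665165824, [3,
  1]), (9, 6, 37663008266526720, [3, 1]), (10, 6, 37663008266526720, [3, 2]), (11, 7, 206608502490660864, [11]), (12,
  8, 67793414879748096, [1]), (13, 8, 112989024799580160, [1]), (14, 8, 169483537199370240, [1]), (15, 10,
  90391219839664128, [7, 1]), (16, 10, 1084694638075969536, [7, 2]), (17, 11, 2716490453483520, [17]), (18, 11,
  358576739859824640, [18]), (19, 12, 451956099198320640, [3, 1]), (20, 12, 451956099198320640, [3, 1]), (21, 12,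
  1807824396793282560, [3, 2]), (22, 14, 2066085024906608640, [11, 1]), (23, 14, 3099127537359912960, [11, 2]), (24,
  15, 2892519034869252096, [7, 3]), (25, 16, 2711736595189923840, [1]), (26, 20, 1084694638075969536, [7, 1]), (27,
  21, 4132170049813217280, [11, 3]), (28, 22, 328695344871505920, [17, 1]), (29, 22, 3944344138458071040, [18, 2]),
  (30, 23, 3772850915046850560, [30]), (31, 24, 3615648793586565120, [3, 1]), (32, 28, 6198255074719825920, [11, 2]),
  (33, 29, 2992261070554398720, [33]), (34, 30, 2892519034869252096, [7, 3, 1]), (35, 31, 8397635907684925440, [35]),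
  (36, 33, 2629562758972047360, [17, 3]), (37, 35, 4958604059775860736, [11, 7]), (38, 37, 7035857111844126720,
  [38]), (39, 40, 4338778552303878144, [7, 1]), (40, 42, 4132170049813217280, [11, 3, 1]), (41, 43,
  6054109607865876480, [41]), (42, 44, 1972172069229035520, [17, 1]), (43, 66, 2629562758972047360, [17, 3, 1])]

/-- local data, large primes -/
def big : List LD :=
  [⟨43, 43, [(2, 1), (7, 1), (43, 1)]⟩, ⟨37, 37, [(2, 2), (3, 1), (37, 1)]⟩, ⟨31, 31, [(2, 1), (5, 1), (31, 1)]⟩,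
  ⟨29, 29, [(2, 2), (7, 1), (29, 1)]⟩, ⟨23, 23, [(2, 1), (11, 1), (23, 1)]⟩]

/-- local data, the other primes -/
def sm : List LD :=
  [⟨7, 2520, [(2, 3), (3, 2), (5, 1), (7, 1)]⟩, ⟨5, 26880, [(2, 8), (3, 1), (5, 1), (7, 1)]⟩]

/-- the candidates -/
def SV : List (ℕ × ℕ) :=
  [(2097152, 2), (2097152, 4), (2097152, 8), (56623104, 6), (56623104, 18)]

/-- the data -/
def E : En :=
  ⟨86775571046077562880, 2, P, Z, [(43, 1), (37, 1), (31, 1), (29, 1), (23, 1), (11, 3), (7, 1), (5, 1), (3, 3), (2,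
  21)], H940.Eng.D.o_j4, big ++ sm, SV⟩

theorem ok1 : okEn TAB.J4.D TAB.J4.RR [] E = true := by decide +kernel

theorem okA : ∀ a ∈ divsT [], allA (leaf E) [(11, 3), (7, 1), (5, 1), (3, 3), (2, 21)] a = true :=
  Fast.allA_fast (L := sm) (fun _ h => List.mem_append_right _ h) [(2, 21, 21799895040), (3, 3, 2661120), (5, 1,
    6720), (7, 1, 420), (11, 3, 31944)] [(7, 420), (5, 6720), (11, 31944), (3, 2661120), (2, 21799895040)]
    (by decide +kernel)

theorem okB43 : bigE E ⟨43, 43, [(2, 1), (7, 1), (43, 1)]⟩ = true := by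
  decide +kernel

theorem okB37 : bigE E ⟨37, 37, [(2, 2), (3, 1), (37, 1)]⟩ = true := by
  decide +kernel

theorem okB31 : bigE E ⟨31, 31, [(2, 1), (5, 1), (31, 1)]⟩ = true := by
  decide +kernel

theorem okB29 : bigE E ⟨29, 29, [(2, 2), (7, 1), (29, 1)]⟩ = true := by
  decide +kernel

theorem okB23 : bigE E ⟨23, 23, [(2, 1), (11, 1), (23, 1)]⟩ = true := by
  decide +kernel

open Fast in
/-- candidates -/
noncomputable def CL0 : List (ℕ × ℕ × List Step) :=
  [cd 2097152 2 [st 0 0 (.ofNat 0) 0 79 1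
      77],
  cd 2097152 4 [st 0 0 (.ofNat 0) 0 79 1
      77],
  cd 2097152 8 [st 0 0 (.ofNat 0) 0 79 1
      77],
  cd 56623104 6 [st 0 0 (.ofNat 0) 0 79 1
      77],
  cd 56623104 18 [st 0 0 (.ofNat 0) 0 79 1
      77]]

theorem okC : ∀ x ∈ E.SV, ∃ CL, okL TAB.J4.D TAB.J4.RR E.j E.P E.Z CL = true ∧
    x ∈ CL.map fun x => (x.1, x.2.1) :=
  Fast.okC_of (CL0) (by decide +kernel) (by decide +kernel)

theorem okB : ∀ ld ∈ big, bigE E ld = true :=
  fa_cons okB43 <| fa_cons okB37 <| fa_cons okB31 <| fa_cons okB29 <|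
  fa_cons okB23 <| fa_nil

/-- **no configuration** -/
theorem noW {K : Type} [Group K] [Finite K] (h : In K TAB.J4.D TAB.J4.RR) : NoW K 2 :=
  noW_of (E := E) boxCH h.inC ok1 (H940.Eng.D.ords_j4 base)
    (fun ld h => ⟨List.mem_append_left _ h, okB ld h⟩) (by decide +kernel) okA okC

end Cfsg.Agent.TH.Spor.NJ4
end

-- part: TH/Spor/NON
section
/-!
# S3541, sporadic rows: ON (helper26; generated by notes/TH/spor26/gen.py.txt)
-/

set_option autoImplicit false
set_option Elab.async false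

namespace Cfsg.Agent.TH.Spor.NON

open Cfsg Cfsg.Agent.TAB.Eng Cfsg.Agent.H940.Eng

/-- the types of prime order -/
def P : St :=
  [(31, [(21, 29730032640, 0)]), (19, [(18, 72760343040, 0)]), (11, [(12, 41892318720, 0)]), (7, [(7, 335871360, 0),
  (8, 9404398080, 0)]), (5, [(5, 2560086144, 0)]), (3, [(2, 142227008, 0)]), (2, [(1, 2857239, 0)])]

/-- the types -/
def Z : List Ze :=
  [(1, 2, 2857239, [1]), (2, 3, 142227008, [2]), (3, 4, 5714478, [1]), (4, 4, 1800060570, [1]), (5, 5, 2560086144,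
  [5]), (6, 6, 6400215360, [2, 1]), (7, 7, 335871360, [7]), (8, 7, 9404398080, [8]), (9, 8, 14400484560, [1]), (10,
  8, 14400484560, [1]), (11, 10, 23040775296, [5, 1]), (12, 11, 41892318720, [12]), (13, 12, 12800430720, [2, 1]),
  (14, 14, 16457696640, [7, 1]), (15, 15, 20480689152, [5, 2]), (16, 16, 57601938240, [1]), (17, 16, 57601938240,
  [1]), (18, 19, 72760343040, [18]), (19, 20, 46081550592, [5, 1]), (20, 28, 32915393280, [7, 1]), (21, 31,
  29730032640, [21])]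

/-- local data, large primes -/
def big : List LD :=
  []

/-- local data, the other primes -/
def sm : List LD :=
  [⟨31, 31, [(3, 1), (5, 1), (31, 1)]⟩, ⟨19, 19, [(2, 1), (3, 1), (19, 1)]⟩, ⟨11, 11, [(2, 1), (5, 1), (11, 1)]⟩, ⟨5,
  720, [(2, 4), (3, 2), (5, 1)]⟩]

/-- the candidates -/
def SV : List (ℕ × ℕ) :=
  [(41472, 6), (41472, 12), (3753792, 133)]

/-- the data -/
def E : En :=
  ⟨460815505920, 2, P, Z, [(31, 1), (19, 1), (11, 1), (7, 3), (5, 1), (3, 4), (2, 9)], H940.Eng.D.o_opn, big ++ sm,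
  SV⟩

theorem ok1 : okEn TAB.ON.dON TAB.ON.tabON [] E = true := by decide +kernel

theorem okA : ∀ a ∈ divsT [], allA (leaf E) [(31, 1), (19, 1), (11, 1), (7, 3), (5, 1), (3, 4), (2, 9)] a = true :=
  Fast.allA_fast (L := sm) (fun _ h => List.mem_append_right _ h) [(2, 9, 161280), (3, 4, 3240), (5, 1, 180),
    (7, 3, 1372), (11, 1, 11), (19, 1, 6), (31, 1, 15)] [(19, 6), (11, 11), (31, 15), (5, 180), (7, 1372), (3,
    3240), (2, 161280)] (by decide +kernel)

open Fast in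
/-- candidates -/
noncomputable def CL0 : List (ℕ × ℕ × List Step) :=
  [cd 41472 6 [st 0 0 (.ofNat 0) 0 43 1
      41],
  cd 41472 12 [st 0 0 (.ofNat 0) 0 43 1
      41],
  cd 3753792 133 [st 0 0 (.ofNat 243) 0 109093 7
      105361555012173961896183060254218441]]

theorem okC : ∀ x ∈ E.SV, ∃ CL, okL TAB.ON.dON TAB.ON.tabON E.j E.P E.Z CL = true ∧
    x ∈ CL.map fun x => (x.1, x.2.1) :=
  Fast.okC_of (CL0) (by decide +kernel) (by decide +kernel)

theorem okB : ∀ ld ∈ big, bigE E ld = true :=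
  fa_nil

/-- **no configuration** -/
theorem noW {K : Type} [Group K] [Finite K] (h : In K TAB.ON.dON TAB.ON.tabON) : NoW K 2 :=
  noW_of (E := E) boxCH h.inC ok1 (H940.Eng.D.ords_opn base)
    (fun ld h => ⟨List.mem_append_left _ h, okB ld h⟩) (by decide +kernel) okA okC

end Cfsg.Agent.TH.Spor.NON
end

-- part: TH/Spor/NTits
section
/-!
# S3541, sporadic rows: Tits (helper26; generated by notes/TH/spor26/gen.py.txt)
-/

set_option autoImplicit false
set_option Elab.async false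

namespace Cfsg.Agent.TH.Spor.NTits

open Cfsg Cfsg.Agent.TAB.Eng Cfsg.Agent.H940.Eng

/-- the types of prime order -/
def P : St :=
  [(13, [(13, 2764800, 0)]), (5, [(7, 359424, 0)]), (3, [(3, 166400, 0)]), (2, [(1, 1755, 0), (2, 11700, 0)])]

/-- the types -/
def Z : List Ze :=
  [(1, 2, 1755, [1]), (2, 2, 11700, [2]), (3, 3, 166400, [3]), (4, 4, 93600, [2]), (5, 4, 280800, [2]), (6, 4,
  140400, [1]), (7, 5, 359424, [7]), (8, 6, 1497600, [3, 2]), (9, 8, 1123200, [1]), (10, 8, 2246400, [2]), (11, 10,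
  1797120, [7, 1]), (12, 12, 2995200, [3, 2]), (13, 13, 2764800, [13]), (14, 16, 4492800, [1])]

/-- local data, large primes -/
def big : List LD :=
  []

/-- local data, the other primes -/
def sm : List LD :=
  [⟨13, 13, [(2, 1), (3, 1), (13, 1)]⟩]

/-- the candidates -/
def SV : List (ℕ × ℕ) :=
  [(864, 3), (864, 9), (2048, 2), (3200, 5), (3456, 3), (11232, 39), (13824, 3), (43200, 5), (51200, 5), (51200, 10),
  (51200, 25), (51200, 50), (55296, 3), (55296, 4), (55296, 6), (55296, 9), (55296, 12), (55296, 18), (55296, 27),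
  (55296, 36), (55296, 54), (55296, 108), (86400, 9), (115200, 5), (124800, 13), (138240, 3), (153600, 4), (276480,
  2), (276480, 4), (276480, 8), (276480, 16), (276480, 32), (345600, 3), (460800, 2), (691200, 5), (1382400, 2),
  (1382400, 3), (1382400, 4), (1382400, 6)]

/-- the data -/
def E : En :=
  ⟨17971200, 2, P, Z, [(13, 1), (5, 2), (3, 3), (2, 11)], [60, 360, 5616, 7800, 62400, 17971200], big ++ sm, SV⟩

theorem ok1 : okEn TAB.Sm2.Tits.dat (TAB.Sm2.mkRows TAB.Sm2.Tits.rA TAB.Sm2.Tits.rB) [] E = true := by decide +kernel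

theorem okA : ∀ a ∈ divsT [], allA (leaf E) [(13, 1), (5, 2), (3, 3), (2, 11)] a = true :=
  Fast.allA_fast (L := sm) (fun _ h => List.mem_append_right _ h) [(2, 11, 10240), (3, 3, 108), (5, 2, 50), (13,
    1, 6)] [(13, 6), (5, 50), (3, 108), (2, 10240)] (by decide +kernel)

open Fast in
/-- candidates -/
noncomputable def CL0 : List (ℕ × ℕ × List Step) :=
  [cd 864 3 [st 0 0 (.ofNat 0) 0 4123 2
      16994482],
  cd 864 9 [st 0 0 (.ofNat 0) 0 4123 2
      16994482],
  cd 2048 2 [st 0 0 (.ofNat 0) 0 31 1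
      29],
  cd 3200 5 [st 0 0 (.ofNat 0) 0 1037 6
      34808788034267113],
  cd 3456 3 [st 0 0 (.ofNat 9) 0 4617 3
      33287249537],
  cd 11232 39 [st 1 320 (.ofNat 0) 0 527 1
      526,
    st 0 0 (.ofNat 9) 0 4619 5
      708882760051652845],
  cd 13824 3 [st 0 0 (.ofNat 1) 0 531 4
      3593036442],
  cd 43200 5 [st 0 0 (.ofNat 1) 0 541 5
      46341495411834],
  cd 51200 5 [st 0 0 (.ofNat 9) 0 2567 7
      301119768208066554985457],
  cd 51200 10 [st 0 0 (.ofNat 9) 0 2567 7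
      301119768208066554985457],
  cd 51200 25 [st 0 0 (.ofNat 9) 0 4615 4
      253875651332036],
  cd 51200 50 [st 0 0 (.ofNat 2) 0 1553 7
      7524387884754988129095],
  cd 55296 3 [st 0 0 (.ofNat 9) 0 4627 7
      267170657545354127380378],
  cd 55296 4 [st 0 0 (.ofNat 9) 0 4627 4
      205747700444817],
  cd 55296 6 [st 0 0 (.ofNat 9) 0 4627 4
      205747700444817],
  cd 55296 9 [st 0 0 (.ofNat 9) 0 4627 7
      267170657545354127380378],
  cd 55296 12 [st 0 0 (.ofNat 9) 0 4627 4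
      205747700444817],
  cd 55296 18 [st 0 0 (.ofNat 9) 0 4627 4
      205747700444817],
  cd 55296 27 [st 0 0 (.ofNat 7) 0 4623 6
      5457652759882201241608],
  cd 55296 36 [st 0 0 (.ofNat 9) 0 4627 4
      205747700444817],
  cd 55296 54 [st 0 0 (.ofNat 6) 0 4623 7
      10255664745884410080006705],
  cd 55296 108 [st 0 0 (.ofNat 6) 0 4623 7
      10255664745884410080006705],
  cd 86400 9 [st 0 0 (.ofNat 1) 0 541 5
      46341495411834],
  cd 115200 5 [st 0 0 (.ofNat 1) 0 541 5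
      46341495411834],
  cd 124800 13 [st 7 12 (.negSucc 5) 0 4103 9
      84605292200815395171547735061699]]

open Fast in
/-- candidates -/
noncomputable def CL1 : List (ℕ × ℕ × List Step) :=
  [cd 138240 3 [st 0 0 (.ofNat 1) 0 541 5
      46341495411834],
  cd 153600 4 [st 0 0 (.ofNat 1) 0 541 5
      46341495411834],
  cd 276480 2 [st 0 0 (.ofNat 1) 0 541 5
      46341495411834],
  cd 276480 4 [st 0 0 (.ofNat 1) 0 541 5
      46341495411834],
  cd 276480 8 [st 0 0 (.ofNat 1) 0 541 5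
      46341495411834],
  cd 276480 16 [st 0 0 (.ofNat 1) 0 541 5
      46341495411834],
  cd 276480 32 [st 0 0 (.ofNat 1) 0 541 5
      46341495411834],
  cd 345600 3 [st 0 0 (.ofNat 1) 0 541 5
      46341495411834],
  cd 460800 2 [st 0 0 (.ofNat 1) 0 541 5
      46341495411834],
  cd 691200 5 [st 0 0 (.ofNat 1) 0 541 5
      46341495411834],
  cd 1382400 2 [st 0 0 (.ofNat 1) 0 541 5
      46341495411834],
  cd 1382400 3 [st 0 0 (.ofNat 1) 0 541 5
      46341495411834],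
  cd 1382400 4 [st 0 0 (.ofNat 1) 0 541 5
      46341495411834],
  cd 1382400 6 [st 0 0 (.ofNat 1) 0 541 5
      46341495411834]]

theorem okC : ∀ x ∈ E.SV, ∃ CL, okL TAB.Sm2.Tits.dat (TAB.Sm2.mkRows TAB.Sm2.Tits.rA TAB.Sm2.Tits.rB) E.j E.P E.Z CL = true ∧
    x ∈ CL.map fun x => (x.1, x.2.1) :=
  Fast.okC_of (CL0 ++ CL1) (by decide +kernel) (by decide +kernel)

theorem okB : ∀ ld ∈ big, bigE E ld = true :=
  fa_nil

/-- **no configuration** -/
theorem noW {K : Type} [Group K] [Finite K] (h : In K TAB.Sm2.Tits.dat (TAB.Sm2.mkRows TAB.Sm2.Tits.rA TAB.Sm2.Tits.rB)) : NoW K 2 :=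
  noW_of (E := E) boxCH h.inC ok1 (ords_of base (l := [(2, 11), (3, 3), (5, 2), (13, 1)]) (by decide +kernel) (by decide +kernel))
    (fun ld h => ⟨List.mem_append_left _ h, okB ld h⟩) (by decide +kernel) okA okC

end Cfsg.Agent.TH.Spor.NTits
end

-- part: TH/Spor/Main
section
/-!
# S3541: the sporadic rows and the row of the Tits group (helper26)
-/

set_option autoImplicit false

namespace Cfsg.Agent.TH.Spor

open Cfsg

/-- the 26 rows -/
theorem rows26 : Rows26 where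
  m11 := noRow_of (fun _ _ h => .inr <| .inl h)
    fun _ _ _ _ h => NM11.noW (in_m11 h)
  m12 := noRow_of (fun _ _ h => .inr <| .inr <| .inl h)
    fun _ _ _ _ h => NM12.noW (in_m12 h)
  m22 := noRow_of (fun _ _ h => .inr <| .inr <| .inr <| .inl h)
    fun _ _ _ _ h => NM22.noW (inC_m22 h)
  m23 := noRow_of (fun _ _ h => .inr <| .inr <| .inr <| .inr <| .inl h)
    fun _ _ _ _ h => NM23.noW (in_m23 h)
  m24 := noRow_of (fun _ _ h => .inr <| .inr <| .inr <| .inr <| .inr <| .inl h)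
    fun _ _ _ _ h => NM24.noW (in_m24 h)
  j1 := noRow_of' one_pos (fun _ _ _ h => (out_j1 h).dvd) fun _ _ _ _ h => NJ1.noW (in_j1 h)
  j2 := noRow_of (fun _ _ h => .inr <| .inr <| .inr <| .inr <| .inr <| .inr <| .inr <| .inl h)
    fun _ _ _ _ h => NJ2.noW (in_j2 h)
  j3 := noRow_of (fun _ _ h => .inr <| .inr <| .inr <| .inr <| .inr <| .inr <| .inr <| .inr <| .inl h)
    fun _ _ _ _ h => NJ3.noW (in_j3 h)
  j4 := noRow_of (fun _ _ h => .inr <| .inr <| .inr <| .inr <| .inr <| .inr <| .inr <| .inr <| .inr <| .inl h)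
    fun _ _ _ _ h => NJ4.noW (in_j4 h)
  co1 := noRow_of (fun _ _ h => .inr <| .inr <| .inr <| .inr <| .inr <| .inr <| .inr <| .inr <| .inr <| .inr <| .inl h)
    fun _ _ _ _ h => NCo1.noW (in_co1 h)
  co2 := noRow_of (fun _ _ h => .inr <| .inr <| .inr <| .inr <| .inr <| .inr <| .inr <| .inr <| .inr <| .inr <| .inr <| .inl h)
    fun _ _ _ _ h => NCo2.noW (in_co2 h)
  co3 := noRow_of (fun _ _ h => .inr <| .inr <| .inr <| .inr <| .inr <| .inr <| .inr <| .inr <| .inr <| .inr <| .inr <| .inr <| .inl h)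
    fun _ _ _ _ h => NCo3.noW (in_co3 h)
  mcl := noRow_of (fun _ _ h => .inr <| .inr <| .inr <| .inr <| .inr <| .inr <| .inr <| .inr <| .inr <| .inr <| .inr <| .inr <| .inr <| .inl h)
    fun _ _ _ _ h => NMcL.noW (in_mcl h)
  hs := noRow_of (fun _ _ h => .inr <| .inr <| .inr <| .inr <| .inr <| .inr <| .inr <| .inr <| .inr <| .inr <| .inr <| .inr <| .inr <| .inr <|
      .inl h)
    fun _ _ _ _ h => NHS.noW (in_hs h)
  suz := noRow_of (fun _ _ h => .inr <| .inr <| .inr <| .inr <| .inr <| .inr <| .inr <| .inr <| .inr <| .inr <| .inr <| .inr <| .inr <| .inr <|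
      .inr <| .inl h)
    fun _ _ _ _ h => NSuz.noW (in_suz h)
  he := noRow_of (fun _ _ h => .inr <| .inr <| .inr <| .inr <| .inr <| .inr <| .inr <| .inr <| .inr <| .inr <| .inr <| .inr <| .inr <| .inr <|
      .inr <| .inr <| .inl h)
    fun _ _ _ _ h => NHe.noW (in_he h)
  ru := noRow_of (fun _ _ h => .inr <| .inr <| .inr <| .inr <| .inr <| .inr <| .inr <| .inr <| .inr <| .inr <| .inr <| .inr <| .inr <| .inr <|
      .inr <| .inr <| .inr <| .inl h)
    fun _ _ _ _ h => NRu.noW (in_ru h)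
  on := noRow_of (fun _ _ h => .inr <| .inr <| .inr <| .inr <| .inr <| .inr <| .inr <| .inr <| .inr <| .inr <| .inr <| .inr <| .inr <| .inr <|
      .inr <| .inr <| .inr <| .inr <| .inl h)
    fun _ _ _ _ h => NON.noW (in_on h)
  ly := noRow_of (fun _ _ h => .inr <| .inr <| .inr <| .inr <| .inr <| .inr <| .inr <| .inr <| .inr <| .inr <| .inr <| .inr <| .inr <| .inr <|
      .inr <| .inr <| .inr <| .inr <| .inr <| .inl h)
    fun _ _ _ _ h => NLy.noW (in_ly h)
  fi22 := noRow_of (fun _ _ h => .inr <| .inr <| .inr <| .inr <| .inr <| .inr <| .inr <| .inr <| .inr <| .inr <| .inr <| .inr <| .inr <| .inr <|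
      .inr <| .inr <| .inr <| .inr <| .inr <| .inr <| .inl h)
    fun _ _ _ _ h => NFi22.noW (in_fi22 h)
  fi23 := noRow_of (fun _ _ h => .inr <| .inr <| .inr <| .inr <| .inr <| .inr <| .inr <| .inr <| .inr <| .inr <| .inr <| .inr <| .inr <| .inr <|
      .inr <| .inr <| .inr <| .inr <| .inr <| .inr <| .inr <| .inl h)
    fun _ _ _ _ h => NFi23.noW (in_fi23 TAB.F23C.inF23 h)
  fi24 := noRow_of (fun _ _ h => .inr <| .inr <| .inr <| .inr <| .inr <| .inr <| .inr <| .inr <| .inr <| .inr <| .inr <| .inr <| .inr <| .inr <|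
      .inr <| .inr <| .inr <| .inr <| .inr <| .inr <| .inr <| .inr <| .inl h)
    fun _ _ _ _ h => NFi24.noW (in_fi24 TAB.F24C.inF24 h)
  hn := noRow_of (fun _ _ h => .inr <| .inr <| .inr <| .inr <| .inr <| .inr <| .inr <| .inr <| .inr <| .inr <| .inr <| .inr <| .inr <| .inr <|
      .inr <| .inr <| .inr <| .inr <| .inr <| .inr <| .inr <| .inr <| .inr <| .inl h)
    fun _ _ _ _ h => NHN.noW (in_hn h)
  th := noRow_of (fun _ _ h => .inr <| .inr <| .inr <| .inr <| .inr <| .inr <| .inr <| .inr <| .inr <| .inr <| .inr <| .inr <| .inr <| .inr <|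
      .inr <| .inr <| .inr <| .inr <| .inr <| .inr <| .inr <| .inr <| .inr <| .inr <| .inl h)
    fun _ _ _ _ h => NTh.noW (in_th h)
  b := noRow_of (fun _ _ h => .inr <| .inr <| .inr <| .inr <| .inr <| .inr <| .inr <| .inr <| .inr <| .inr <| .inr <| .inr <| .inr <| .inr <|
      .inr <| .inr <| .inr <| .inr <| .inr <| .inr <| .inr <| .inr <| .inr <| .inr <| .inr <| .inl h)
    fun _ _ _ _ h => NB.noW (in_b h)
  m := noRow_of (fun _ _ h => .inr <| .inr <| .inr <| .inr <| .inr <| .inr <| .inr <| .inr <| .inr <| .inr <| .inr <| .inr <| .inr <| .inr <|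
      .inr <| .inr <| .inr <| .inr <| .inr <| .inr <| .inr <| .inr <| .inr <| .inr <| .inr <| .inr <| h)
    fun _ _ _ _ h => NM.noW (in_m h)

end Cfsg.Agent.TH.Spor

namespace Cfsg.Agent.TH

/-- **the sporadic groups** -/
theorem rowSpor : RowSpor := Spor.rowSpor_of Spor.rows26

/-- **the Tits group** -/
theorem rowTits : RowTits := Spor.noRow_of (fun _ _ h => .inl h) fun _ _ _ _ h => Spor.NTits.noW (Spor.in_tits h)

end Cfsg.Agent.TH
end
end
end
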